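import Cfsg.Agent.Lib.ClassicalGroups.UnitarySimple

/-! Vectors of three coordinates over the field with twenty-five elements, coded by digits to base 25:
the digit `a + 5 b` stands for `a + b w`, where `w ^ 2 = 2`. -/

set_option autoImplicit false
set_option linter.unusedSectionVars false

namespace CfsgLib.Sporadic.ConwayPsu35

open Matrix CfsgLib.ClassicalGroups

/-- The sum of two digits. -/
noncomputable def addC (a b : ℕ) : ℕ := (a % 5 + b % 5) % 5 + 5 * ((a / 5 + b / 5) % 5)

/-- The product of two digits. -/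
noncomputable def mulC (a b : ℕ) : ℕ :=
  (a % 5 * (b % 5) + 2 * (a / 5 * (b / 5))) % 5 + 5 * ((a % 5 * (b / 5) + a / 5 * (b % 5)) % 5)

/-- The conjugate of a digit. -/
noncomputable def conjC (a : ℕ) : ℕ := a % 5 + 5 * (4 * (a / 5) % 5)

/-- The coordinate of a code. -/
noncomputable def coord (v i : ℕ) : ℕ := v / 25 ^ i % 25

/-- The form on codes. -/
noncomputable def hermC (u v : ℕ → ℕ) : ℕ :=
  addC (addC (mulC (u 0) (conjC (v 0))) (mulC (u 1) (conjC (v 1)))) (mulC (u 2) (conjC (v 2)))

/-- The coordinates of an image under a transvection. -/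
noncomputable def tvC (v c u i : ℕ) : ℕ :=
  addC (coord u i) (mulC (mulC c (hermC (coord u) (coord v))) (coord v i))

variable {F : Type*} [Field F] [Fintype F]

/-- The element of a digit. -/
def el (w : F) (n : ℕ) : F := ((n % 5 : ℕ) : F) + ((n / 5 : ℕ) : F) * w

/-- The vector of coordinate digits. -/
def vecF (w : F) (u : ℕ → ℕ) : Fin 3 → F := fun i => el w (u i.1)

/-- The vector of a code. -/
noncomputable def vec (w : F) (v : ℕ) : Fin 3 → F := vecF w (coord v)

variable (hF : Fintype.card F = 5 ^ 2) {w : F} (hw : w ^ 2 = 2)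
include hF hw

theorem charFive : CharP F 5 :=
  haveI : Fact (Nat.Prime 5) := ⟨by norm_num⟩
  charP_of_card_eq_prime_pow hF

theorem cast_mod (n : ℕ) : ((n % 5 : ℕ) : F) = (n : F) := by
  have := charFive hF hw
  exact (CharP.cast_eq_mod F 5 n).symm

theorem five_eq_zero : (5 : F) = 0 := by
  have := charFive hF hw
  exact_mod_cast CharP.cast_eq_zero F 5

theorem el_mk (a b : ℕ) : el w (a % 5 + 5 * (b % 5)) = (a : F) + (b : F) * w := by
  have h1 : (a % 5 + 5 * (b % 5)) % 5 = a % 5 := by omega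
  have h2 : (a % 5 + 5 * (b % 5)) / 5 = b % 5 := by omega
  rw [el, h1, h2, cast_mod hF hw, cast_mod hF hw]

theorem el_addC (a b : ℕ) : el w (addC a b) = el w a + el w b := by
  rw [addC, el_mk hF hw]
  simp only [el, Nat.cast_add]
  ring

theorem el_mulC (a b : ℕ) : el w (mulC a b) = el w a * el w b := by
  rw [mulC, el_mk hF hw]
  simp only [el, Nat.cast_add, Nat.cast_mul, Nat.cast_ofNat]
  linear_combination (-(((a / 5 : ℕ) : F) * ((b / 5 : ℕ) : F))) * hw

theorem el_conjC (a : ℕ) : el w (conjC a) = el w a ^ 5 := by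
  have h := charFive hF hw
  have : Fact (Nat.Prime 5) := ⟨by norm_num⟩
  rw [conjC, el_mk hF hw]
  simp only [el, Nat.cast_mul, Nat.cast_ofNat]
  rw [add_pow_char, mul_pow]
  have e1 : ∀ x : ℕ, (x : F) ^ 5 = x := fun x => by
    rw [← frobenius_def, map_natCast]
  rw [e1, e1, ← cast_mod hF hw a]
  linear_combination (-(((a / 5 : ℕ) : F) * w * (w ^ 2 + 2))) * hw

theorem el_eq_zero {n : ℕ} (hn : n < 25) (h : el w n = 0) : n = 0 := by
  have := charFive hF hw
  have e : ((n % 5 * (n % 5) + 3 * (n / 5 * (n / 5)) : ℕ) : F) = 0 := by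
    simp only [el] at h
    push_cast
    linear_combination (((n % 5 : ℕ) : F) - ((n / 5 : ℕ) : F) * w) * h +
      ((n / 5 : ℕ) : F) ^ 2 * hw + ((n / 5 : ℕ) : F) ^ 2 * five_eq_zero hF hw
  rw [CharP.cast_eq_zero_iff F 5] at e
  interval_cases n <;> simp at e ⊢

theorem el_neg {n : ℕ} : el w (mulC 4 n) = -el w n := by
  rw [el_mulC hF hw]
  have h5 := five_eq_zero hF hw
  simp only [el]
  push_cast
  linear_combination (((n % 5 : ℕ) : F) + ((n / 5 : ℕ) : F) * w) * h5

theorem el_inj {a b : ℕ} (ha : a < 25) (hb : b < 25) (h : el w a = el w b) : a = b := by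
  have h0 := el_eq_zero hF hw (n := addC a (mulC 4 b)) (by unfold addC; omega)
    (by rw [el_addC hF hw, el_neg hF hw, h, add_neg_cancel])
  revert h0
  have : ∀ a < 25, ∀ b < 25, addC a (mulC 4 b) = 0 → a = b := by decide +kernel
  exact this a ha b hb

theorem el_surjective (x : F) : ∃ n < 25, el w n = x := by
  have hbij := (Fintype.bijective_iff_injective_and_card (fun n : Fin 25 => el w n.1)).2
    ⟨fun a b h => Fin.ext (el_inj hF hw a.2 b.2 h), by rw [Fintype.card_fin, hF]; norm_num⟩
  obtain ⟨n, hn⟩ := hbij.2 x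
  exact ⟨n.1, n.2, hn⟩

theorem vec_surjective (x : Fin 3 → F) : ∃ v < 15625, vec w v = x := by
  choose n hn hx using fun i => el_surjective hF hw (x i)
  have h0 := hn 0
  have h1 := hn 1
  have h2 := hn 2
  refine ⟨n 0 + 25 * n 1 + 625 * n 2, by omega, funext fun i => ?_⟩
  rw [← hx i]
  show el w (coord _ i.1) = el w (n i)
  congr 1
  match i with
  | 0 => simp only [coord]; norm_num; omega
  | 1 => simp only [coord]; norm_num; omega
  | 2 => simp only [coord]; norm_num; omega

theorem vec_zero : vec w 0 = (0 : Fin 3 → F) := by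
  funext i
  simp [vec, vecF, coord, el]

theorem herm_vecF (u v : ℕ → ℕ) :
    Cfsg.hermForm 3 F 5 (vecF w u) (vecF w v) = el w (hermC u v) := by
  simp only [Cfsg.hermForm, Fin.sum_univ_three, hermC, vecF, el_addC hF hw, el_mulC hF hw, el_conjC hF hw]
  rfl

theorem herm_vec (u v : ℕ) : Cfsg.hermForm 3 F 5 (vec w u) (vec w v) = el w (hermC (coord u) (coord v)) :=
  herm_vecF hF hw _ _

theorem vecF_tvC (v c u : ℕ) :
    vecF w (tvC v c u) = vec w u + (el w c * Cfsg.hermForm 3 F 5 (vec w u) (vec w v)) • vec w v := by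
  funext i
  simp only [vec, herm_vecF hF hw, vecF, tvC, el_addC hF hw, el_mulC hF hw, Pi.add_apply,
    Pi.smul_apply, smul_eq_mul]

theorem trace_zero_cases {c : F} (hc : c ^ 5 = -c) : ∃ m : ℕ, c = (m : F) * w := by
  have h5 := five_eq_zero hF hw
  have h : c * ((c - w) * (c + w) * ((c - 2 * w) * (c + 2 * w))) = 0 := by
    linear_combination hc + (4 * c * (w ^ 2 + 2) - 5 * c ^ 3) * hw + (3 * c - 2 * c ^ 3) * h5
  rcases mul_eq_zero.1 h with h | h
  · exact ⟨0, by simp [h]⟩
  rcases mul_eq_zero.1 h with h | h <;> rcases mul_eq_zero.1 h with h | h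
  · exact ⟨1, by push_cast; linear_combination h⟩
  · exact ⟨4, by push_cast; linear_combination h - w * h5⟩
  · exact ⟨2, by push_cast; linear_combination h⟩
  · exact ⟨3, by push_cast; linear_combination h - w * h5⟩

end CfsgLib.Sporadic.ConwayPsu35
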