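import Cfsg.Agent.Lib.Sporadic.ConwayPsu35.Data
import Cfsg.Agent.Lib.Sporadic.ConwayPsu35.Field
import Cfsg.Agent.Lib.Golay.LeechOrbit.Configs

/-! Checks on the action of three automorphisms of the lattice on 252 vectors and their points. -/

set_option autoImplicit false
set_option maxRecDepth 100000

namespace CfsgLib.Sporadic.ConwayPsu35

open Cfsg CfsgLib.Golay CfsgLib.Golay.LeechOrbit CfsgLib.Sporadic

/-- Equal up to a non-zero scalar. -/
noncomputable def sameLine (u : ℕ → ℕ) (v : ℕ) : Bool :=
  (List.range 25).any fun s => !(s == 0) && (List.range 3).all fun i => u i == mulC s (coord v i)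

/-- The image test of a generator at an index. -/
noncomputable def moveOK (k i : ℕ) : Bool :=
  forceN i fun i => forceN (keyT.get i) fun ki => forceN (succT.get (252 * k + i)) fun j =>
  forceN (keyT.get j) fun kj => forceN (pointT.get j) fun a => forceN (pointT.get i) fun b =>
  forceN (gVecs.getD k 0) fun v => forceN (gPar.getD k 0) fun c =>
    Nat.blt j 252 && decide (dotL (digitsF 24 ki) (gCols.getD k []) = 8 * ((kj : ℤ) - off)) &&
      sameLine (tvC v c b) a

theorem moves_ok0 : allFrom 0 252 (moveOK 0) = true := by decide +kernel
theorem moves_ok1 : allFrom 0 252 (moveOK 1) = true := by decide +kernel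
theorem moves_ok2 : allFrom 0 252 (moveOK 2) = true := by decide +kernel

theorem moves_ok : ∀ k < 3, ∀ i < 252, moveOK k i = true := by
  intro k hk i hi
  match k, hk with
  | 0, _ => exact of_allFrom_zero moves_ok0 hi
  | 1, _ => exact of_allFrom_zero moves_ok1 hi
  | 2, _ => exact of_allFrom_zero moves_ok2 hi

theorem key_zero_unique : allFrom 0 252 (fun i => i == 0 || !(keyT.get i == keyT.get 0)) = true := by
  decide +kernel

/-- The first point is isotropic and one generator moves it. -/
theorem first_ok : (hermC (coord (pointT.get 0)) (coord (pointT.get 0)) == 0 &&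
    !(hermC (tvC (gVecs.getD 0 0) (gPar.getD 0 0) (pointT.get 0)) (coord (pointT.get 0)) == 0)) = true := by
  decide +kernel

theorem hermC_lt (u v : ℕ → ℕ) : hermC u v < 25 := by
  unfold hermC
  generalize addC (mulC (u 0) (conjC (v 0))) (mulC (u 1) (conjC (v 1))) = a
  generalize mulC (u 2) (conjC (v 2)) = b
  unfold addC
  omega

theorem gens_ok : (gVecs.length == 3 && gWs.length == 3 &&
    (List.range 3).all fun k => (gPar.getD k 0 == 5 || gPar.getD k 0 == 10) &&
      hermC (coord (gVecs.getD k 0)) (coord (gVecs.getD k 0)) == 0) = true := by decide +kernel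

/-- The reach test at an index. -/
noncomputable def reachOK (t : ℕ) : Bool :=
  forceN t fun t => forceN (ordT.get t) fun x =>
    bif t == 0 then sameLine (coord x) (gVecs.getD 0 0) else
      forceN (parT.get t / 126) fun k => forceN (parT.get t % 126) fun s =>
        Nat.blt s t && Nat.blt k 3 &&
          (List.range 25).any fun e => !(e == 0) &&
            (List.range 3).all fun i =>
              coord x i == mulC e (tvC (gVecs.getD k 0) (gPar.getD k 0) (ordT.get s) i)

theorem reach_ok : allFrom 0 126 reachOK = true := by decide +kernel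

/-- The cover test at a code. -/
noncomputable def coverOK (v : ℕ) : Bool :=
  forceN v fun v => v == 0 || !(hermC (coord v) (coord v) == 0) ||
    forceN (posT.get v) fun t => Nat.blt t 126 && sameLine (coord v) (ordT.get t)

theorem cover_ok0 : allFrom 0 8000 coverOK = true := by decide +kernel
theorem cover_ok1 : allFrom 8000 7625 coverOK = true := by decide +kernel

theorem cover_ok : allFrom 0 15625 coverOK = true := allFrom_append cover_ok0 cover_ok1

theorem cols_g : gCols = gWs.map colsW := by
  rw [← colsE_eq]
  decide +kernel

theorem fix_ok : fixB gWs [toL (Spor.leechV : GolayPt → ℤ), toL (vecWL : GolayPt → ℤ),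
    toL (root352 : GolayPt → ℤ)] = true := by decide +kernel

theorem root_ok : latA (vecK (keyT.get 0)) = true := by decide +kernel

theorem root_norm : dotL (toL (vecK (keyT.get 0))) (toL (vecK (keyT.get 0))) = 32 ∧
    keyOf (vecK (keyT.get 0)) = keyT.get 0 := by decide +kernel

end CfsgLib.Sporadic.ConwayPsu35
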