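import Cfsg.Agent.Lib.Golay.LeechOrbit.Cert

/-! Generated: automorphisms of the lattice fixing three vectors, and the isotropic points
attached to 252 minimal vectors on which they act as transvections. -/

set_option autoImplicit false
set_option maxRecDepth 20000

namespace CfsgLib.Sporadic.ConwayPsu35

open CfsgLib.Sporadic CfsgLib.Golay.LeechOrbit

/-- Words. -/
def gWs : List (List Letter) := [[.Ci, .Si, .Si, .Si, .Si, .E, .C, .C, .S, .E, .X, .C, .X, .Ci, .X, .C, .X, .S, .S, .C, .C, .S, .S, .X, .E, .X, .E, .X, .E, .C, .E, .Si, .Si, .Si, .Si, .Si, .E, .Ci, .E, .X, .E, .X, .E, .X, .Si, .Si, .Ci, .Ci, .Si, .Si, .X, .Ci, .X, .C, .X, .Ci, .X, .E, .Si, .Ci, .Ci, .E, .S, .S, .S, .S, .S, .S, .E, .Ci, .E, .X, .E, .X, .E, .X, .Si, .Si, .Ci, .Ci, .Si, .Si, .X, .Ci, .X, .C, .X, .Ci, .X, .E, .Si, .Ci, .Ci, .E, .Si, .Ci, .Ci, .S, .Ci, .S, .S, .S, .C, .C, .Si, .C, .S, .S],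
  [.C, .Si, .C, .C, .S, .E, .C, .C, .S, .E, .X, .C, .X, .Ci, .X, .C, .X, .S, .S, .C, .C, .S, .S, .X, .E, .X, .E, .X, .E, .C, .E, .Si, .Si, .Si, .Si, .Si, .Si, .E, .C, .C, .S, .E, .X, .C, .X, .Ci, .X, .C, .X, .S, .S, .C, .C, .S, .S, .X, .E, .X, .E, .X, .E, .C, .E, .S, .S, .S, .S, .S, .E, .Ci, .E, .X, .E, .X, .E, .X, .Si, .Si, .Ci, .Ci, .Si, .Si, .X, .Ci, .X, .C, .X, .Ci, .X, .E, .Si, .Ci, .Ci, .E, .S, .S, .S, .S, .C, .Si, .Si, .Ci, .S, .Ci, .Ci, .Si, .Si, .Si],
  [.S, .Ci, .S, .C, .Si, .Si, .C, .S, .S, .Ci, .S, .C, .Si, .Si, .C, .C, .C, .S, .E, .C, .C, .S, .E, .X, .C, .X, .Ci, .X, .C, .X, .S, .S, .C, .C, .S, .S, .X, .E, .X, .E, .X, .E, .C, .E, .Si, .Si, .Si, .Si, .Si, .Si, .E, .C, .C, .S, .E, .X, .C, .X, .Ci, .X, .C, .X, .S, .S, .C, .C, .S, .S, .X, .E, .X, .E, .X, .E, .C, .E, .S, .S, .S, .S, .S, .E, .Ci, .E, .X, .E, .X, .E, .X, .Si, .Si, .Ci, .Ci, .Si, .Si, .X, .Ci, .X, .C, .X, .Ci, .X, .E, .Si, .Ci, .Ci, .E, .S, .S, .S, .S]]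

/-- Packed columns. -/
def gCols : List (List ℤ) := [[-9903520274939560670078697434, 577706571619631856292602368, 655096713524011361145855488, -582542274898086231564754432, -655380055511852965957852672, 578027692541588767827419648, -577705391011118499929907712, -655095532949274486592364032, 582863395820051391592652288, 9903520274939560670212915170, 660214578217831064731263488, 660215758790316173830251008, 9903520274939560670078697570, 659932416802465221030322688, -582541094289581155899530752, 582862215209286269776567808, 659931236227737657966453248, 655378874939377237066915328, 9903520274939701407567052770, 9903520422513513259755110370, 9903520275516021422382120930, 9903520284162932706933473250, -578026511930831857988280832, 29710560982192608126693277726],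
  [-9901101870041561438596628474, -580426027651125881052454432, 657797353605212191162768928, 580142685373927725375545888, 9901101870043813238410313730, 580426101167886199389299168, 9901104231224802873419235330, -657513937847273718074432992, 9910773276598478471994277890, 657797280124480669979107808, -657495122150308790560218592, -580123869712982248897241632, 657495048669577271389856288, 657816243359369905546846688, 657816169302177632059792928, 657514011904465989548253728, 9901101870041702176084983810, -580123796196221932842130912, 9901101870041561438605017090, 9901101879264933475451404290, 580444990922052160110583328, 580142759467148793734110688, -580444916828831089470349792, 29712979387090607358175346686],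
  [-9864834687910695918947532794, 9864834687912947718761218050, 621245575412951886535466528, -621227861926950982695919072, -616409872116545215828975072, 616411126513090656963781088, -616392158630552560474119712, -621528991170881563530223072, 621530097993615150330012128, 621246829773600469899158048, 616694394697067744282681888, 621549056616752412945931808, 621226755104366929478033888, 9864834688487156671250956290, -616391051843847768546337312, 10019577192821368453309923330, 621547802256235770977051168, 9864834687910695919081750530, 9864834687910695953307271170, 9864834687910695918955921410, 616693287910512485935750688, 616713353356373991650106848, -616712098959696609119445472, 29749246569221472877824442366]]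

/-- Transvection centres. -/
def gVecs : List ℕ := [1275, 1900, 12526]

/-- Transvection parameters. -/
def gPar : List ℕ := [5, 5, 10]

/-- Part of `keyT`. -/
def keyT_p : Tr := .node (.node (.node (.node (.node (.node (.node (.node (.leaf 0xa88888888aa888aaa8a8a888) (.leaf 0xb77799799997999977999999)) (.node (.leaf 0xa8a88a88888888a8aaaa8888) (.leaf 0xb97999977999999777997999))) (.node (.node (.leaf 0xa888aaa88a8888a8888aa888) (.leaf 0xb79997999997997797997999)) (.node (.leaf 0xaa888aa888a88a888a8a8888) (.leaf 0xb99977999999777997999979)))) (.node (.node (.node (.leaf 0xa8888aa8aa88aa8888888a88) (.leaf 0xb79799979997797999999979)) (.node (.leaf 0xa8aa8a8888888a8a8a888a88) (.leaf 0xb99797999999797999797799))) (.node (.node (.leaf 0xa88aa88a88888aaa8888a888) (.leaf 0xb97799999977799799997999)) (.node (.leaf 0xaa8aa888888888a88a8a8a88) (.leaf 0xb99997997797997999799979))))) (.node (.node (.node (.node (.leaf 0xa88888a8aaaa88888a88a888)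 (.leaf 0xb77999999979999997797799)) (.node (.leaf 0xa8a8aa888888888a88a8a8a8) (.leaf 0xb99777999979999977997999))) (.node (.node (.leaf 0xa88a88a88a8a88aa88888a88) (.leaf 0xb97779797999999999997799)) (.node (.leaf 0xaa88a8aa888888888a88a8a8) (.leaf 0xb99979999997797799779999)))) (.node (.node (.node (.leaf 0xa888a88aa8a88a888a888a88) (.leaf 0xb79979997999799999799779)) (.node (.leaf 0xaa88888aaa8888a88888aa88) (.leaf 0xb99799997799999977799799))) (.node (.node (.leaf 0xa8a88888aa88a88888aaa888) (.leaf 0xb97997797997999799979999)) (.node (.leaf 0xaaa88aa8888888a888888aa8) (.leaf 0xb99999979979797997977999)))))) (.node (.node (.node (.node (.node (.leaf 0xa888888a8aaaa88888a88a88) (.leaf 0xb77997999997779999799999)) (.node (.leaf 0xa8a8a8888a888aa888a88a88) (.leaf 0xb97999997997797997999799))) (.node (.node (.leaf 0xa88a888aa888a88a888a8a88) (.leaf 0xb79999977997999997779999)) (.node (.leaf 0xaa88a888a8a8888a888aa888) (.leaf 0xb99979979797997977999999))))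 (.node (.node (.node (.leaf 0xa888a8888a88a88a8a88aa88) (.leaf 0xb79979797997977999999999)) (.node (.leaf 0xaa88888888a8aaaa88888a88) (.leaf 0xb99799799979799997999779))) (.node (.node (.leaf 0xa88aaa88a8888a8888aa8888) (.leaf 0xb97979799797799999999979)) (.node (.leaf 0xaaa888888aaa88a8888a8888) (.leaf 0xb99999797979997999779799))))) (.node (.node (.node (.node (.leaf 0xa8888a8a8a888a888aa8a888) (.leaf 0xb79797997977999999999799)) (.node (.leaf 0xa8aa88888a8888a88a88a8a8) (.leaf 0xb99779997997999797999979))) (.node (.node (.leaf 0xa88a8a8888a888aa888a88a8) (.leaf 0xb97799799999777999979999)) (.node (.leaf 0xaa8a88a8aa888888888a88a8) (.leaf 0xb99997799799999777999979)))) (.node (.node (.node (.leaf 0xa888aa888aaa8a8a88888888) (.leaf 0xb79997977999979799999979)) (.node (.leaf 0xaa888a888a88888a88aa8a88) (.leaf 0xb99977799997999997799799))) (.node (.node (.leaf 0xa8a888a88888a88aa8a88a88) (.leaf 0xb97999779799999997979799)) (.leaf 0xaaaa8a8a88888888888aa888))))))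 (.node (.node (.node (.node (.node (.node (.leaf 0xa888888a888888aa8aa88aa8) (.leaf 0xb77979999999797979997999)) (.node (.leaf 0xa8a88a8a88aa88888a8888a8) (.leaf 0xb97999997779999799999779))) (.node (.node (.leaf 0xa88a88888a88aa8a88a888a8) (.leaf 0xb79999799977999799799979)) (.node (.leaf 0xaa88a88888888a8aaaa88888) (.leaf 0xb99979799979779999797999)))) (.node (.node (.node (.leaf 0xa8888aaa88a8888a8888aa88) (.leaf 0xb79799999979799979779999)) (.node (.leaf 0xa8aaa8888a88888aa88a8888) (.leaf 0xb99799797979979779999999))) (.node (.node (.leaf 0xa88aa8aa88aa8888888a8888) (.leaf 0xb97977999979799999979799)) (.node (.leaf 0xaaa888888888a88a8a8a88a8) (.leaf 0xb99999779997779797999999))))) (.node (.node (.node (.node (.leaf 0xa88888aa8aa88aa8888888a8) (.leaf 0xb79779999797999999797999)) (.node (.leaf 0xa8a8aaaa88888a88a8888888) (.leaf 0xb99779799999997979799979))) (.node (.node (.leaf 0xa88a88aa8a88a888a888a888) (.leaf 0xb97797997999799979999979))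 (.node (.leaf 0xaa8a8888a888aa888a88a888) (.leaf 0xb99997779999799999779979)))) (.node (.node (.node (.leaf 0xa888a8a8a888a888aa8a8888) (.leaf 0xb79997797999999979797999)) (.node (.leaf 0xaa8888aa888888aaa88a8888) (.leaf 0xb99799999977977997799999))) (.node (.node (.leaf 0xa8a8888a88a88a8a88aa8888) (.leaf 0xb97997997979977999997999)) (.node (.leaf 0xaaa8a88a888a888a88888a88) (.leaf 0xb99999997799977797979999)))))) (.node (.node (.node (.node (.node (.leaf 0xa88888a8a888a8aa8888a8a8) (.leaf 0xb77999979799999979799979)) (.node (.leaf 0xa8a8a88aa88888a8888a88a8) (.leaf 0xb99777979799999999999779))) (.node (.node (.leaf 0xa88a88a88888888a8aaaa888) (.leaf 0xb79999997979997977999979)) (.node (.leaf 0xaa88a8a88aa88888a8888a88) (.leaf 0xb99979999779999997779979)))) (.node (.node (.node (.leaf 0xa888a88a88a8a88aa88888a8) (.leaf 0xb79979979799779999979999)) (.node (.leaf 0xaa888888aa8aa88aa8888888) (.leaf 0xb99799977979999999797979))) (.node (.node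 (.leaf 0xa8a888888aa8aa88aa888888) (.leaf 0xb97979997977999979799999)) (.node (.leaf 0xaaa888a88a888a8a8888a888) (.leaf 0xb99999977999777979799999))))) (.node (.node (.node (.node (.leaf 0xa8888aa888aaa8a8a8888888) (.leaf 0xb79799779999979999799799)) (.node (.leaf 0xa8aa888aaa8a8a8888888888) (.leaf 0xb99797999797799997979999))) (.node (.node (.leaf 0xa88a8a8a888a888aa8a88888) (.leaf 0xb97799979979997979999799)) (.node (.leaf 0xaa8a8a888a888aa8a8888888) (.leaf 0xb99997977779999979979999)))) (.node (.node (.node (.leaf 0xa888aa8aa88aa8888888a888) (.leaf 0xb79997999779799999997979)) (.node (.leaf 0xaa888a8a8888a888aa888a88) (.leaf 0xb99977997999997779999799))) (.node (.node (.leaf 0xa8a888aa888a88a888a8a888) (.leaf 0xb97999797999979997799979)) (.leaf 0xb77779999979979999999979))))))) (.node (.node (.node (.node (.node (.node (.node (.leaf 0xa8888888aa888aaa8a8a8888) (.leaf 0xb77979979997999799999799)) (.node (.leaf 0xa8a88a88a8a88aa88888a888)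 (.leaf 0xb97999979979979799779999))) (.node (.node (.leaf 0xa88a888888aa8aa88aa88888) (.leaf 0xb79999779999997779979999)) (.node (.leaf 0xaa888aa8a8888888a8a8a888) (.leaf 0xb99979797999799977979999)))) (.node (.node (.node (.leaf 0xa8888aaa8888a88888aa88a8) (.leaf 0xb79799997999779997997999)) (.node (.leaf 0xa8aa8a88a888a888a88888a8) (.leaf 0xb99799779799799979997999))) (.node (.node (.leaf 0xa88aa8a8888888a8a8a888a8) (.leaf 0xb97977779999979979999999)) (.node (.leaf 0xaa8aa8888a8a888888a8a888) (.leaf 0xb99999779779977999999979))))) (.node (.node (.node (.node (.leaf 0xa88888aa888aaa8a8a888888) (.leaf 0xb77999999999799797979979)) (.node (.leaf 0xa8a8aa8888a8a888888a8a88) (.leaf 0xb99779779977999999979999))) (.node (.node (.leaf 0xa88a88a8a8a88a8aa8888888) (.leaf 0xb97779999799999779979999)) (.node (.leaf 0xaa8a888888a8a888a8aa8888) (.leaf 0xb99997779979999799997799)))) (.node (.node (.node (.leaf 0xa888a8a888a8aa8888a8a888) (.leaf 0xb79979999999979777799999))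 (.node (.leaf 0xaa8888a888aa888a88a888a8) (.leaf 0xb99799999799779799799979))) (.node (.node (.leaf 0xa8a88888aaa8888a88888aa8) (.leaf 0xb97997979977999997999979)) (.node (.leaf 0xaaa8a8888888a8a8a888a888) (.leaf 0xb99999979999997797799779)))))) (.node (.node (.node (.node (.node (.leaf 0xa888888aa888aaa8a8a88888) (.leaf 0xb77999799799979799997999)) (.node (.leaf 0xa8a8a888a8aa8888a8a88888) (.leaf 0xb97999999779779977999999))) (.node (.node (.leaf 0xa88a888aa8a8888888a8a8a8) (.leaf 0xb79999997797799779999999)) (.node (.leaf 0xaa88a88a8a88aa88888a8888) (.leaf 0xb99979979979799779999979)))) (.node (.node (.node (.leaf 0xa888a8888aa888888aaa88a8) (.leaf 0xb79979799779999979999799)) (.node (.leaf 0xaa888888a8a888a8aa8888a8) (.leaf 0xb99799799999999797777999))) (.node (.node (.leaf 0xa88aaa8a8a88888888888aa8) (.leaf 0xb97979977999997999979979)) (.node (.leaf 0xaaa8888a8a888888a8a888a8) (.leaf 0xb99999797999797799997979))))) (.node (.node (.node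 (.node (.leaf 0xa8888a8aaaa88888a88a8888) (.leaf 0xb79797999799977979999999)) (.node (.leaf 0xa8aa888a88a888a8a8888a88) (.leaf 0xb99797979997999779799999))) (.node (.node (.leaf 0xa88a8a888a8aa8888a8a8888) (.leaf 0xb97799977797979999999999)) (.node (.leaf 0xaa8a88aa88888a8888a88a88) (.leaf 0xb99997799977797979999999)))) (.node (.node (.node (.leaf 0xa888aa88a88888aaa8888a88) (.leaf 0xb79997979999799977999799)) (.node (.leaf 0xaa888a888aa8a8888888a8a8) (.leaf 0xb99977977997799999997999))) (.node (.node (.leaf 0xa8a888a8a8888a888aa888a8) (.leaf 0xb97999779997997999797999)) (.leaf 0xaaaaa88888a88a88888888a8)))))) (.node (.node (.node (.node (.node (.node (.leaf 0xa888888a88a8a8a88a8aa888) (.leaf 0xb77997799999997999999779)) (.node (.leaf 0xa8a88aa8a88a888a888a8888) (.leaf 0xb97999997799799999777999))) (.node (.node (.leaf 0xa88a8888aa888888aaa88a88) (.leaf 0xb79999977799997999997799)) (.node (.leaf 0xaa88a888a888a88888a88aa8) (.leaf 0xb99979977979979997999799))))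 (.node (.node (.node (.leaf 0xa888a888888aa8aa88aa8888) (.leaf 0xb79979779999999997997979)) (.node (.leaf 0xa8aaa8a8a88888888888aa88) (.leaf 0xb99799799797997799999799))) (.node (.node (.leaf 0xa88aaa8888a88888aa88a888) (.leaf 0xb97977999999999799797979)) (.node (.leaf 0xaaa8888888a888888aa8aa88) (.leaf 0xb99999797777999997997999))))) (.node (.node (.node (.node (.leaf 0xa8888a88aa8a88a888a888a8) (.leaf 0xb79779999999997997979799)) (.node (.leaf 0xa8aa888888aaa88a8888a888) (.leaf 0xb99779979999977799997999))) (.node (.node (.leaf 0xa88a8a888888a8a888a8aa88) (.leaf 0xb97797999999979797999799)) (.node (.leaf 0xaa8a888a888aa8a8888888a8) (.leaf 0xb99997797799779999999799)))) (.node (.node (.node (.leaf 0xa888aa888888aaa88a8888a8) (.leaf 0xb79997799979979997979999)) (.node (.leaf 0xaa888a88888a88aa8a88a888) (.leaf 0xb99977799799997999977999))) (.node (.node (.leaf 0xa8a8888aa888888aaa88a888) (.leaf 0xb97997999999997977779999)) (.node (.leaf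 0xaaaa88a8888a8888aa888888) (.leaf 0xb99999999779997779797999)))))) (.node (.node (.node (.node (.node (.leaf 0xa88888a8a8a888a888aa8a88) (.leaf 0xb77999999777997999979999)) (.node (.leaf 0xa8a8a8a88a8aa888888888a8) (.leaf 0xb99777997999979999779999))) (.node (.node (.leaf 0xa88a88a888a8a8888a888aa8) (.leaf 0xb79999999979777799999799)) (.node (.leaf 0xaa88a8a8a88a8aa888888888) (.leaf 0xb99979999799799797997799)))) (.node (.node (.node (.leaf 0xa888a88a8a8a88a8aa888888) (.leaf 0xb79979997979999799977999)) (.node (.leaf 0xaa88888aa88a88888aaa8888) (.leaf 0xb99799977999799799979799))) (.node (.node (.leaf 0xa8a88888a88aa8a88a888a88) (.leaf 0xb97979999799977999799799)) (.node (.leaf 0xaaa88a88888aaa8888a88888) (.leaf 0xb99999979777799999799799))))) (.node (.node (.node (.node (.leaf 0xa8888aa88a88888aaa8888a8) (.leaf 0xb79799797799999999979979)) (.node (.leaf 0xa8aa88a88888aaa8888a8888) (.leaf 0xb99797999979997799979979))) (.node (.node (.leaf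 0xa88aa888a88a888a8a8888a8) (.leaf 0xb97799999799997997997979)) (.node (.leaf 0xaa8a8a88a8aa888888888a88) (.leaf 0xb99997979799979997797999)))) (.node (.node (.node (.leaf 0xa888aaa8888a88888aa88a88) (.leaf 0xb79997999799999799779799)) (.node (.leaf 0xaa888a8aa8888a8a888888a8) (.leaf 0xb99977999777979799999999))) (.node (.node (.leaf 0xa8a888aa8a8888888a8a8a88) (.leaf 0xb97999799999799779799799)) (.leaf 0xb77797979999999999977999)))))))

/-- The keys of the 252 vectors. -/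
def keyT : Tr := keyT_p

/-- Part of `pointT`. -/
def pointT_p : Tr := .node (.node (.node (.node (.node (.node (.node (.node (.leaf 9551) (.leaf 14551)) (.node (.leaf 9176) (.leaf 5176))) (.node (.node (.leaf 2851) (.leaf 8601)) (.node (.leaf 14751) (.leaf 5551)))) (.node (.node (.node (.leaf 14576) (.leaf 12526)) (.node (.leaf 151) (.leaf 51))) (.node (.node (.leaf 11651) (.leaf 4926)) (.node (.leaf 12926) (.leaf 7851))))) (.node (.node (.node (.node (.leaf 12201) (.leaf 6501)) (.node (.leaf 1101) (.leaf 6451))) (.node (.node (.leaf 14951) (.leaf 1251)) (.node (.leaf 2901) (.leaf 226)))) (.node (.node (.node (.leaf 12601) (.leaf 11976)) (.node (.leaf 7326) (.leaf 3751))) (.node (.node (.leaf 11901) (.leaf 9051)) (.node (.leaf 9626) (.leaf 10101)))))) (.node (.node (.node (.node (.node (.leaf 11601) (.leaf 6801)) (.node (.leaf 11026) (.leaf 10326))) (.node (.node (.leaf 7301) (.leaf 9576)) (.node (.leaf 15001) (.leaf 11751)))) (.node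 (.node (.node (.leaf 14301) (.leaf 4626)) (.node (.leaf 11101) (.leaf 11126))) (.node (.node (.leaf 6826) (.leaf 5626)) (.node (.leaf 1900) (.leaf 6626))))) (.node (.node (.node (.node (.leaf 4576) (.leaf 5201)) (.node (.leaf 8626) (.leaf 12176))) (.node (.node (.leaf 14926) (.leaf 3451)) (.node (.leaf 14326) (.leaf 11376)))) (.node (.node (.node (.leaf 76) (.leaf 10751)) (.node (.leaf 9926) (.leaf 8526))) (.node (.node (.leaf 10426) (.leaf 8476)) (.leaf 8001)))))) (.node (.node (.node (.node (.node (.node (.leaf 9076) (.leaf 8776)) (.node (.leaf 5376) (.leaf 14126))) (.node (.node (.leaf 11726) (.leaf 1275)) (.node (.leaf 3426) (.leaf 976)))) (.node (.node (.node (.leaf 11526) (.leaf 3226)) (.node (.leaf 12326) (.leaf 6976))) (.node (.node (.leaf 1126) (.leaf 2976)) (.node (.leaf 526) (.leaf 12951))))) (.node (.node (.node (.node (.leaf 7201) (.leaf 13926)) (.node (.leaf 3151) (.leaf 8251))) (.node (.node (.leaf 10451) (.leaf 14626))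 (.node (.leaf 5251) (.leaf 6901)))) (.node (.node (.node (.leaf 13951) (.leaf 7176)) (.node (.leaf 8401) (.leaf 4951))) (.node (.node (.leaf 10301) (.leaf 7776)) (.node (.leaf 9201) (.leaf 3576)))))) (.node (.node (.node (.node (.node (.leaf 8851) (.leaf 7901)) (.node (.leaf 901) (.leaf 10901))) (.node (.node (.leaf 12826) (.leaf 9951)) (.node (.leaf 12301) (.leaf 13126)))) (.node (.node (.node (.leaf 3775) (.leaf 5650)) (.node (.leaf 1876) (.leaf 12801))) (.node (.node (.leaf 7626) (.leaf 14001)) (.node (.leaf 4751) (.leaf 751))))) (.node (.node (.node (.node (.leaf 6426) (.leaf 15025)) (.node (.leaf 10026) (.leaf 7976))) (.node (.node (.leaf 1026) (.leaf 13150)) (.node (.leaf 2776) (.leaf 3551)))) (.node (.node (.node (.leaf 4551) (.leaf 601)) (.node (.leaf 3001) (.leaf 5576))) (.node (.node (.leaf 9751) (.leaf 10976)) (.leaf 2626))))))) (.node (.node (.node (.node (.node (.node (.node (.leaf 3576) (.leaf 9201)) (.node (.leaf 7776)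 (.leaf 10301))) (.node (.node (.leaf 4951) (.leaf 8401)) (.node (.leaf 7176) (.leaf 13951)))) (.node (.node (.node (.leaf 6901) (.leaf 5251)) (.node (.leaf 14626) (.leaf 10451))) (.node (.node (.leaf 8251) (.leaf 3151)) (.node (.leaf 13926) (.leaf 7201))))) (.node (.node (.node (.node (.leaf 12951) (.leaf 526)) (.node (.leaf 2976) (.leaf 1126))) (.node (.node (.leaf 6976) (.leaf 12326)) (.node (.leaf 3226) (.leaf 11526)))) (.node (.node (.node (.leaf 976) (.leaf 3426)) (.node (.leaf 1275) (.leaf 11726))) (.node (.node (.leaf 14126) (.leaf 5376)) (.node (.leaf 8776) (.leaf 9076)))))) (.node (.node (.node (.node (.node (.leaf 751) (.leaf 4751)) (.node (.leaf 14001) (.leaf 7626))) (.node (.node (.leaf 12801) (.leaf 1876)) (.node (.leaf 5650) (.leaf 3775)))) (.node (.node (.node (.leaf 13126) (.leaf 12301)) (.node (.leaf 9951) (.leaf 12826))) (.node (.node (.leaf 10901) (.leaf 901)) (.node (.leaf 7901) (.leaf 8851))))) (.node (.node (.node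 (.node (.leaf 3551) (.leaf 2776)) (.node (.leaf 13150) (.leaf 1026))) (.node (.node (.leaf 7976) (.leaf 10026)) (.node (.leaf 15025) (.leaf 6426)))) (.node (.node (.node (.leaf 5576) (.leaf 3001)) (.node (.leaf 601) (.leaf 4551))) (.node (.node (.leaf 10976) (.leaf 9751)) (.leaf 2626)))))) (.node (.node (.node (.node (.node (.node (.leaf 10101) (.leaf 9626)) (.node (.leaf 9051) (.leaf 11901))) (.node (.node (.leaf 3751) (.leaf 7326)) (.node (.leaf 11976) (.leaf 12601)))) (.node (.node (.node (.leaf 226) (.leaf 2901)) (.node (.leaf 1251) (.leaf 14951))) (.node (.node (.leaf 6451) (.leaf 1101)) (.node (.leaf 6501) (.leaf 12201))))) (.node (.node (.node (.node (.leaf 7851) (.leaf 12926)) (.node (.leaf 4926) (.leaf 11651))) (.node (.node (.leaf 51) (.leaf 151)) (.node (.leaf 12526) (.leaf 14576)))) (.node (.node (.node (.leaf 5551) (.leaf 14751)) (.node (.leaf 8601) (.leaf 2851))) (.node (.node (.leaf 5176) (.leaf 9176)) (.node (.leaf 14551)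 (.leaf 9551)))))) (.node (.node (.node (.node (.node (.leaf 6626) (.leaf 1900)) (.node (.leaf 5626) (.leaf 6826))) (.node (.node (.leaf 11126) (.leaf 11101)) (.node (.leaf 4626) (.leaf 14301)))) (.node (.node (.node (.leaf 11751) (.leaf 15001)) (.node (.leaf 9576) (.leaf 7301))) (.node (.node (.leaf 10326) (.leaf 11026)) (.node (.leaf 6801) (.leaf 11601))))) (.node (.node (.node (.node (.leaf 11376) (.leaf 14326)) (.node (.leaf 3451) (.leaf 14926))) (.node (.node (.leaf 12176) (.leaf 8626)) (.node (.leaf 5201) (.leaf 4576)))) (.node (.node (.node (.leaf 8526) (.leaf 9926)) (.node (.leaf 10751) (.leaf 76))) (.node (.node (.leaf 8476) (.leaf 10426)) (.leaf 8001)))))))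

/-- The point of each vector. -/
def pointT : Tr := pointT_p

/-- Part of `succT`. -/
def succT_p00 : Tr := .node (.node (.node (.node (.node (.node (.node (.node (.leaf 31) (.leaf 162)) (.leaf 121)) (.node (.node (.leaf 94) (.leaf 238)) (.leaf 251))) (.node (.node (.node (.leaf 134) (.leaf 175)) (.leaf 100)) (.node (.node (.leaf 199) (.leaf 123)) (.leaf 133)))) (.node (.node (.node (.node (.leaf 143) (.leaf 106)) (.leaf 244)) (.node (.node (.leaf 88) (.leaf 40)) (.leaf 52))) (.node (.node (.node (.leaf 75) (.leaf 133)) (.leaf 226)) (.node (.node (.leaf 11) (.leaf 142)) (.leaf 46))))) (.node (.node (.node (.node (.node (.leaf 121) (.leaf 242)) (.leaf 247)) (.node (.node (.leaf 30) (.leaf 20)) (.leaf 194))) (.node (.node (.node (.leaf 249) (.leaf 81)) (.leaf 82)) (.node (.node (.leaf 37) (.leaf 186)) (.leaf 177)))) (.node (.node (.node (.node (.leaf 245) (.leaf 74)) (.leaf 172)) (.node (.node (.leaf 3) (.leaf 11)) (.leaf 186))) (.node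 (.node (.node (.leaf 152) (.leaf 183)) (.leaf 116)) (.node (.node (.leaf 78) (.leaf 198)) (.leaf 129)))))) (.node (.node (.node (.node (.node (.node (.leaf 72) (.leaf 247)) (.leaf 173)) (.node (.node (.leaf 184) (.leaf 144)) (.leaf 134))) (.node (.node (.node (.leaf 175) (.leaf 100)) (.leaf 96)) (.node (.node (.leaf 85) (.leaf 156)) (.leaf 19)))) (.node (.node (.node (.node (.leaf 215) (.leaf 99)) (.leaf 245)) (.node (.node (.leaf 39) (.leaf 150)) (.leaf 223))) (.node (.node (.node (.leaf 58) (.leaf 37)) (.leaf 66)) (.node (.node (.leaf 56) (.leaf 21)) (.leaf 86))))) (.node (.node (.node (.node (.node (.leaf 124) (.leaf 135)) (.leaf 242)) (.node (.node (.leaf 161) (.leaf 215)) (.leaf 103))) (.node (.node (.node (.leaf 64) (.leaf 132)) (.leaf 235)) (.node (.node (.leaf 219) (.leaf 54)) (.leaf 45)))) (.node (.node (.node (.node (.leaf 29) (.leaf 18)) (.leaf 48)) (.node (.node (.leaf 63) (.leaf 178)) (.leaf 35))) (.node (.node (.node (.leaf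 198) (.leaf 248)) (.leaf 168)) (.node (.leaf 171) (.leaf 16))))))) (.node (.node (.node (.node (.node (.node (.node (.leaf 120) (.leaf 29)) (.leaf 120)) (.node (.node (.leaf 12) (.leaf 31)) (.leaf 161))) (.node (.node (.node (.leaf 217) (.leaf 30)) (.leaf 180)) (.node (.node (.leaf 4) (.leaf 15)) (.leaf 75)))) (.node (.node (.node (.node (.leaf 110) (.leaf 187)) (.leaf 125)) (.node (.node (.leaf 207) (.leaf 147)) (.leaf 156))) (.node (.node (.node (.leaf 46) (.leaf 159)) (.leaf 138)) (.node (.node (.leaf 86) (.leaf 117)) (.leaf 17))))) (.node (.node (.node (.node (.node (.leaf 74) (.leaf 185)) (.leaf 218)) (.node (.node (.leaf 16) (.leaf 12)) (.leaf 192))) (.node (.node (.node (.leaf 123) (.leaf 41)) (.leaf 114)) (.node (.node (.leaf 133) (.leaf 71)) (.leaf 147)))) (.node (.node (.node (.node (.leaf 190) (.leaf 96)) (.leaf 91)) (.node (.node (.leaf 45) (.leaf 200)) (.leaf 26))) (.node (.node (.node (.leaf 150) (.leaf 22)) (.leaf 58))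 (.node (.leaf 160) (.leaf 37)))))) (.node (.node (.node (.node (.node (.node (.leaf 73) (.leaf 52)) (.leaf 72)) (.node (.node (.leaf 24) (.leaf 28)) (.leaf 197))) (.node (.node (.node (.leaf 144) (.leaf 108)) (.leaf 196)) (.node (.node (.leaf 55) (.leaf 60)) (.leaf 153)))) (.node (.node (.node (.node (.leaf 181) (.leaf 206)) (.leaf 189)) (.node (.node (.leaf 17) (.leaf 57)) (.leaf 141))) (.node (.node (.node (.leaf 0) (.leaf 42)) (.leaf 208)) (.node (.node (.leaf 226) (.leaf 19)) (.leaf 136))))) (.node (.node (.node (.node (.node (.leaf 250) (.leaf 125)) (.leaf 209)) (.node (.node (.leaf 146) (.leaf 174)) (.leaf 30))) (.node (.node (.node (.leaf 14) (.leaf 160)) (.leaf 145)) (.node (.node (.leaf 35) (.leaf 208)) (.leaf 107)))) (.node (.node (.node (.node (.leaf 103) (.leaf 97)) (.leaf 170)) (.node (.node (.leaf 186) (.leaf 127)) (.leaf 69))) (.node (.node (.node (.leaf 147) (.leaf 161)) (.leaf 241)) (.node (.leaf 112) (.leaf 110)))))))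

/-- Part of `succT`. -/
def succT_p01 : Tr := .node (.node (.node (.node (.node (.node (.node (.node (.leaf 96) (.leaf 193)) (.leaf 80)) (.node (.node (.leaf 93) (.leaf 246)) (.leaf 248))) (.node (.node (.node (.leaf 228) (.leaf 173)) (.leaf 202)) (.node (.node (.leaf 154) (.leaf 82)) (.leaf 40)))) (.node (.node (.node (.node (.leaf 102) (.leaf 27)) (.leaf 195)) (.node (.node (.leaf 162) (.leaf 35)) (.leaf 188))) (.node (.node (.node (.leaf 50) (.leaf 70)) (.leaf 70)) (.node (.node (.leaf 129) (.leaf 56)) (.leaf 34))))) (.node (.node (.node (.node (.node (.leaf 119) (.leaf 165)) (.leaf 162)) (.node (.node (.leaf 211) (.leaf 113)) (.leaf 109))) (.node (.node (.node (.leaf 137) (.leaf 39)) (.leaf 76)) (.node (.node (.leaf 138) (.leaf 163)) (.leaf 157)))) (.node (.node (.node (.node (.leaf 225) (.leaf 102)) (.leaf 32)) (.node (.node (.leaf 21) (.leaf 33)) (.leaf 163))) (.node (.node (.node (.leaf 41) (.leaf 105)) (.leaf 44)) (.node (.node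 (.leaf 126) (.leaf 168)) (.leaf 231)))))) (.node (.node (.node (.node (.node (.node (.leaf 115) (.leaf 189)) (.leaf 68)) (.node (.node (.leaf 106) (.leaf 241)) (.leaf 229))) (.node (.node (.node (.leaf 236) (.leaf 25)) (.leaf 93)) (.node (.node (.leaf 81) (.leaf 46)) (.leaf 36)))) (.node (.node (.node (.node (.leaf 68) (.leaf 184)) (.leaf 184)) (.node (.node (.leaf 66) (.leaf 55)) (.leaf 150))) (.node (.node (.node (.leaf 82) (.leaf 50)) (.leaf 21)) (.node (.node (.leaf 167) (.leaf 139)) (.leaf 41))))) (.node (.node (.node (.node (.node (.leaf 48) (.leaf 103)) (.leaf 201)) (.node (.node (.leaf 232) (.leaf 72)) (.leaf 187))) (.node (.node (.node (.leaf 33) (.leaf 7)) (.leaf 140)) (.node (.node (.leaf 5) (.leaf 75)) (.leaf 14)))) (.node (.node (.node (.node (.leaf 111) (.leaf 190)) (.leaf 84)) (.node (.node (.leaf 10) (.leaf 2)) (.leaf 233))) (.node (.node (.node (.leaf 231) (.leaf 234)) (.leaf 238)) (.node (.leaf 200) (.leaf 111)))))))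 (.node (.node (.node (.node (.node (.node (.node (.leaf 98) (.leaf 182)) (.leaf 73)) (.node (.node (.leaf 244) (.leaf 166)) (.leaf 166))) (.node (.node (.node (.leaf 180) (.leaf 121)) (.leaf 128)) (.node (.node (.leaf 47) (.leaf 203)) (.leaf 227)))) (.node (.node (.node (.node (.leaf 28) (.leaf 84)) (.leaf 27)) (.node (.node (.leaf 213) (.leaf 158)) (.leaf 239))) (.node (.node (.node (.leaf 62) (.leaf 6)) (.leaf 15)) (.node (.node (.leaf 233) (.leaf 87)) (.leaf 108))))) (.node (.node (.node (.node (.node (.leaf 109) (.leaf 243)) (.leaf 146)) (.node (.node (.leaf 174) (.leaf 115)) (.leaf 249))) (.node (.node (.node (.leaf 49) (.leaf 44)) (.leaf 154)) (.node (.node (.leaf 159) (.leaf 23)) (.leaf 149)))) (.node (.node (.node (.node (.leaf 83) (.leaf 94)) (.leaf 190)) (.node (.node (.leaf 54) (.leaf 34)) (.leaf 159))) (.node (.node (.node (.leaf 69) (.leaf 80)) (.leaf 220)) (.node (.leaf 139) (.leaf 5)))))) (.node (.node (.node (.node (.node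 (.node (.leaf 238) (.leaf 192)) (.leaf 243)) (.node (.node (.leaf 135) (.leaf 202)) (.leaf 228))) (.node (.node (.node (.leaf 242) (.leaf 79)) (.leaf 191)) (.node (.node (.leaf 87) (.leaf 38)) (.leaf 198)))) (.node (.node (.node (.node (.leaf 192) (.leaf 32)) (.leaf 213)) (.node (.node (.leaf 22) (.leaf 47)) (.leaf 39))) (.node (.node (.node (.leaf 156) (.leaf 26)) (.leaf 152)) (.node (.node (.leaf 208) (.leaf 131)) (.leaf 87))))) (.node (.node (.node (.node (.node (.leaf 243) (.leaf 24)) (.leaf 51)) (.node (.node (.leaf 191) (.leaf 98)) (.leaf 174))) (.node (.node (.node (.leaf 79) (.leaf 129)) (.leaf 132)) (.node (.node (.leaf 57) (.leaf 114)) (.leaf 222)))) (.node (.node (.node (.node (.leaf 209) (.leaf 250)) (.leaf 204)) (.node (.node (.leaf 151) (.leaf 63)) (.leaf 127))) (.node (.node (.node (.leaf 27) (.leaf 237)) (.leaf 250)) (.node (.leaf 240) (.leaf 251)))))))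

/-- Part of `succT`. -/
def succT_p10 : Tr := .node (.node (.node (.node (.node (.node (.node (.node (.leaf 51) (.leaf 112)) (.leaf 20)) (.node (.node (.leaf 20) (.leaf 201)) (.leaf 207))) (.node (.node (.node (.leaf 241) (.leaf 196)) (.leaf 88)) (.node (.node (.leaf 140) (.leaf 67)) (.leaf 219)))) (.node (.node (.node (.node (.leaf 246) (.leaf 205)) (.leaf 94)) (.node (.node (.leaf 218) (.leaf 226)) (.leaf 175))) (.node (.node (.node (.leaf 19) (.leaf 10)) (.leaf 142)) (.node (.node (.leaf 203) (.leaf 62)) (.leaf 89))))) (.node (.node (.node (.node (.node (.leaf 84) (.leaf 176)) (.leaf 217)) (.node (.node (.leaf 169) (.leaf 244)) (.leaf 181))) (.node (.node (.node (.leaf 185) (.leaf 179)) (.leaf 63)) (.node (.node (.leaf 183) (.leaf 148)) (.leaf 56)))) (.node (.node (.node (.node (.leaf 170) (.leaf 249)) (.leaf 211)) (.node (.node (.leaf 15) (.leaf 61)) (.leaf 49))) (.node (.node (.node (.leaf 145) (.leaf 17)) (.leaf 3)) (.node (.node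 (.leaf 136) (.leaf 140)) (.leaf 171)))))) (.node (.node (.node (.node (.node (.node (.leaf 125) (.leaf 195)) (.leaf 210)) (.node (.node (.leaf 210) (.leaf 181)) (.leaf 230))) (.node (.node (.node (.leaf 230) (.leaf 216)) (.leaf 101)) (.node (.node (.leaf 26) (.leaf 224)) (.leaf 67)))) (.node (.node (.node (.node (.leaf 113) (.leaf 169)) (.leaf 215)) (.node (.node (.leaf 114) (.leaf 78)) (.leaf 158))) (.node (.node (.node (.leaf 40) (.leaf 5)) (.leaf 22)) (.node (.node (.leaf 132) (.leaf 58)) (.leaf 183))))) (.node (.node (.node (.node (.node (.leaf 122) (.leaf 88)) (.leaf 237)) (.node (.node (.leaf 201) (.leaf 212)) (.leaf 111))) (.node (.node (.node (.leaf 89) (.leaf 138)) (.leaf 64)) (.node (.node (.leaf 149) (.leaf 86)) (.leaf 50)))) (.node (.node (.node (.node (.leaf 97) (.leaf 218)) (.leaf 18)) (.node (.node (.leaf 23) (.leaf 149)) (.leaf 167))) (.node (.node (.node (.leaf 158) (.leaf 146)) (.leaf 13)) (.node (.leaf 155) (.leaf 83)))))))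 (.node (.node (.node (.node (.node (.node (.node (.leaf 112) (.leaf 164)) (.leaf 164)) (.node (.node (.leaf 182) (.leaf 245)) (.leaf 99))) (.node (.node (.node (.leaf 197) (.leaf 93)) (.leaf 212)) (.node (.node (.leaf 168) (.leaf 167)) (.leaf 38)))) (.node (.node (.node (.node (.leaf 92) (.leaf 48)) (.leaf 53)) (.node (.node (.leaf 202) (.leaf 130)) (.leaf 60))) (.node (.node (.node (.leaf 77) (.leaf 85)) (.leaf 23)) (.node (.node (.leaf 142) (.leaf 69)) (.leaf 8))))) (.node (.node (.node (.node (.node (.leaf 18) (.leaf 228)) (.leaf 29)) (.node (.node (.leaf 189) (.leaf 207)) (.leaf 119))) (.node (.node (.node (.leaf 38) (.leaf 136)) (.leaf 77)) (.node (.node (.leaf 223) (.leaf 8)) (.leaf 200)))) (.node (.node (.node (.node (.leaf 204) (.leaf 217)) (.leaf 124)) (.node (.node (.leaf 71) (.leaf 157)) (.leaf 47))) (.node (.node (.node (.leaf 7) (.leaf 171)) (.leaf 1)) (.node (.leaf 153) (.leaf 11)))))) (.node (.node (.node (.node (.node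 (.node (.leaf 43) (.leaf 137)) (.leaf 143)) (.node (.node (.leaf 95) (.leaf 122)) (.leaf 236))) (.node (.node (.node (.leaf 229) (.leaf 153)) (.leaf 12)) (.node (.node (.leaf 59) (.leaf 227)) (.leaf 224)))) (.node (.node (.node (.node (.leaf 164) (.leaf 188)) (.leaf 24)) (.node (.node (.leaf 9) (.leaf 1)) (.leaf 123))) (.node (.node (.node (.leaf 116) (.leaf 14)) (.leaf 85)) (.node (.node (.leaf 13) (.leaf 0)) (.leaf 178))))) (.node (.node (.node (.node (.node (.leaf 194) (.leaf 213)) (.leaf 102)) (.node (.node (.leaf 172) (.leaf 172)) (.leaf 97))) (.node (.node (.node (.leaf 60) (.leaf 49)) (.leaf 2)) (.node (.node (.leaf 8) (.leaf 59)) (.leaf 105)))) (.node (.node (.node (.node (.leaf 100) (.leaf 204)) (.leaf 92)) (.node (.node (.leaf 42) (.leaf 219)) (.leaf 61))) (.node (.node (.node (.leaf 224) (.leaf 225)) (.leaf 31)) (.node (.leaf 246) (.leaf 120)))))))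

/-- Part of `succT`. -/
def succT_p11 : Tr := .node (.node (.node (.node (.node (.node (.node (.node (.leaf 80) (.leaf 230)) (.leaf 122)) (.node (.node (.leaf 53) (.leaf 214)) (.leaf 135))) (.node (.node (.node (.leaf 188) (.leaf 101)) (.leaf 65)) (.node (.node (.leaf 222) (.leaf 152)) (.leaf 79)))) (.node (.node (.node (.node (.leaf 32) (.leaf 95)) (.leaf 74)) (.node (.node (.leaf 187) (.leaf 151)) (.leaf 169))) (.node (.node (.node (.leaf 90) (.leaf 107)) (.leaf 57)) (.node (.node (.leaf 127) (.leaf 4)) (.leaf 4))))) (.node (.node (.node (.node (.node (.leaf 195) (.leaf 197)) (.leaf 205)) (.node (.node (.leaf 193) (.leaf 119)) (.leaf 25))) (.node (.node (.node (.leaf 212) (.leaf 36)) (.leaf 199)) (.node (.node (.leaf 36) (.leaf 116)) (.leaf 7)))) (.node (.node (.node (.node (.leaf 166) (.leaf 73)) (.leaf 118)) (.node (.node (.leaf 76) (.leaf 233)) (.leaf 151))) (.node (.node (.node (.leaf 67) (.leaf 3)) (.leaf 0)) (.node (.node (.leaf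 179) (.leaf 235)) (.leaf 130)))))) (.node (.node (.node (.node (.node (.node (.leaf 173) (.leaf 109)) (.leaf 165)) (.node (.node (.leaf 99) (.leaf 118)) (.leaf 185))) (.node (.node (.node (.leaf 248) (.leaf 211)) (.leaf 28)) (.node (.node (.leaf 6) (.leaf 145)) (.leaf 6)))) (.node (.node (.node (.node (.leaf 214) (.leaf 128)) (.leaf 232)) (.node (.node (.leaf 2) (.leaf 76)) (.leaf 155))) (.node (.node (.node (.leaf 221) (.leaf 13)) (.leaf 117)) (.node (.node (.leaf 130) (.leaf 89)) (.leaf 78))))) (.node (.node (.node (.node (.node (.leaf 240) (.leaf 65)) (.leaf 206)) (.node (.node (.leaf 176) (.leaf 170)) (.leaf 16))) (.node (.node (.node (.leaf 163) (.leaf 231)) (.leaf 148)) (.node (.node (.leaf 108) (.leaf 9)) (.leaf 9)))) (.node (.node (.node (.node (.leaf 52) (.leaf 240)) (.leaf 216)) (.node (.node (.leaf 117) (.leaf 177)) (.leaf 203))) (.node (.node (.node (.leaf 157) (.leaf 68)) (.leaf 83)) (.node (.leaf 220) (.leaf 53))))))) (.node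 (.node (.node (.node (.node (.node (.node (.leaf 91) (.leaf 134)) (.leaf 115)) (.node (.node (.leaf 101) (.leaf 92)) (.leaf 43))) (.node (.node (.node (.leaf 206) (.leaf 104)) (.leaf 110)) (.node (.node (.leaf 61) (.leaf 64)) (.leaf 62)))) (.node (.node (.node (.node (.leaf 118) (.leaf 236)) (.leaf 98)) (.node (.node (.leaf 128) (.leaf 221)) (.leaf 55))) (.node (.node (.node (.leaf 235) (.leaf 220)) (.leaf 54)) (.node (.node (.leaf 177) (.leaf 222)) (.leaf 179))))) (.node (.node (.node (.node (.node (.leaf 165) (.leaf 180)) (.leaf 144)) (.node (.node (.leaf 205) (.leaf 210)) (.leaf 106))) (.node (.node (.node (.leaf 44) (.leaf 239)) (.leaf 221)) (.node (.node (.leaf 141) (.leaf 66)) (.leaf 42)))) (.node (.node (.node (.node (.leaf 247) (.leaf 51)) (.leaf 182)) (.node (.node (.leaf 34) (.leaf 155)) (.leaf 81))) (.node (.node (.node (.leaf 239) (.leaf 229)) (.leaf 10)) (.node (.leaf 131) (.leaf 139)))))) (.node (.node (.node (.node (.node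 (.node (.leaf 25) (.leaf 43)) (.leaf 234)) (.node (.node (.leaf 251) (.leaf 91)) (.leaf 113))) (.node (.node (.node (.leaf 234) (.leaf 77)) (.leaf 95)) (.node (.node (.leaf 70) (.leaf 126)) (.leaf 126)))) (.node (.node (.node (.node (.leaf 196) (.leaf 124)) (.leaf 176)) (.node (.node (.leaf 107) (.leaf 154)) (.leaf 71))) (.node (.node (.node (.leaf 227) (.leaf 90)) (.leaf 90)) (.node (.node (.leaf 178) (.leaf 141)) (.leaf 131))))) (.node (.node (.node (.node (.node (.leaf 216) (.leaf 191)) (.leaf 104)) (.node (.node (.leaf 237) (.leaf 143)) (.leaf 137))) (.node (.node (.node (.leaf 105) (.leaf 223)) (.leaf 59)) (.node (.node (.leaf 1) (.leaf 199)) (.leaf 33)))) (.node (.node (.node (.node (.leaf 65) (.leaf 194)) (.leaf 225)) (.node (.node (.leaf 148) (.leaf 45)) (.leaf 160))) (.node (.node (.node (.leaf 104) (.leaf 209)) (.leaf 193)) (.node (.leaf 214) (.leaf 232)))))))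

/-- The images, generator-major. -/
def succT : Tr := .node (.node (succT_p00) (succT_p01)) (.node (succT_p10) (succT_p11))

/-- Part of `ordT`. -/
def ordT_p : Tr := .node (.node (.node (.node (.node (.node (.node (.leaf 1275) (.leaf 526)) (.node (.leaf 9051) (.leaf 11901))) (.node (.node (.leaf 4551) (.leaf 2776)) (.node (.leaf 9076) (.leaf 11101)))) (.node (.node (.node (.leaf 15025) (.leaf 10101)) (.node (.leaf 1126) (.leaf 11751))) (.node (.node (.leaf 2976) (.leaf 751)) (.node (.leaf 12176) (.leaf 10751))))) (.node (.node (.node (.node (.leaf 5650) (.leaf 8851)) (.node (.leaf 4926) (.leaf 6901))) (.node (.node (.leaf 1900) (.leaf 9626)) (.node (.leaf 3426) (.leaf 12801)))) (.node (.node (.node (.leaf 9176) (.leaf 51)) (.node (.leaf 9926) (.leaf 9201))) (.node (.node (.leaf 4626) (.leaf 2901)) (.node (.leaf 5376) (.leaf 8526)))))) (.node (.node (.node (.node (.node (.leaf 1101) (.leaf 14576)) (.node (.leaf 3551) (.leaf 15001)))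 (.node (.node (.leaf 7776) (.leaf 901)) (.node (.leaf 12826) (.leaf 14301)))) (.node (.node (.node (.leaf 8251) (.leaf 13951)) (.node (.leaf 7301) (.leaf 5576))) (.node (.node (.leaf 12601) (.leaf 226)) (.node (.leaf 11126) (.leaf 14951))))) (.node (.node (.node (.node (.leaf 8626) (.leaf 11976)) (.node (.leaf 6801) (.leaf 3151))) (.node (.node (.leaf 6826) (.leaf 2626)) (.node (.leaf 3451) (.leaf 3226)))) (.node (.node (.node (.leaf 12526) (.leaf 1251)) (.node (.leaf 7176) (.leaf 3576))) (.node (.node (.leaf 7901) (.leaf 11026)) (.leaf 3751)))))) (.node (.node (.node (.node (.node (.node (.leaf 13150) (.leaf 976)) (.node (.leaf 8401) (.leaf 6451))) (.node (.node (.leaf 7976) (.leaf 11376)) (.node (.leaf 10451) (.leaf 3001)))) (.node (.node (.node (.leaf 5176) (.leaf 6426)) (.node (.leaf 9576) (.leaf 10026))) (.node (.node (.leaf 14626) (.leaf 12301)) (.node (.leaf 13126) (.leaf 1026))))) (.node (.node (.node (.node (.leaf 601) (.leaf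 9751)) (.node (.leaf 5251) (.leaf 4751))) (.node (.node (.leaf 9951) (.leaf 14926)) (.node (.leaf 10976) (.leaf 10901)))) (.node (.node (.node (.leaf 6501) (.leaf 6976)) (.node (.leaf 4951) (.leaf 8776))) (.node (.node (.leaf 11651) (.leaf 5201)) (.node (.leaf 4576) (.leaf 14551)))))) (.node (.node (.node (.node (.node (.leaf 3775) (.leaf 76)) (.node (.leaf 7626) (.leaf 11726))) (.node (.node (.leaf 14126) (.leaf 9551)) (.node (.leaf 8476) (.leaf 8601)))) (.node (.node (.node (.leaf 10426) (.leaf 7851)) (.node (.leaf 7201) (.leaf 12926))) (.node (.node (.leaf 12326) (.leaf 13926)) (.node (.leaf 10326) (.leaf 14326))))) (.node (.node (.node (.node (.leaf 5626) (.leaf 6626)) (.node (.leaf 12201) (.leaf 11601))) (.node (.node (.leaf 14001) (.leaf 10301)) (.node (.leaf 7326) (.leaf 1876)))) (.node (.node (.node (.leaf 14751) (.leaf 2851)) (.node (.leaf 8001) (.leaf 151))) (.node (.node (.leaf 11526) (.leaf 5551)) (.leaf 12951))))))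

/-- Isotropic points in the order reached. -/
def ordT : Tr := ordT_p

/-- Part of `parT`. -/
def parT_p : Tr := .node (.node (.node (.node (.node (.node (.node (.leaf 0) (.leaf 27)) (.node (.leaf 13) (.leaf 176))) (.node (.node (.leaf 258) (.leaf 162)) (.node (.leaf 271) (.leaf 195)))) (.node (.node (.node (.leaf 3) (.leaf 156)) (.node (.leaf 142) (.leaf 60))) (.node (.node (.leaf 261) (.leaf 45)) (.node (.leaf 275) (.leaf 328))))) (.node (.node (.node (.node (.leaf 127) (.leaf 29)) (.node (.leaf 15) (.leaf 54))) (.node (.node (.leaf 8) (.leaf 165)) (.node (.leaf 273) (.leaf 198)))) (.node (.node (.node (.leaf 131) (.leaf 34)) (.node (.leaf 144) (.leaf 65))) (.node (.node (.leaf 11) (.leaf 47)) (.node (.leaf 25) (.leaf 83)))))) (.node (.node (.node (.node (.node (.leaf 252) (.leaf 28)) (.node (.leaf 265) (.leaf 53))) (.node (.node (.leaf 133) (.leaf 289)) (.node (.leaf 21) (.leaf 322)))) (.node (.node (.node (.leaf 256) (.leaf 158))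 (.node (.leaf 143) (.leaf 313))) (.node (.node (.leaf 136) (.leaf 46)) (.node (.leaf 150) (.leaf 330))))) (.node (.node (.node (.node (.leaf 2) (.leaf 281)) (.node (.leaf 267) (.leaf 184))) (.node (.node (.leaf 9) (.leaf 294)) (.node (.leaf 148) (.leaf 200)))) (.node (.node (.node (.leaf 6) (.leaf 35)) (.node (.leaf 19) (.leaf 67))) (.node (.node (.leaf 12) (.leaf 49)) (.leaf 277)))))) (.node (.node (.node (.node (.node (.node (.leaf 126) (.leaf 279)) (.node (.leaf 139) (.leaf 303))) (.node (.node (.leaf 7) (.leaf 163)) (.node (.leaf 272) (.leaf 321)))) (.node (.node (.node (.leaf 255) (.leaf 282)) (.node (.leaf 17) (.leaf 187))) (.node (.node (.leaf 10) (.leaf 171)) (.node (.leaf 24) (.leaf 329))))) (.node (.node (.node (.node (.leaf 253) (.leaf 155)) (.node (.leaf 141) (.leaf 58))) (.node (.node (.leaf 260) (.leaf 41)) (.node (.leaf 22) (.leaf 324)))) (.node (.node (.node (.leaf 257) (.leaf 160)) (.node (.leaf 270) (.leaf 66))) (.node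 (.node (.leaf 137) (.leaf 300)) (.node (.leaf 151) (.leaf 349)))))) (.node (.node (.node (.node (.node (.leaf 1) (.leaf 280)) (.node (.leaf 140) (.leaf 305))) (.node (.node (.leaf 259) (.leaf 164)) (.node (.leaf 147) (.leaf 71)))) (.node (.node (.node (.leaf 5) (.leaf 284)) (.node (.leaf 18) (.leaf 315))) (.node (.node (.leaf 262) (.leaf 298)) (.node (.leaf 276) (.leaf 79))))) (.node (.node (.node (.node (.leaf 128) (.leaf 30)) (.node (.leaf 16) (.leaf 59))) (.node (.node (.leaf 135) (.leaf 295)) (.node (.leaf 149) (.leaf 326)))) (.node (.node (.node (.leaf 132) (.leaf 161)) (.node (.leaf 145) (.leaf 194))) (.node (.node (.leaf 264) (.leaf 175)) (.leaf 278))))))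

/-- Where each point comes from. -/
def parT : Tr := parT_p

/-- Part of `posT`. -/
def posT_p000000 : Tr := .node (.node (.node (.node (.node (.node (.node (.node (.leaf 0) (.leaf 0)) (.node (.leaf 0) (.leaf 0))) (.node (.node (.leaf 23) (.leaf 0)) (.node (.leaf 116) (.leaf 0)))) (.node (.node (.node (.leaf 0) (.leaf 0)) (.node (.leaf 0) (.leaf 0))) (.node (.node (.leaf 109) (.leaf 0)) (.node (.leaf 0) (.leaf 0))))) (.node (.node (.node (.node (.leaf 0) (.leaf 0)) (.node (.leaf 0) (.leaf 0))) (.node (.node (.leaf 0) (.leaf 0)) (.node (.leaf 0) (.leaf 88)))) (.node (.node (.node (.leaf 109) (.leaf 0)) (.node (.leaf 0) (.leaf 12))) (.node (.node (.leaf 0) (.leaf 0)) (.leaf 0))))) (.node (.node (.node (.node (.node (.leaf 0) (.leaf 0)) (.node (.leaf 0) (.leaf 0))) (.node (.node (.leaf 0) (.leaf 60)) (.node (.leaf 0) (.leaf 19)))) (.node (.node (.node (.leaf 0) (.leaf 0)) (.node (.leaf 60) (.leaf 0))) (.node (.node (.leaf 0) (.leaf 0))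 (.node (.leaf 0) (.leaf 0))))) (.node (.node (.node (.node (.leaf 115) (.leaf 0)) (.node (.leaf 0) (.leaf 0))) (.node (.node (.leaf 37) (.leaf 52)) (.node (.leaf 12) (.leaf 0)))) (.node (.node (.node (.leaf 0) (.leaf 11)) (.node (.leaf 0) (.leaf 0))) (.node (.node (.leaf 101) (.leaf 0)) (.leaf 60)))))) (.node (.node (.node (.node (.node (.node (.leaf 0) (.leaf 0)) (.node (.leaf 0) (.leaf 75))) (.node (.node (.leaf 0) (.leaf 0)) (.node (.leaf 0) (.leaf 0)))) (.node (.node (.node (.leaf 0) (.leaf 0)) (.node (.leaf 0) (.leaf 0))) (.node (.node (.leaf 0) (.leaf 51)) (.node (.leaf 97) (.leaf 0))))) (.node (.node (.node (.node (.leaf 0) (.leaf 0)) (.node (.leaf 0) (.leaf 0))) (.node (.node (.leaf 0) (.leaf 0)) (.node (.leaf 68) (.leaf 0)))) (.node (.node (.node (.leaf 77) (.leaf 0)) (.node (.leaf 0) (.leaf 0))) (.node (.node (.leaf 0) (.leaf 77)) (.leaf 0))))) (.node (.node (.node (.node (.node (.leaf 0) (.leaf 0)) (.node (.leaf 0) (.leaf 0)))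 (.node (.node (.leaf 0) (.leaf 0)) (.node (.leaf 0) (.leaf 0)))) (.node (.node (.node (.leaf 66) (.leaf 0)) (.node (.leaf 0) (.leaf 40))) (.node (.node (.leaf 0) (.leaf 54)) (.leaf 0)))) (.node (.node (.node (.node (.leaf 0) (.leaf 96)) (.node (.leaf 0) (.leaf 0))) (.node (.node (.leaf 28) (.leaf 0)) (.node (.leaf 0) (.leaf 22)))) (.node (.node (.node (.leaf 0) (.leaf 50)) (.node (.leaf 0) (.leaf 24))) (.node (.node (.leaf 0) (.leaf 0)) (.leaf 0))))))) (.node (.node (.node (.node (.node (.node (.node (.leaf 0) (.leaf 0)) (.node (.leaf 0) (.leaf 114))) (.node (.node (.leaf 0) (.leaf 108)) (.node (.leaf 0) (.leaf 0)))) (.node (.node (.node (.leaf 0) (.leaf 17)) (.node (.leaf 0) (.leaf 0))) (.node (.node (.leaf 0) (.leaf 0)) (.node (.leaf 0) (.leaf 0))))) (.node (.node (.node (.node (.leaf 0) (.leaf 0)) (.node (.leaf 0) (.leaf 0))) (.node (.node (.leaf 0) (.leaf 0)) (.node (.leaf 0) (.leaf 0)))) (.node (.node (.node (.leaf 0) (.leaf 0))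 (.node (.leaf 0) (.leaf 0))) (.node (.node (.leaf 0) (.leaf 49)) (.leaf 0))))) (.node (.node (.node (.node (.node (.leaf 0) (.leaf 0)) (.node (.leaf 0) (.leaf 0))) (.node (.node (.leaf 0) (.leaf 0)) (.node (.leaf 0) (.leaf 0)))) (.node (.node (.node (.leaf 0) (.leaf 0)) (.node (.leaf 117) (.leaf 0))) (.node (.node (.leaf 0) (.leaf 0)) (.leaf 0)))) (.node (.node (.node (.node (.leaf 46) (.leaf 0)) (.node (.leaf 0) (.leaf 121))) (.node (.node (.leaf 0) (.leaf 0)) (.node (.leaf 77) (.leaf 0)))) (.node (.node (.node (.leaf 0) (.leaf 0)) (.node (.leaf 0) (.leaf 0))) (.node (.node (.leaf 0) (.leaf 0)) (.leaf 0)))))) (.node (.node (.node (.node (.node (.node (.leaf 0) (.leaf 0)) (.node (.leaf 0) (.leaf 51))) (.node (.node (.leaf 0) (.leaf 0)) (.node (.leaf 0) (.leaf 87)))) (.node (.node (.node (.leaf 0) (.leaf 75)) (.node (.leaf 0) (.leaf 0))) (.node (.node (.leaf 0) (.leaf 0)) (.node (.leaf 0) (.leaf 18))))) (.node (.node (.node (.node (.leaf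 0) (.leaf 123)) (.node (.leaf 0) (.leaf 0))) (.node (.node (.leaf 0) (.leaf 38)) (.node (.leaf 0) (.leaf 0)))) (.node (.node (.node (.leaf 0) (.leaf 0)) (.node (.leaf 47) (.leaf 0))) (.node (.node (.leaf 0) (.leaf 0)) (.leaf 0))))) (.node (.node (.node (.node (.node (.leaf 0) (.leaf 0)) (.node (.leaf 0) (.leaf 81))) (.node (.node (.leaf 0) (.leaf 0)) (.node (.leaf 0) (.leaf 0)))) (.node (.node (.node (.leaf 0) (.leaf 0)) (.node (.leaf 125) (.leaf 0))) (.node (.node (.leaf 0) (.leaf 0)) (.leaf 97)))) (.node (.node (.node (.node (.leaf 0) (.leaf 45)) (.node (.leaf 48) (.leaf 0))) (.node (.node (.leaf 0) (.leaf 0)) (.node (.leaf 0) (.leaf 0)))) (.node (.node (.node (.leaf 0) (.leaf 0)) (.node (.leaf 0) (.leaf 0))) (.node (.node (.leaf 0) (.leaf 0)) (.leaf 57)))))))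

/-- Part of `posT`. -/
def posT_p000001 : Tr := .node (.node (.node (.node (.node (.node (.node (.node (.leaf 0) (.leaf 0)) (.node (.leaf 35) (.leaf 0))) (.node (.node (.leaf 0) (.leaf 0)) (.node (.leaf 0) (.leaf 0)))) (.node (.node (.node (.leaf 0) (.leaf 0)) (.node (.leaf 27) (.leaf 0))) (.node (.node (.leaf 0) (.leaf 0)) (.node (.leaf 0) (.leaf 0))))) (.node (.node (.node (.node (.leaf 0) (.leaf 0)) (.node (.leaf 0) (.leaf 0))) (.node (.node (.leaf 0) (.leaf 0)) (.node (.leaf 0) (.leaf 0)))) (.node (.node (.node (.leaf 0) (.leaf 0)) (.node (.leaf 0) (.leaf 0))) (.node (.node (.leaf 0) (.leaf 70)) (.leaf 0))))) (.node (.node (.node (.node (.node (.leaf 0) (.leaf 0)) (.node (.leaf 0) (.leaf 0))) (.node (.node (.leaf 0) (.leaf 0)) (.node (.leaf 0) (.leaf 52)))) (.node (.node (.node (.leaf 0) (.leaf 0)) (.node (.leaf 0) (.leaf 0))) (.node (.node (.leaf 0) (.leaf 0)) (.leaf 0)))) (.node (.node (.node (.node (.leaf 0) (.leaf 0)) (.node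 (.leaf 0) (.leaf 0))) (.node (.node (.leaf 0) (.leaf 0)) (.node (.leaf 92) (.leaf 46)))) (.node (.node (.node (.leaf 53) (.leaf 0)) (.node (.leaf 39) (.leaf 0))) (.node (.node (.leaf 0) (.leaf 0)) (.leaf 0)))))) (.node (.node (.node (.node (.node (.node (.leaf 0) (.leaf 0)) (.node (.leaf 0) (.leaf 0))) (.node (.node (.leaf 0) (.leaf 0)) (.node (.leaf 0) (.leaf 0)))) (.node (.node (.node (.leaf 0) (.leaf 0)) (.node (.leaf 0) (.leaf 0))) (.node (.node (.leaf 0) (.leaf 0)) (.node (.leaf 0) (.leaf 105))))) (.node (.node (.node (.node (.leaf 0) (.leaf 0)) (.node (.leaf 38) (.leaf 0))) (.node (.node (.leaf 0) (.leaf 75)) (.node (.leaf 0) (.leaf 0)))) (.node (.node (.node (.leaf 0) (.leaf 0)) (.node (.leaf 0) (.leaf 102))) (.node (.node (.leaf 99) (.leaf 79)) (.leaf 0))))) (.node (.node (.node (.node (.node (.leaf 0) (.leaf 0)) (.node (.leaf 0) (.leaf 0))) (.node (.node (.leaf 0) (.leaf 0)) (.node (.leaf 121) (.leaf 0)))) (.node (.node (.node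 (.leaf 0) (.leaf 0)) (.node (.leaf 0) (.leaf 0))) (.node (.node (.leaf 0) (.leaf 66)) (.leaf 0)))) (.node (.node (.node (.node (.leaf 0) (.leaf 0)) (.node (.leaf 0) (.leaf 0))) (.node (.node (.leaf 24) (.leaf 0)) (.node (.leaf 0) (.leaf 0)))) (.node (.node (.node (.leaf 0) (.leaf 0)) (.node (.leaf 0) (.leaf 0))) (.node (.node (.leaf 0) (.leaf 107)) (.leaf 0))))))) (.node (.node (.node (.node (.node (.node (.node (.leaf 0) (.leaf 0)) (.node (.leaf 0) (.leaf 22))) (.node (.node (.leaf 0) (.leaf 0)) (.node (.leaf 123) (.leaf 0)))) (.node (.node (.node (.leaf 0) (.leaf 0)) (.node (.leaf 0) (.leaf 0))) (.node (.node (.leaf 39) (.leaf 0)) (.node (.leaf 0) (.leaf 0))))) (.node (.node (.node (.node (.leaf 0) (.leaf 0)) (.node (.leaf 0) (.leaf 0))) (.node (.node (.leaf 0) (.leaf 49)) (.node (.leaf 0) (.leaf 0)))) (.node (.node (.node (.leaf 0) (.leaf 0)) (.node (.leaf 0) (.leaf 0))) (.node (.node (.leaf 0) (.leaf 0)) (.leaf 18))))) (.node (.node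 (.node (.node (.node (.leaf 0) (.leaf 0)) (.node (.leaf 0) (.leaf 0))) (.node (.node (.leaf 0) (.leaf 0)) (.node (.leaf 72) (.leaf 0)))) (.node (.node (.node (.leaf 0) (.leaf 23)) (.node (.leaf 80) (.leaf 0))) (.node (.node (.leaf 9) (.leaf 0)) (.leaf 0)))) (.node (.node (.node (.node (.leaf 0) (.leaf 0)) (.node (.leaf 0) (.leaf 0))) (.node (.node (.leaf 6) (.leaf 33)) (.node (.leaf 0) (.leaf 0)))) (.node (.node (.node (.leaf 98) (.leaf 104)) (.node (.leaf 0) (.leaf 0))) (.node (.node (.leaf 0) (.leaf 0)) (.leaf 0)))))) (.node (.node (.node (.node (.node (.node (.leaf 0) (.leaf 0)) (.node (.leaf 0) (.leaf 0))) (.node (.node (.leaf 0) (.leaf 0)) (.node (.leaf 0) (.leaf 0)))) (.node (.node (.node (.leaf 0) (.leaf 0)) (.node (.leaf 0) (.leaf 50))) (.node (.node (.leaf 0) (.leaf 0)) (.node (.leaf 0) (.leaf 117))))) (.node (.node (.node (.node (.leaf 45) (.leaf 0)) (.node (.leaf 40) (.leaf 114))) (.node (.node (.leaf 0) (.leaf 53)) (.node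 (.leaf 0) (.leaf 9)))) (.node (.node (.node (.leaf 0) (.leaf 0)) (.node (.leaf 0) (.leaf 0))) (.node (.node (.leaf 106) (.leaf 0)) (.leaf 103))))) (.node (.node (.node (.node (.node (.leaf 0) (.leaf 0)) (.node (.leaf 61) (.leaf 0))) (.node (.node (.leaf 0) (.leaf 0)) (.node (.leaf 0) (.leaf 0)))) (.node (.node (.node (.leaf 0) (.leaf 0)) (.node (.leaf 0) (.leaf 0))) (.node (.node (.leaf 0) (.leaf 0)) (.leaf 0)))) (.node (.node (.node (.node (.leaf 18) (.leaf 0)) (.node (.leaf 0) (.leaf 0))) (.node (.node (.leaf 0) (.leaf 0)) (.node (.leaf 0) (.leaf 0)))) (.node (.node (.node (.leaf 43) (.leaf 0)) (.node (.leaf 0) (.leaf 93))) (.node (.node (.leaf 0) (.leaf 0)) (.leaf 0)))))))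

/-- Part of `posT`. -/
def posT_p000010 : Tr := .node (.node (.node (.node (.node (.node (.node (.node (.leaf 0) (.leaf 0)) (.node (.leaf 0) (.leaf 43))) (.node (.node (.leaf 0) (.leaf 0)) (.node (.leaf 95) (.leaf 46)))) (.node (.node (.node (.leaf 0) (.leaf 0)) (.node (.leaf 0) (.leaf 117))) (.node (.node (.leaf 0) (.leaf 15)) (.node (.leaf 0) (.leaf 0))))) (.node (.node (.node (.node (.leaf 0) (.leaf 0)) (.node (.leaf 116) (.leaf 0))) (.node (.node (.leaf 0) (.leaf 99)) (.node (.leaf 0) (.leaf 0)))) (.node (.node (.node (.leaf 0) (.leaf 0)) (.node (.leaf 0) (.leaf 0))) (.node (.node (.leaf 0) (.leaf 0)) (.leaf 0))))) (.node (.node (.node (.node (.node (.leaf 0) (.leaf 122)) (.node (.leaf 0) (.leaf 0))) (.node (.node (.leaf 0) (.leaf 0)) (.node (.leaf 0) (.leaf 0)))) (.node (.node (.node (.leaf 0) (.leaf 0)) (.node (.leaf 83) (.leaf 0))) (.node (.node (.leaf 0) (.leaf 0)) (.leaf 0)))) (.node (.node (.node (.node (.leaf 0) (.leaf 0))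 (.node (.leaf 0) (.leaf 0))) (.node (.node (.leaf 0) (.leaf 0)) (.node (.leaf 0) (.leaf 0)))) (.node (.node (.node (.leaf 0) (.leaf 0)) (.node (.leaf 0) (.leaf 0))) (.node (.node (.leaf 0) (.leaf 0)) (.leaf 0)))))) (.node (.node (.node (.node (.node (.node (.leaf 0) (.leaf 0)) (.node (.leaf 0) (.leaf 0))) (.node (.node (.leaf 0) (.leaf 0)) (.node (.leaf 0) (.leaf 0)))) (.node (.node (.node (.leaf 0) (.leaf 0)) (.node (.leaf 0) (.leaf 0))) (.node (.node (.leaf 33) (.leaf 0)) (.node (.leaf 32) (.leaf 0))))) (.node (.node (.node (.node (.leaf 0) (.leaf 0)) (.node (.leaf 0) (.leaf 0))) (.node (.node (.leaf 0) (.leaf 0)) (.node (.leaf 0) (.leaf 0)))) (.node (.node (.node (.leaf 0) (.leaf 0)) (.node (.leaf 0) (.leaf 45))) (.node (.node (.leaf 0) (.leaf 0)) (.leaf 0))))) (.node (.node (.node (.node (.node (.leaf 0) (.leaf 0)) (.node (.leaf 0) (.leaf 0))) (.node (.node (.leaf 0) (.leaf 0)) (.node (.leaf 0) (.leaf 0)))) (.node (.node (.node (.leaf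 0) (.leaf 0)) (.node (.leaf 0) (.leaf 0))) (.node (.node (.leaf 0) (.leaf 0)) (.leaf 0)))) (.node (.node (.node (.node (.leaf 53) (.leaf 0)) (.node (.leaf 0) (.leaf 0))) (.node (.node (.leaf 0) (.leaf 0)) (.node (.leaf 0) (.leaf 83)))) (.node (.node (.node (.leaf 0) (.leaf 28)) (.node (.leaf 0) (.leaf 0))) (.node (.node (.leaf 0) (.leaf 56)) (.leaf 0))))))) (.node (.node (.node (.node (.node (.node (.node (.leaf 0) (.leaf 0)) (.node (.leaf 0) (.leaf 0))) (.node (.node (.leaf 40) (.leaf 0)) (.node (.leaf 35) (.leaf 0)))) (.node (.node (.node (.leaf 80) (.leaf 0)) (.node (.leaf 0) (.leaf 0))) (.node (.node (.leaf 0) (.leaf 0)) (.node (.leaf 0) (.leaf 0))))) (.node (.node (.node (.node (.leaf 0) (.leaf 0)) (.node (.leaf 0) (.leaf 0))) (.node (.node (.leaf 0) (.leaf 32)) (.node (.leaf 0) (.leaf 0)))) (.node (.node (.node (.leaf 70) (.leaf 35)) (.node (.leaf 0) (.leaf 0))) (.node (.node (.leaf 94) (.leaf 0)) (.leaf 105))))) (.node (.node (.node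 (.node (.node (.leaf 0) (.leaf 0)) (.node (.leaf 0) (.leaf 0))) (.node (.node (.leaf 0) (.leaf 0)) (.node (.leaf 0) (.leaf 0)))) (.node (.node (.node (.leaf 0) (.leaf 0)) (.node (.leaf 0) (.leaf 0))) (.node (.node (.leaf 0) (.leaf 0)) (.leaf 0)))) (.node (.node (.node (.node (.leaf 27) (.leaf 0)) (.node (.leaf 0) (.leaf 0))) (.node (.node (.leaf 0) (.leaf 0)) (.node (.leaf 110) (.leaf 112)))) (.node (.node (.node (.leaf 61) (.leaf 80)) (.node (.leaf 0) (.leaf 0))) (.node (.node (.leaf 0) (.leaf 0)) (.leaf 0)))))) (.node (.node (.node (.node (.node (.node (.leaf 0) (.leaf 0)) (.node (.leaf 0) (.leaf 0))) (.node (.node (.leaf 117) (.leaf 0)) (.node (.leaf 0) (.leaf 0)))) (.node (.node (.node (.leaf 0) (.leaf 0)) (.node (.leaf 0) (.leaf 0))) (.node (.node (.leaf 121) (.leaf 77)) (.node (.leaf 0) (.leaf 0))))) (.node (.node (.node (.node (.leaf 0) (.leaf 0)) (.node (.leaf 0) (.leaf 0))) (.node (.node (.leaf 0) (.leaf 0)) (.node (.leaf 0)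 (.leaf 0)))) (.node (.node (.node (.leaf 105) (.leaf 0)) (.node (.leaf 0) (.leaf 0))) (.node (.node (.leaf 0) (.leaf 0)) (.leaf 0))))) (.node (.node (.node (.node (.node (.leaf 0) (.leaf 0)) (.node (.leaf 0) (.leaf 0))) (.node (.node (.leaf 0) (.leaf 0)) (.node (.leaf 0) (.leaf 0)))) (.node (.node (.node (.leaf 0) (.leaf 0)) (.node (.leaf 0) (.leaf 0))) (.node (.node (.leaf 0) (.leaf 0)) (.leaf 0)))) (.node (.node (.node (.node (.leaf 65) (.leaf 0)) (.node (.leaf 0) (.leaf 11))) (.node (.node (.leaf 0) (.leaf 0)) (.node (.leaf 115) (.leaf 0)))) (.node (.node (.node (.leaf 0) (.leaf 0)) (.node (.leaf 0) (.leaf 0))) (.node (.node (.leaf 0) (.leaf 0)) (.leaf 0)))))))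

/-- Part of `posT`. -/
def posT_p000011 : Tr := .node (.node (.node (.node (.node (.node (.node (.node (.leaf 0) (.leaf 0)) (.node (.leaf 0) (.leaf 0))) (.node (.node (.leaf 35) (.leaf 0)) (.node (.leaf 0) (.leaf 0)))) (.node (.node (.node (.leaf 0) (.leaf 0)) (.node (.leaf 0) (.leaf 74))) (.node (.node (.leaf 0) (.leaf 0)) (.node (.leaf 0) (.leaf 0))))) (.node (.node (.node (.node (.leaf 0) (.leaf 0)) (.node (.leaf 0) (.leaf 0))) (.node (.node (.leaf 0) (.leaf 0)) (.node (.leaf 0) (.leaf 0)))) (.node (.node (.node (.leaf 0) (.leaf 0)) (.node (.leaf 0) (.leaf 65))) (.node (.node (.leaf 0) (.leaf 0)) (.leaf 0))))) (.node (.node (.node (.node (.node (.leaf 0) (.leaf 0)) (.node (.leaf 0) (.leaf 0))) (.node (.node (.leaf 0) (.leaf 120)) (.node (.leaf 0) (.leaf 0)))) (.node (.node (.node (.leaf 0) (.leaf 0)) (.node (.leaf 0) (.leaf 32))) (.node (.node (.leaf 0) (.leaf 0)) (.leaf 0)))) (.node (.node (.node (.node (.leaf 0) (.leaf 0)) (.node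 (.leaf 0) (.leaf 0))) (.node (.node (.leaf 0) (.leaf 0)) (.node (.leaf 0) (.leaf 0)))) (.node (.node (.node (.leaf 0) (.leaf 0)) (.node (.leaf 0) (.leaf 0))) (.node (.node (.leaf 0) (.leaf 0)) (.leaf 0)))))) (.node (.node (.node (.node (.node (.node (.leaf 0) (.leaf 0)) (.node (.leaf 0) (.leaf 0))) (.node (.node (.leaf 0) (.leaf 0)) (.node (.leaf 0) (.leaf 0)))) (.node (.node (.node (.leaf 0) (.leaf 0)) (.node (.leaf 0) (.leaf 0))) (.node (.node (.leaf 0) (.leaf 87)) (.node (.leaf 0) (.leaf 0))))) (.node (.node (.node (.node (.leaf 0) (.leaf 0)) (.node (.leaf 0) (.leaf 0))) (.node (.node (.leaf 0) (.leaf 0)) (.node (.leaf 0) (.leaf 0)))) (.node (.node (.node (.leaf 0) (.leaf 0)) (.node (.leaf 0) (.leaf 0))) (.node (.node (.leaf 0) (.leaf 0)) (.leaf 0))))) (.node (.node (.node (.node (.node (.leaf 0) (.leaf 0)) (.node (.leaf 32) (.leaf 0))) (.node (.node (.leaf 0) (.leaf 0)) (.node (.leaf 0) (.leaf 44)))) (.node (.node (.node (.leaf 51)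 (.leaf 0)) (.node (.leaf 0) (.leaf 0))) (.node (.node (.leaf 0) (.leaf 0)) (.leaf 0)))) (.node (.node (.node (.node (.leaf 85) (.leaf 0)) (.node (.leaf 120) (.leaf 0))) (.node (.node (.leaf 104) (.leaf 0)) (.node (.leaf 0) (.leaf 12)))) (.node (.node (.node (.leaf 0) (.leaf 0)) (.node (.leaf 0) (.leaf 0))) (.node (.node (.leaf 0) (.leaf 0)) (.leaf 0))))))) (.node (.node (.node (.node (.node (.node (.node (.leaf 0) (.leaf 0)) (.node (.leaf 0) (.leaf 0))) (.node (.node (.leaf 0) (.leaf 125)) (.node (.leaf 0) (.leaf 0)))) (.node (.node (.node (.leaf 0) (.leaf 0)) (.node (.leaf 0) (.leaf 0))) (.node (.node (.leaf 0) (.leaf 81)) (.node (.leaf 0) (.leaf 0))))) (.node (.node (.node (.node (.leaf 0) (.leaf 24)) (.node (.leaf 0) (.leaf 0))) (.node (.node (.leaf 0) (.leaf 0)) (.node (.leaf 0) (.leaf 0)))) (.node (.node (.node (.leaf 0) (.leaf 121)) (.node (.leaf 0) (.leaf 0))) (.node (.node (.leaf 0) (.leaf 0)) (.leaf 120))))) (.node (.node (.node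 (.node (.node (.leaf 0) (.leaf 0)) (.node (.leaf 0) (.leaf 0))) (.node (.node (.leaf 0) (.leaf 0)) (.node (.leaf 114) (.leaf 0)))) (.node (.node (.node (.leaf 0) (.leaf 0)) (.node (.leaf 0) (.leaf 0))) (.node (.node (.leaf 0) (.leaf 107)) (.leaf 9)))) (.node (.node (.node (.node (.leaf 0) (.leaf 0)) (.node (.leaf 0) (.leaf 0))) (.node (.node (.leaf 0) (.leaf 0)) (.node (.leaf 61) (.leaf 0)))) (.node (.node (.node (.leaf 0) (.leaf 0)) (.node (.leaf 0) (.leaf 0))) (.node (.node (.leaf 99) (.leaf 0)) (.leaf 0)))))) (.node (.node (.node (.node (.node (.node (.leaf 0) (.leaf 0)) (.node (.leaf 0) (.leaf 0))) (.node (.node (.leaf 0) (.leaf 0)) (.node (.leaf 0) (.leaf 66)))) (.node (.node (.node (.leaf 0) (.leaf 42)) (.node (.leaf 0) (.leaf 0))) (.node (.node (.leaf 0) (.leaf 0)) (.node (.leaf 0) (.leaf 0))))) (.node (.node (.node (.node (.leaf 0) (.leaf 0)) (.node (.leaf 86) (.leaf 0))) (.node (.node (.leaf 0) (.leaf 82)) (.node (.leaf 0) (.leaf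 0)))) (.node (.node (.node (.leaf 0) (.leaf 19)) (.node (.leaf 69) (.leaf 0))) (.node (.node (.leaf 0) (.leaf 0)) (.leaf 0))))) (.node (.node (.node (.node (.node (.leaf 0) (.leaf 0)) (.node (.leaf 60) (.leaf 15))) (.node (.node (.leaf 45) (.leaf 21)) (.node (.leaf 0) (.leaf 113)))) (.node (.node (.node (.leaf 0) (.leaf 0)) (.node (.leaf 0) (.leaf 0))) (.node (.node (.leaf 27) (.leaf 0)) (.leaf 0)))) (.node (.node (.node (.node (.leaf 32) (.leaf 0)) (.node (.leaf 0) (.leaf 0))) (.node (.node (.leaf 0) (.leaf 0)) (.node (.leaf 93) (.leaf 0)))) (.node (.node (.node (.leaf 60) (.leaf 0)) (.node (.leaf 0) (.leaf 0))) (.node (.node (.leaf 0) (.leaf 0)) (.leaf 0)))))))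

/-- Part of `posT`. -/
def posT_p000100 : Tr := .node (.node (.node (.node (.node (.node (.node (.node (.leaf 0) (.leaf 1)) (.node (.leaf 0) (.leaf 41))) (.node (.node (.leaf 120) (.leaf 0)) (.node (.leaf 0) (.leaf 0)))) (.node (.node (.node (.leaf 0) (.leaf 0)) (.node (.leaf 0) (.leaf 0))) (.node (.node (.leaf 0) (.leaf 0)) (.node (.leaf 46) (.leaf 0))))) (.node (.node (.node (.node (.leaf 0) (.leaf 0)) (.node (.leaf 0) (.leaf 0))) (.node (.node (.leaf 0) (.leaf 0)) (.node (.leaf 0) (.leaf 0)))) (.node (.node (.node (.leaf 72) (.leaf 0)) (.node (.leaf 0) (.leaf 0))) (.node (.node (.leaf 48) (.leaf 0)) (.leaf 0))))) (.node (.node (.node (.node (.node (.leaf 90) (.leaf 0)) (.node (.leaf 125) (.leaf 0))) (.node (.node (.leaf 0) (.leaf 0)) (.node (.leaf 0) (.leaf 0)))) (.node (.node (.node (.leaf 0) (.leaf 0)) (.node (.leaf 0) (.leaf 0))) (.node (.node (.leaf 0) (.leaf 0)) (.node (.leaf 0) (.leaf 0))))) (.node (.node (.node (.node (.leaf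 0) (.leaf 0)) (.node (.leaf 0) (.leaf 0))) (.node (.node (.leaf 0) (.leaf 0)) (.node (.leaf 0) (.leaf 0)))) (.node (.node (.node (.leaf 0) (.leaf 0)) (.node (.leaf 92) (.leaf 0))) (.node (.node (.leaf 38) (.leaf 0)) (.leaf 23)))))) (.node (.node (.node (.node (.node (.node (.leaf 0) (.leaf 0)) (.node (.leaf 0) (.leaf 0))) (.node (.node (.leaf 0) (.leaf 0)) (.node (.leaf 0) (.leaf 0)))) (.node (.node (.node (.leaf 0) (.leaf 0)) (.node (.leaf 0) (.leaf 0))) (.node (.node (.leaf 0) (.leaf 20)) (.node (.leaf 39) (.leaf 0))))) (.node (.node (.node (.node (.leaf 0) (.leaf 0)) (.node (.leaf 0) (.leaf 0))) (.node (.node (.leaf 0) (.leaf 0)) (.node (.leaf 0) (.leaf 42)))) (.node (.node (.node (.leaf 0) (.leaf 0)) (.node (.leaf 0) (.leaf 0))) (.node (.node (.leaf 0) (.leaf 11)) (.leaf 13))))) (.node (.node (.node (.node (.node (.leaf 0) (.leaf 0)) (.node (.leaf 0) (.leaf 0))) (.node (.node (.leaf 0) (.leaf 0)) (.node (.leaf 0) (.leaf 0)))) (.node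 (.node (.node (.leaf 0) (.leaf 0)) (.node (.leaf 0) (.leaf 0))) (.node (.node (.leaf 0) (.leaf 0)) (.leaf 0)))) (.node (.node (.node (.node (.leaf 24) (.leaf 0)) (.node (.leaf 0) (.leaf 0))) (.node (.node (.leaf 0) (.leaf 0)) (.node (.leaf 0) (.leaf 85)))) (.node (.node (.node (.leaf 0) (.leaf 0)) (.node (.leaf 17) (.leaf 0))) (.node (.node (.leaf 0) (.leaf 0)) (.leaf 96))))))) (.node (.node (.node (.node (.node (.node (.node (.leaf 0) (.leaf 0)) (.node (.leaf 0) (.leaf 0))) (.node (.node (.leaf 0) (.leaf 14)) (.node (.leaf 0) (.leaf 51)))) (.node (.node (.node (.leaf 0) (.leaf 0)) (.node (.leaf 41) (.leaf 79))) (.node (.node (.leaf 0) (.leaf 0)) (.node (.leaf 0) (.leaf 0))))) (.node (.node (.node (.node (.leaf 0) (.leaf 109)) (.node (.leaf 0) (.leaf 0))) (.node (.node (.leaf 0) (.leaf 0)) (.node (.leaf 0) (.leaf 0)))) (.node (.node (.node (.leaf 0) (.leaf 0)) (.node (.leaf 0) (.leaf 0))) (.node (.node (.leaf 0) (.leaf 102)) (.leaf 0)))))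 (.node (.node (.node (.node (.node (.leaf 64) (.leaf 0)) (.node (.leaf 0) (.leaf 0))) (.node (.node (.leaf 0) (.leaf 0)) (.node (.leaf 0) (.leaf 0)))) (.node (.node (.node (.leaf 0) (.leaf 0)) (.node (.leaf 29) (.leaf 0))) (.node (.node (.leaf 0) (.leaf 0)) (.leaf 0)))) (.node (.node (.node (.node (.leaf 34) (.leaf 0)) (.node (.leaf 0) (.leaf 0))) (.node (.node (.leaf 0) (.leaf 106)) (.node (.leaf 0) (.leaf 0)))) (.node (.node (.node (.leaf 0) (.leaf 0)) (.node (.leaf 0) (.leaf 0))) (.node (.node (.leaf 0) (.leaf 0)) (.leaf 0)))))) (.node (.node (.node (.node (.node (.node (.leaf 0) (.leaf 0)) (.node (.leaf 0) (.leaf 0))) (.node (.node (.leaf 0) (.leaf 0)) (.node (.leaf 0) (.leaf 0)))) (.node (.node (.node (.leaf 0) (.leaf 0)) (.node (.leaf 0) (.leaf 0))) (.node (.node (.leaf 0) (.leaf 0)) (.node (.leaf 0) (.leaf 0))))) (.node (.node (.node (.node (.leaf 0) (.leaf 0)) (.node (.leaf 120) (.leaf 0))) (.node (.node (.leaf 102) (.leaf 0))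 (.node (.leaf 70) (.leaf 0)))) (.node (.node (.node (.leaf 68) (.leaf 0)) (.node (.leaf 0) (.leaf 0))) (.node (.node (.leaf 0) (.leaf 70)) (.leaf 0))))) (.node (.node (.node (.node (.node (.leaf 67) (.leaf 0)) (.node (.leaf 0) (.leaf 47))) (.node (.node (.leaf 0) (.leaf 0)) (.node (.leaf 4) (.leaf 0)))) (.node (.node (.node (.leaf 0) (.leaf 0)) (.node (.leaf 106) (.leaf 0))) (.node (.node (.leaf 73) (.leaf 16)) (.leaf 0)))) (.node (.node (.node (.node (.leaf 0) (.leaf 0)) (.node (.leaf 0) (.leaf 0))) (.node (.node (.leaf 0) (.leaf 54)) (.node (.leaf 0) (.leaf 0)))) (.node (.node (.node (.leaf 0) (.leaf 0)) (.node (.leaf 0) (.leaf 0))) (.node (.node (.leaf 0) (.leaf 0)) (.leaf 0)))))))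

/-- Part of `posT`. -/
def posT_p000101 : Tr := .node (.node (.node (.node (.node (.node (.node (.node (.leaf 0) (.leaf 0)) (.node (.leaf 0) (.leaf 0))) (.node (.node (.leaf 0) (.leaf 0)) (.node (.leaf 88) (.leaf 0)))) (.node (.node (.node (.leaf 9) (.leaf 97)) (.node (.leaf 0) (.leaf 0))) (.node (.node (.leaf 0) (.leaf 0)) (.node (.leaf 0) (.leaf 0))))) (.node (.node (.node (.node (.leaf 0) (.leaf 0)) (.node (.leaf 0) (.leaf 0))) (.node (.node (.leaf 0) (.leaf 0)) (.node (.leaf 0) (.leaf 0)))) (.node (.node (.node (.leaf 0) (.leaf 114)) (.node (.leaf 0) (.leaf 0))) (.node (.node (.leaf 106) (.leaf 0)) (.leaf 0))))) (.node (.node (.node (.node (.node (.leaf 0) (.leaf 2)) (.node (.leaf 0) (.leaf 0))) (.node (.node (.leaf 0) (.leaf 6)) (.node (.leaf 0) (.leaf 0)))) (.node (.node (.node (.leaf 0) (.leaf 0)) (.node (.leaf 0) (.leaf 0))) (.node (.node (.leaf 0) (.leaf 0)) (.leaf 0)))) (.node (.node (.node (.node (.leaf 12) (.leaf 3)) (.node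 (.leaf 0) (.leaf 0))) (.node (.node (.leaf 0) (.leaf 0)) (.node (.leaf 0) (.leaf 27)))) (.node (.node (.node (.leaf 0) (.leaf 0)) (.node (.leaf 0) (.leaf 0))) (.node (.node (.leaf 105) (.leaf 0)) (.leaf 17)))))) (.node (.node (.node (.node (.node (.node (.leaf 76) (.leaf 0)) (.node (.leaf 50) (.leaf 0))) (.node (.node (.leaf 0) (.leaf 0)) (.node (.leaf 0) (.leaf 0)))) (.node (.node (.node (.leaf 0) (.leaf 0)) (.node (.leaf 0) (.leaf 56))) (.node (.node (.leaf 0) (.leaf 14)) (.node (.leaf 0) (.leaf 0))))) (.node (.node (.node (.node (.leaf 0) (.leaf 0)) (.node (.leaf 0) (.leaf 100))) (.node (.node (.leaf 0) (.leaf 0)) (.node (.leaf 0) (.leaf 0)))) (.node (.node (.node (.leaf 0) (.leaf 0)) (.node (.leaf 0) (.leaf 0))) (.node (.node (.leaf 0) (.leaf 121)) (.leaf 0))))) (.node (.node (.node (.node (.node (.leaf 0) (.leaf 0)) (.node (.leaf 0) (.leaf 0))) (.node (.node (.leaf 0) (.leaf 61)) (.node (.leaf 0) (.leaf 0)))) (.node (.node (.node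 (.leaf 0) (.leaf 0)) (.node (.leaf 0) (.leaf 0))) (.node (.node (.leaf 85) (.leaf 0)) (.leaf 0)))) (.node (.node (.node (.node (.leaf 61) (.leaf 0)) (.node (.leaf 18) (.leaf 0))) (.node (.node (.leaf 0) (.leaf 0)) (.node (.leaf 0) (.leaf 0)))) (.node (.node (.node (.leaf 13) (.leaf 0)) (.node (.leaf 0) (.leaf 0))) (.node (.node (.leaf 0) (.leaf 0)) (.leaf 0))))))) (.node (.node (.node (.node (.node (.node (.node (.leaf 0) (.leaf 0)) (.node (.leaf 0) (.leaf 0))) (.node (.node (.leaf 0) (.leaf 0)) (.node (.leaf 101) (.leaf 0)))) (.node (.node (.node (.leaf 0) (.leaf 0)) (.node (.leaf 0) (.leaf 108))) (.node (.node (.leaf 0) (.leaf 0)) (.node (.leaf 0) (.leaf 0))))) (.node (.node (.node (.node (.leaf 0) (.leaf 0)) (.node (.leaf 0) (.leaf 0))) (.node (.node (.leaf 0) (.leaf 0)) (.node (.leaf 0) (.leaf 0)))) (.node (.node (.node (.leaf 0) (.leaf 58)) (.node (.leaf 0) (.leaf 0))) (.node (.node (.leaf 0) (.leaf 0)) (.leaf 0))))) (.node (.node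 (.node (.node (.node (.leaf 111) (.leaf 0)) (.node (.leaf 34) (.leaf 0))) (.node (.node (.leaf 101) (.leaf 0)) (.node (.leaf 69) (.leaf 0)))) (.node (.node (.node (.leaf 0) (.leaf 41)) (.node (.leaf 0) (.leaf 13))) (.node (.node (.leaf 0) (.leaf 0)) (.leaf 0)))) (.node (.node (.node (.node (.leaf 0) (.leaf 0)) (.node (.leaf 71) (.leaf 0))) (.node (.node (.leaf 0) (.leaf 30)) (.node (.leaf 0) (.leaf 0)))) (.node (.node (.node (.leaf 0) (.leaf 0)) (.node (.leaf 0) (.leaf 0))) (.node (.node (.leaf 0) (.leaf 0)) (.leaf 0)))))) (.node (.node (.node (.node (.node (.node (.leaf 0) (.leaf 0)) (.node (.leaf 30) (.leaf 0))) (.node (.node (.leaf 63) (.leaf 0)) (.node (.leaf 0) (.leaf 84)))) (.node (.node (.node (.leaf 0) (.leaf 0)) (.node (.leaf 0) (.leaf 34))) (.node (.node (.leaf 0) (.leaf 0)) (.node (.leaf 0) (.leaf 0))))) (.node (.node (.node (.node (.leaf 125) (.leaf 0)) (.node (.leaf 30) (.leaf 0))) (.node (.node (.leaf 81) (.leaf 0)) (.node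 (.leaf 0) (.leaf 0)))) (.node (.node (.node (.leaf 0) (.leaf 0)) (.node (.leaf 0) (.leaf 0))) (.node (.node (.leaf 0) (.leaf 0)) (.leaf 40))))) (.node (.node (.node (.node (.node (.leaf 0) (.leaf 0)) (.node (.leaf 0) (.leaf 0))) (.node (.node (.leaf 125) (.leaf 0)) (.node (.leaf 0) (.leaf 0)))) (.node (.node (.node (.leaf 0) (.leaf 0)) (.node (.leaf 0) (.leaf 0))) (.node (.node (.leaf 0) (.leaf 0)) (.leaf 0)))) (.node (.node (.node (.node (.leaf 0) (.leaf 100)) (.node (.leaf 52) (.leaf 0))) (.node (.node (.leaf 0) (.leaf 0)) (.node (.leaf 0) (.leaf 0)))) (.node (.node (.node (.leaf 0) (.leaf 0)) (.node (.leaf 89) (.leaf 122))) (.node (.node (.leaf 0) (.leaf 0)) (.leaf 0)))))))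

/-- Part of `posT`. -/
def posT_p000110 : Tr := .node (.node (.node (.node (.node (.node (.node (.node (.leaf 0) (.leaf 0)) (.node (.leaf 108) (.leaf 87))) (.node (.node (.leaf 0) (.leaf 0)) (.node (.leaf 0) (.leaf 0)))) (.node (.node (.node (.leaf 0) (.leaf 0)) (.node (.leaf 0) (.leaf 0))) (.node (.node (.leaf 0) (.leaf 0)) (.node (.leaf 34) (.leaf 94))))) (.node (.node (.node (.node (.leaf 0) (.leaf 0)) (.node (.leaf 0) (.leaf 0))) (.node (.node (.leaf 0) (.leaf 0)) (.node (.leaf 0) (.leaf 0)))) (.node (.node (.node (.leaf 0) (.leaf 0)) (.node (.leaf 0) (.leaf 0))) (.node (.node (.leaf 0) (.leaf 0)) (.leaf 0))))) (.node (.node (.node (.node (.node (.leaf 0) (.leaf 0)) (.node (.leaf 0) (.leaf 0))) (.node (.node (.leaf 0) (.leaf 0)) (.node (.leaf 77) (.leaf 0)))) (.node (.node (.node (.leaf 0) (.leaf 0)) (.node (.leaf 8) (.leaf 0))) (.node (.node (.leaf 0) (.leaf 0)) (.leaf 0)))) (.node (.node (.node (.node (.leaf 0) (.leaf 0)) (.node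 (.leaf 0) (.leaf 0))) (.node (.node (.leaf 0) (.leaf 0)) (.node (.leaf 65) (.leaf 0)))) (.node (.node (.node (.leaf 0) (.leaf 57)) (.node (.leaf 0) (.leaf 0))) (.node (.node (.leaf 0) (.leaf 0)) (.leaf 0)))))) (.node (.node (.node (.node (.node (.node (.leaf 0) (.leaf 0)) (.node (.leaf 0) (.leaf 0))) (.node (.node (.leaf 8) (.leaf 0)) (.node (.leaf 0) (.leaf 0)))) (.node (.node (.node (.leaf 0) (.leaf 0)) (.node (.leaf 0) (.leaf 0))) (.node (.node (.leaf 0) (.leaf 0)) (.node (.leaf 0) (.leaf 0))))) (.node (.node (.node (.node (.leaf 93) (.leaf 0)) (.node (.leaf 0) (.leaf 0))) (.node (.node (.leaf 0) (.leaf 115)) (.node (.leaf 0) (.leaf 0)))) (.node (.node (.node (.leaf 0) (.leaf 0)) (.node (.leaf 0) (.leaf 0))) (.node (.node (.leaf 18) (.leaf 0)) (.leaf 0))))) (.node (.node (.node (.node (.node (.leaf 64) (.leaf 0)) (.node (.leaf 0) (.leaf 0))) (.node (.node (.leaf 58) (.leaf 0)) (.node (.leaf 0) (.leaf 0)))) (.node (.node (.node (.leaf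 0) (.leaf 56)) (.node (.leaf 42) (.leaf 0))) (.node (.node (.leaf 0) (.leaf 0)) (.leaf 0)))) (.node (.node (.node (.node (.leaf 0) (.leaf 0)) (.node (.leaf 98) (.leaf 83))) (.node (.node (.leaf 0) (.leaf 0)) (.node (.leaf 0) (.leaf 24)))) (.node (.node (.node (.leaf 0) (.leaf 0)) (.node (.leaf 0) (.leaf 0))) (.node (.node (.leaf 0) (.leaf 0)) (.leaf 0))))))) (.node (.node (.node (.node (.node (.node (.node (.leaf 5) (.leaf 0)) (.node (.leaf 0) (.leaf 0))) (.node (.node (.leaf 0) (.leaf 0)) (.node (.leaf 25) (.leaf 0)))) (.node (.node (.node (.leaf 94) (.leaf 0)) (.node (.leaf 0) (.leaf 0))) (.node (.node (.leaf 0) (.leaf 0)) (.node (.leaf 0) (.leaf 0))))) (.node (.node (.node (.node (.leaf 0) (.leaf 46)) (.node (.leaf 0) (.leaf 0))) (.node (.node (.leaf 0) (.leaf 42)) (.node (.leaf 0) (.leaf 0)))) (.node (.node (.node (.leaf 0) (.leaf 0)) (.node (.leaf 0) (.leaf 0))) (.node (.node (.leaf 0) (.leaf 0)) (.leaf 0))))) (.node (.node (.node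 (.node (.node (.leaf 0) (.leaf 0)) (.node (.leaf 0) (.leaf 0))) (.node (.node (.leaf 0) (.leaf 0)) (.node (.leaf 0) (.leaf 0)))) (.node (.node (.node (.leaf 0) (.leaf 0)) (.node (.leaf 0) (.leaf 0))) (.node (.node (.leaf 0) (.leaf 0)) (.leaf 0)))) (.node (.node (.node (.node (.leaf 0) (.leaf 0)) (.node (.leaf 0) (.leaf 0))) (.node (.node (.leaf 65) (.leaf 0)) (.node (.leaf 0) (.leaf 0)))) (.node (.node (.node (.leaf 0) (.leaf 0)) (.node (.leaf 0) (.leaf 0))) (.node (.node (.leaf 75) (.leaf 112)) (.leaf 0)))))) (.node (.node (.node (.node (.node (.node (.leaf 5) (.leaf 0)) (.node (.leaf 0) (.leaf 0))) (.node (.node (.leaf 0) (.leaf 0)) (.node (.leaf 88) (.leaf 0)))) (.node (.node (.node (.leaf 0) (.leaf 0)) (.node (.leaf 0) (.leaf 0))) (.node (.node (.leaf 0) (.leaf 0)) (.node (.leaf 21) (.leaf 0))))) (.node (.node (.node (.node (.leaf 0) (.leaf 103)) (.node (.leaf 0) (.leaf 0))) (.node (.node (.leaf 80) (.leaf 0)) (.node (.leaf 0) (.leaf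 0)))) (.node (.node (.node (.leaf 0) (.leaf 0)) (.node (.leaf 0) (.leaf 0))) (.node (.node (.leaf 0) (.leaf 63)) (.leaf 0))))) (.node (.node (.node (.node (.node (.leaf 0) (.leaf 0)) (.node (.leaf 13) (.leaf 0))) (.node (.node (.leaf 0) (.leaf 0)) (.node (.leaf 0) (.leaf 10)))) (.node (.node (.node (.leaf 0) (.leaf 0)) (.node (.leaf 44) (.leaf 0))) (.node (.node (.leaf 0) (.leaf 0)) (.leaf 0)))) (.node (.node (.node (.node (.leaf 0) (.leaf 12)) (.node (.leaf 0) (.leaf 0))) (.node (.node (.leaf 0) (.leaf 0)) (.node (.leaf 0) (.leaf 0)))) (.node (.node (.node (.leaf 0) (.leaf 1)) (.node (.leaf 0) (.leaf 14))) (.node (.node (.leaf 0) (.leaf 0)) (.leaf 0)))))))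

/-- Part of `posT`. -/
def posT_p000111 : Tr := .node (.node (.node (.node (.node (.node (.node (.node (.leaf 0) (.leaf 0)) (.node (.leaf 0) (.leaf 0))) (.node (.node (.leaf 0) (.leaf 37)) (.node (.leaf 0) (.leaf 0)))) (.node (.node (.node (.leaf 21) (.leaf 0)) (.node (.leaf 9) (.leaf 0))) (.node (.node (.leaf 0) (.leaf 0)) (.node (.leaf 0) (.leaf 14))))) (.node (.node (.node (.node (.leaf 0) (.leaf 62)) (.node (.leaf 0) (.leaf 37))) (.node (.node (.leaf 93) (.leaf 34)) (.node (.leaf 0) (.leaf 0)))) (.node (.node (.node (.leaf 0) (.leaf 0)) (.node (.leaf 0) (.leaf 0))) (.node (.node (.leaf 0) (.leaf 26)) (.leaf 0))))) (.node (.node (.node (.node (.node (.leaf 0) (.leaf 0)) (.node (.leaf 53) (.leaf 0))) (.node (.node (.leaf 0) (.leaf 0)) (.node (.leaf 0) (.leaf 0)))) (.node (.node (.node (.leaf 0) (.leaf 52)) (.node (.leaf 75) (.leaf 0))) (.node (.node (.leaf 0) (.leaf 0)) (.leaf 53)))) (.node (.node (.node (.node (.leaf 0) (.leaf 0))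 (.node (.leaf 0) (.leaf 0))) (.node (.node (.leaf 0) (.leaf 16)) (.node (.leaf 0) (.leaf 45)))) (.node (.node (.node (.leaf 0) (.leaf 0)) (.node (.leaf 0) (.leaf 0))) (.node (.node (.leaf 0) (.leaf 0)) (.leaf 58)))))) (.node (.node (.node (.node (.node (.node (.leaf 0) (.leaf 0)) (.node (.leaf 0) (.leaf 0))) (.node (.node (.leaf 0) (.leaf 13)) (.node (.leaf 14) (.leaf 0)))) (.node (.node (.node (.leaf 48) (.leaf 0)) (.node (.leaf 0) (.leaf 0))) (.node (.node (.leaf 114) (.leaf 118)) (.node (.leaf 95) (.leaf 0))))) (.node (.node (.node (.node (.leaf 0) (.leaf 0)) (.node (.leaf 0) (.leaf 25))) (.node (.node (.leaf 0) (.leaf 41)) (.node (.leaf 0) (.leaf 0)))) (.node (.node (.node (.leaf 0) (.leaf 0)) (.node (.leaf 0) (.leaf 0))) (.node (.node (.leaf 78) (.leaf 0)) (.leaf 0))))) (.node (.node (.node (.node (.node (.leaf 0) (.leaf 0)) (.node (.leaf 0) (.leaf 0))) (.node (.node (.leaf 0) (.leaf 0)) (.node (.leaf 0) (.leaf 0)))) (.node (.node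 (.node (.leaf 0) (.leaf 0)) (.node (.leaf 0) (.leaf 0))) (.node (.node (.leaf 0) (.leaf 0)) (.leaf 0)))) (.node (.node (.node (.node (.leaf 0) (.leaf 0)) (.node (.leaf 99) (.leaf 0))) (.node (.node (.leaf 0) (.leaf 0)) (.node (.leaf 0) (.leaf 0)))) (.node (.node (.node (.leaf 0) (.leaf 0)) (.node (.leaf 0) (.leaf 0))) (.node (.node (.leaf 80) (.leaf 0)) (.leaf 0))))))) (.node (.node (.node (.node (.node (.node (.node (.leaf 0) (.leaf 0)) (.node (.leaf 0) (.leaf 0))) (.node (.node (.leaf 0) (.leaf 0)) (.node (.leaf 7) (.leaf 107)))) (.node (.node (.node (.leaf 0) (.leaf 0)) (.node (.leaf 0) (.leaf 0))) (.node (.node (.leaf 0) (.leaf 0)) (.node (.leaf 0) (.leaf 48))))) (.node (.node (.node (.node (.leaf 0) (.leaf 0)) (.node (.leaf 0) (.leaf 0))) (.node (.node (.leaf 0) (.leaf 0)) (.node (.leaf 0) (.leaf 69)))) (.node (.node (.node (.leaf 0) (.leaf 10)) (.node (.leaf 0) (.leaf 0))) (.node (.node (.leaf 0) (.leaf 0)) (.leaf 0))))) (.node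 (.node (.node (.node (.node (.leaf 0) (.leaf 0)) (.node (.leaf 0) (.leaf 6))) (.node (.node (.leaf 0) (.leaf 40)) (.node (.leaf 0) (.leaf 0)))) (.node (.node (.node (.leaf 0) (.leaf 101)) (.node (.leaf 0) (.leaf 0))) (.node (.node (.leaf 0) (.leaf 105)) (.leaf 123)))) (.node (.node (.node (.node (.leaf 0) (.leaf 0)) (.node (.leaf 89) (.leaf 0))) (.node (.node (.leaf 15) (.leaf 0)) (.node (.leaf 0) (.leaf 121)))) (.node (.node (.node (.leaf 0) (.leaf 109)) (.node (.leaf 0) (.leaf 0))) (.node (.node (.leaf 0) (.leaf 74)) (.leaf 0)))))) (.node (.node (.node (.node (.node (.node (.leaf 0) (.leaf 0)) (.node (.leaf 0) (.leaf 0))) (.node (.node (.leaf 0) (.leaf 0)) (.node (.leaf 0) (.leaf 0)))) (.node (.node (.node (.leaf 0) (.leaf 0)) (.node (.leaf 0) (.leaf 0))) (.node (.node (.leaf 0) (.leaf 0)) (.node (.leaf 103) (.leaf 114))))) (.node (.node (.node (.node (.leaf 0) (.leaf 0)) (.node (.leaf 0) (.leaf 0))) (.node (.node (.leaf 0) (.leaf 0))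 (.node (.leaf 70) (.leaf 0)))) (.node (.node (.node (.leaf 0) (.leaf 0)) (.node (.leaf 0) (.leaf 2))) (.node (.node (.leaf 41) (.leaf 66)) (.leaf 0))))) (.node (.node (.node (.node (.node (.leaf 0) (.leaf 0)) (.node (.leaf 0) (.leaf 0))) (.node (.node (.leaf 0) (.leaf 73)) (.node (.leaf 0) (.leaf 29)))) (.node (.node (.node (.leaf 0) (.leaf 0)) (.node (.leaf 105) (.leaf 0))) (.node (.node (.leaf 110) (.leaf 82)) (.leaf 0)))) (.node (.node (.node (.node (.leaf 0) (.leaf 0)) (.node (.leaf 0) (.leaf 0))) (.node (.node (.leaf 0) (.leaf 119)) (.node (.leaf 0) (.leaf 0)))) (.node (.node (.node (.leaf 83) (.leaf 0)) (.node (.leaf 110) (.leaf 0))) (.node (.node (.leaf 0) (.leaf 0)) (.leaf 0)))))))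

/-- Part of `posT`. -/
def posT_p001000 : Tr := .node (.node (.node (.node (.node (.node (.node (.node (.leaf 0) (.leaf 0)) (.node (.leaf 0) (.leaf 0))) (.node (.node (.leaf 92) (.leaf 58)) (.node (.leaf 0) (.leaf 0)))) (.node (.node (.node (.leaf 0) (.leaf 0)) (.node (.leaf 0) (.leaf 0))) (.node (.node (.leaf 0) (.leaf 0)) (.node (.leaf 0) (.leaf 102))))) (.node (.node (.node (.node (.leaf 0) (.leaf 50)) (.node (.leaf 0) (.leaf 110))) (.node (.node (.leaf 0) (.leaf 0)) (.node (.leaf 0) (.leaf 0)))) (.node (.node (.node (.leaf 0) (.leaf 0)) (.node (.leaf 0) (.leaf 96))) (.node (.node (.leaf 11) (.leaf 0)) (.leaf 0))))) (.node (.node (.node (.node (.node (.leaf 0) (.leaf 0)) (.node (.leaf 0) (.leaf 0))) (.node (.node (.leaf 0) (.leaf 0)) (.node (.leaf 0) (.leaf 0)))) (.node (.node (.node (.leaf 0) (.leaf 0)) (.node (.leaf 0) (.leaf 0))) (.node (.node (.leaf 0) (.leaf 0)) (.node (.leaf 0) (.leaf 0))))) (.node (.node (.node (.node (.leaf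 0) (.leaf 0)) (.node (.leaf 0) (.leaf 0))) (.node (.node (.leaf 21) (.leaf 0)) (.node (.leaf 0) (.leaf 0)))) (.node (.node (.node (.leaf 0) (.leaf 0)) (.node (.leaf 0) (.leaf 0))) (.node (.node (.leaf 0) (.leaf 24)) (.leaf 0)))))) (.node (.node (.node (.node (.node (.node (.leaf 90) (.leaf 0)) (.node (.leaf 0) (.leaf 117))) (.node (.node (.leaf 0) (.leaf 0)) (.node (.leaf 0) (.leaf 0)))) (.node (.node (.node (.leaf 0) (.leaf 0)) (.node (.leaf 0) (.leaf 0))) (.node (.node (.leaf 0) (.leaf 0)) (.node (.leaf 0) (.leaf 0))))) (.node (.node (.node (.node (.leaf 0) (.leaf 94)) (.node (.leaf 0) (.leaf 0))) (.node (.node (.leaf 0) (.leaf 0)) (.node (.leaf 0) (.leaf 0)))) (.node (.node (.node (.leaf 0) (.leaf 0)) (.node (.leaf 12) (.leaf 0))) (.node (.node (.leaf 0) (.leaf 0)) (.leaf 0))))) (.node (.node (.node (.node (.node (.leaf 0) (.leaf 123)) (.node (.leaf 0) (.leaf 0))) (.node (.node (.leaf 0) (.leaf 7)) (.node (.leaf 0) (.leaf 0)))) (.node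 (.node (.node (.leaf 0) (.leaf 0)) (.node (.leaf 0) (.leaf 0))) (.node (.node (.leaf 0) (.leaf 0)) (.leaf 0)))) (.node (.node (.node (.node (.leaf 0) (.leaf 77)) (.node (.leaf 43) (.leaf 0))) (.node (.node (.leaf 0) (.leaf 0)) (.node (.leaf 80) (.leaf 0)))) (.node (.node (.node (.leaf 0) (.leaf 0)) (.node (.leaf 0) (.leaf 0))) (.node (.node (.leaf 0) (.leaf 0)) (.leaf 0))))))) (.node (.node (.node (.node (.node (.node (.node (.leaf 64) (.leaf 0)) (.node (.leaf 26) (.leaf 16))) (.node (.node (.leaf 0) (.leaf 0)) (.node (.leaf 0) (.leaf 0)))) (.node (.node (.node (.leaf 0) (.leaf 0)) (.node (.leaf 38) (.leaf 0))) (.node (.node (.leaf 78) (.leaf 0)) (.node (.leaf 0) (.leaf 0))))) (.node (.node (.node (.node (.leaf 5) (.leaf 57)) (.node (.leaf 0) (.leaf 0))) (.node (.node (.leaf 0) (.leaf 0)) (.node (.leaf 0) (.leaf 0)))) (.node (.node (.node (.leaf 0) (.leaf 0)) (.node (.leaf 0) (.leaf 0))) (.node (.node (.leaf 0) (.leaf 0)) (.leaf 0)))))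 (.node (.node (.node (.node (.node (.leaf 67) (.leaf 0)) (.node (.leaf 0) (.leaf 39))) (.node (.node (.leaf 0) (.leaf 0)) (.node (.leaf 106) (.leaf 0)))) (.node (.node (.node (.leaf 95) (.leaf 0)) (.node (.leaf 0) (.leaf 63))) (.node (.node (.leaf 0) (.leaf 0)) (.leaf 0)))) (.node (.node (.node (.node (.leaf 0) (.leaf 85)) (.node (.leaf 0) (.leaf 0))) (.node (.node (.leaf 0) (.leaf 0)) (.node (.leaf 0) (.leaf 95)))) (.node (.node (.node (.leaf 83) (.leaf 0)) (.node (.leaf 0) (.leaf 0))) (.node (.node (.leaf 93) (.leaf 0)) (.leaf 81)))))) (.node (.node (.node (.node (.node (.node (.leaf 0) (.leaf 0)) (.node (.leaf 0) (.leaf 0))) (.node (.node (.leaf 48) (.leaf 0)) (.node (.leaf 0) (.leaf 0)))) (.node (.node (.node (.leaf 0) (.leaf 0)) (.node (.leaf 0) (.leaf 0))) (.node (.node (.leaf 0) (.leaf 48)) (.node (.leaf 0) (.leaf 92))))) (.node (.node (.node (.node (.leaf 0) (.leaf 0)) (.node (.leaf 0) (.leaf 101))) (.node (.node (.leaf 0) (.leaf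 0)) (.node (.leaf 52) (.leaf 0)))) (.node (.node (.node (.leaf 0) (.leaf 27)) (.node (.leaf 33) (.leaf 0))) (.node (.node (.leaf 0) (.leaf 0)) (.leaf 0))))) (.node (.node (.node (.node (.node (.leaf 5) (.leaf 0)) (.node (.leaf 0) (.leaf 0))) (.node (.node (.leaf 0) (.leaf 0)) (.node (.leaf 0) (.leaf 0)))) (.node (.node (.node (.leaf 0) (.leaf 0)) (.node (.leaf 0) (.leaf 98))) (.node (.node (.leaf 0) (.leaf 69)) (.leaf 15)))) (.node (.node (.node (.node (.leaf 106) (.leaf 71)) (.node (.leaf 0) (.leaf 0))) (.node (.node (.leaf 115) (.leaf 0)) (.node (.leaf 0) (.leaf 0)))) (.node (.node (.node (.leaf 0) (.leaf 0)) (.node (.leaf 0) (.leaf 0))) (.node (.node (.leaf 96) (.leaf 106)) (.leaf 0)))))))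

/-- Part of `posT`. -/
def posT_p001001 : Tr := .node (.node (.node (.node (.node (.node (.node (.node (.leaf 0) (.leaf 0)) (.node (.leaf 0) (.leaf 0))) (.node (.node (.leaf 104) (.leaf 0)) (.node (.leaf 0) (.leaf 0)))) (.node (.node (.node (.leaf 0) (.leaf 28)) (.node (.leaf 109) (.leaf 0))) (.node (.node (.leaf 0) (.leaf 8)) (.node (.leaf 89) (.leaf 51))))) (.node (.node (.node (.node (.leaf 0) (.leaf 0)) (.node (.leaf 0) (.leaf 0))) (.node (.node (.leaf 0) (.leaf 0)) (.node (.leaf 0) (.leaf 0)))) (.node (.node (.node (.leaf 0) (.leaf 0)) (.node (.leaf 0) (.leaf 120))) (.node (.node (.leaf 0) (.leaf 0)) (.leaf 0))))) (.node (.node (.node (.node (.node (.leaf 0) (.leaf 0)) (.node (.leaf 0) (.leaf 113))) (.node (.node (.leaf 0) (.leaf 0)) (.node (.leaf 0) (.leaf 0)))) (.node (.node (.node (.leaf 0) (.leaf 0)) (.node (.leaf 0) (.leaf 0))) (.node (.node (.leaf 53) (.leaf 0)) (.leaf 0)))) (.node (.node (.node (.node (.leaf 0) (.leaf 0))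 (.node (.leaf 0) (.leaf 0))) (.node (.node (.leaf 0) (.leaf 0)) (.node (.leaf 0) (.leaf 0)))) (.node (.node (.node (.leaf 92) (.leaf 0)) (.node (.leaf 0) (.leaf 0))) (.node (.node (.leaf 0) (.leaf 0)) (.leaf 0)))))) (.node (.node (.node (.node (.node (.node (.leaf 0) (.leaf 0)) (.node (.leaf 0) (.leaf 0))) (.node (.node (.leaf 0) (.leaf 0)) (.node (.leaf 0) (.leaf 8)))) (.node (.node (.node (.leaf 0) (.leaf 119)) (.node (.leaf 0) (.leaf 0))) (.node (.node (.leaf 0) (.leaf 0)) (.node (.leaf 0) (.leaf 0))))) (.node (.node (.node (.node (.leaf 0) (.leaf 107)) (.node (.leaf 0) (.leaf 0))) (.node (.node (.leaf 0) (.leaf 0)) (.node (.leaf 0) (.leaf 78)))) (.node (.node (.node (.leaf 1) (.leaf 0)) (.node (.leaf 0) (.leaf 0))) (.node (.node (.leaf 0) (.leaf 0)) (.leaf 19))))) (.node (.node (.node (.node (.node (.leaf 0) (.leaf 29)) (.node (.leaf 0) (.leaf 0))) (.node (.node (.leaf 0) (.leaf 0)) (.node (.leaf 0) (.leaf 0)))) (.node (.node (.node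 (.leaf 0) (.leaf 0)) (.node (.leaf 0) (.leaf 28))) (.node (.node (.leaf 0) (.leaf 0)) (.leaf 0)))) (.node (.node (.node (.node (.leaf 0) (.leaf 69)) (.node (.leaf 0) (.leaf 0))) (.node (.node (.leaf 0) (.leaf 0)) (.node (.leaf 0) (.leaf 0)))) (.node (.node (.node (.leaf 0) (.leaf 0)) (.node (.leaf 0) (.leaf 0))) (.node (.node (.leaf 0) (.leaf 0)) (.leaf 20))))))) (.node (.node (.node (.node (.node (.node (.node (.leaf 0) (.leaf 0)) (.node (.leaf 0) (.leaf 0))) (.node (.node (.leaf 0) (.leaf 0)) (.node (.leaf 0) (.leaf 0)))) (.node (.node (.node (.leaf 0) (.leaf 0)) (.node (.leaf 0) (.leaf 0))) (.node (.node (.leaf 0) (.leaf 38)) (.node (.leaf 0) (.leaf 0))))) (.node (.node (.node (.node (.leaf 76) (.leaf 0)) (.node (.leaf 58) (.leaf 0))) (.node (.node (.leaf 0) (.leaf 0)) (.node (.leaf 0) (.leaf 0)))) (.node (.node (.node (.leaf 0) (.leaf 0)) (.node (.leaf 0) (.leaf 68))) (.node (.node (.leaf 0) (.leaf 0)) (.leaf 0))))) (.node (.node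 (.node (.node (.node (.leaf 0) (.leaf 0)) (.node (.leaf 72) (.leaf 0))) (.node (.node (.leaf 0) (.leaf 0)) (.node (.leaf 0) (.leaf 0)))) (.node (.node (.node (.leaf 102) (.leaf 0)) (.node (.leaf 0) (.leaf 0))) (.node (.node (.leaf 0) (.leaf 0)) (.leaf 119)))) (.node (.node (.node (.node (.leaf 0) (.leaf 0)) (.node (.leaf 0) (.leaf 0))) (.node (.node (.leaf 0) (.leaf 0)) (.node (.leaf 0) (.leaf 0)))) (.node (.node (.node (.leaf 62) (.leaf 0)) (.node (.leaf 0) (.leaf 0))) (.node (.node (.leaf 0) (.leaf 0)) (.leaf 0)))))) (.node (.node (.node (.node (.node (.node (.leaf 0) (.leaf 0)) (.node (.leaf 79) (.leaf 0))) (.node (.node (.leaf 0) (.leaf 102)) (.node (.leaf 75) (.leaf 0)))) (.node (.node (.node (.leaf 0) (.leaf 0)) (.node (.leaf 103) (.leaf 0))) (.node (.node (.leaf 4) (.leaf 0)) (.node (.leaf 73) (.leaf 0))))) (.node (.node (.node (.node (.leaf 0) (.leaf 0)) (.node (.leaf 0) (.leaf 0))) (.node (.node (.leaf 47) (.leaf 0)) (.node (.leaf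 0) (.leaf 0)))) (.node (.node (.node (.leaf 43) (.leaf 0)) (.node (.leaf 93) (.leaf 0))) (.node (.node (.leaf 0) (.leaf 0)) (.leaf 0))))) (.node (.node (.node (.node (.node (.leaf 0) (.leaf 0)) (.node (.leaf 0) (.leaf 0))) (.node (.node (.leaf 0) (.leaf 0)) (.node (.leaf 0) (.leaf 0)))) (.node (.node (.node (.leaf 0) (.leaf 0)) (.node (.leaf 0) (.leaf 0))) (.node (.node (.leaf 0) (.leaf 0)) (.leaf 0)))) (.node (.node (.node (.node (.leaf 0) (.leaf 70)) (.node (.leaf 0) (.leaf 0))) (.node (.node (.leaf 0) (.leaf 0)) (.node (.leaf 0) (.leaf 0)))) (.node (.node (.node (.leaf 118) (.leaf 0)) (.node (.leaf 87) (.leaf 0))) (.node (.node (.leaf 0) (.leaf 0)) (.leaf 66)))))))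

/-- Part of `posT`. -/
def posT_p001010 : Tr := .node (.node (.node (.node (.node (.node (.node (.node (.leaf 0) (.leaf 0)) (.node (.leaf 118) (.leaf 0))) (.node (.node (.leaf 0) (.leaf 0)) (.node (.leaf 0) (.leaf 72)))) (.node (.node (.node (.leaf 0) (.leaf 0)) (.node (.leaf 0) (.leaf 0))) (.node (.node (.leaf 0) (.leaf 0)) (.node (.leaf 50) (.leaf 0))))) (.node (.node (.node (.node (.leaf 0) (.leaf 0)) (.node (.leaf 0) (.leaf 0))) (.node (.node (.leaf 0) (.leaf 0)) (.node (.leaf 0) (.leaf 0)))) (.node (.node (.node (.leaf 0) (.leaf 0)) (.node (.leaf 0) (.leaf 0))) (.node (.node (.leaf 0) (.leaf 0)) (.leaf 0))))) (.node (.node (.node (.node (.node (.leaf 0) (.leaf 0)) (.node (.leaf 74) (.leaf 33))) (.node (.node (.leaf 0) (.leaf 0)) (.node (.leaf 0) (.leaf 0)))) (.node (.node (.node (.leaf 0) (.leaf 0)) (.node (.leaf 0) (.leaf 0))) (.node (.node (.leaf 0) (.leaf 0)) (.leaf 0)))) (.node (.node (.node (.node (.leaf 0) (.leaf 18)) (.node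 (.leaf 0) (.leaf 0))) (.node (.node (.leaf 25) (.leaf 0)) (.node (.leaf 0) (.leaf 0)))) (.node (.node (.node (.leaf 0) (.leaf 0)) (.node (.leaf 0) (.leaf 8))) (.node (.node (.leaf 0) (.leaf 0)) (.leaf 0)))))) (.node (.node (.node (.node (.node (.node (.leaf 64) (.leaf 89)) (.node (.leaf 100) (.leaf 0))) (.node (.node (.leaf 0) (.leaf 0)) (.node (.leaf 0) (.leaf 0)))) (.node (.node (.node (.leaf 0) (.leaf 88)) (.node (.leaf 66) (.leaf 0))) (.node (.node (.leaf 86) (.leaf 0)) (.node (.leaf 0) (.leaf 0))))) (.node (.node (.node (.node (.leaf 0) (.leaf 0)) (.node (.leaf 0) (.leaf 0))) (.node (.node (.leaf 105) (.leaf 0)) (.node (.leaf 41) (.leaf 39)))) (.node (.node (.node (.leaf 0) (.leaf 0)) (.node (.leaf 0) (.leaf 0))) (.node (.node (.leaf 0) (.leaf 0)) (.leaf 0))))) (.node (.node (.node (.node (.node (.leaf 0) (.leaf 0)) (.node (.leaf 3) (.leaf 0))) (.node (.node (.leaf 79) (.leaf 0)) (.node (.leaf 0) (.leaf 0)))) (.node (.node (.node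 (.leaf 79) (.leaf 0)) (.node (.leaf 0) (.leaf 0))) (.node (.node (.leaf 0) (.leaf 88)) (.leaf 0)))) (.node (.node (.node (.node (.leaf 0) (.leaf 0)) (.node (.leaf 0) (.leaf 0))) (.node (.node (.leaf 23) (.leaf 0)) (.node (.leaf 0) (.leaf 35)))) (.node (.node (.node (.leaf 84) (.leaf 0)) (.node (.leaf 54) (.leaf 0))) (.node (.node (.leaf 0) (.leaf 0)) (.leaf 0))))))) (.node (.node (.node (.node (.node (.node (.node (.leaf 0) (.leaf 0)) (.node (.leaf 0) (.leaf 0))) (.node (.node (.leaf 0) (.leaf 0)) (.node (.leaf 0) (.leaf 0)))) (.node (.node (.node (.leaf 0) (.leaf 1)) (.node (.leaf 114) (.leaf 121))) (.node (.node (.leaf 0) (.leaf 0)) (.node (.leaf 0) (.leaf 0))))) (.node (.node (.node (.node (.leaf 0) (.leaf 27)) (.node (.leaf 0) (.leaf 0))) (.node (.node (.leaf 0) (.leaf 0)) (.node (.leaf 0) (.leaf 0)))) (.node (.node (.node (.leaf 63) (.leaf 0)) (.node (.leaf 0) (.leaf 0))) (.node (.node (.leaf 0) (.leaf 0)) (.leaf 0))))) (.node (.node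 (.node (.node (.node (.leaf 0) (.leaf 0)) (.node (.leaf 0) (.leaf 84))) (.node (.node (.leaf 0) (.leaf 0)) (.node (.leaf 109) (.leaf 0)))) (.node (.node (.node (.leaf 0) (.leaf 0)) (.node (.leaf 51) (.leaf 0))) (.node (.node (.leaf 0) (.leaf 30)) (.leaf 0)))) (.node (.node (.node (.node (.leaf 0) (.leaf 0)) (.node (.leaf 0) (.leaf 0))) (.node (.node (.leaf 0) (.leaf 0)) (.node (.leaf 0) (.leaf 0)))) (.node (.node (.node (.leaf 119) (.leaf 0)) (.node (.leaf 0) (.leaf 0))) (.node (.node (.leaf 0) (.leaf 30)) (.leaf 0)))))) (.node (.node (.node (.node (.node (.node (.leaf 0) (.leaf 112)) (.node (.leaf 0) (.leaf 0))) (.node (.node (.leaf 0) (.leaf 0)) (.node (.leaf 0) (.leaf 0)))) (.node (.node (.node (.leaf 0) (.leaf 118)) (.node (.leaf 30) (.leaf 99))) (.node (.node (.leaf 0) (.leaf 0)) (.node (.leaf 0) (.leaf 0))))) (.node (.node (.node (.node (.leaf 0) (.leaf 86)) (.node (.leaf 0) (.leaf 0))) (.node (.node (.leaf 32) (.leaf 45)) (.node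 (.leaf 0) (.leaf 101)))) (.node (.node (.node (.leaf 0) (.leaf 0)) (.node (.leaf 0) (.leaf 0))) (.node (.node (.leaf 0) (.leaf 52)) (.leaf 0))))) (.node (.node (.node (.node (.node (.leaf 0) (.leaf 0)) (.node (.leaf 0) (.leaf 0))) (.node (.node (.leaf 0) (.leaf 0)) (.node (.leaf 0) (.leaf 0)))) (.node (.node (.node (.leaf 0) (.leaf 0)) (.node (.leaf 97) (.leaf 0))) (.node (.node (.leaf 0) (.leaf 0)) (.leaf 0)))) (.node (.node (.node (.node (.leaf 0) (.leaf 0)) (.node (.leaf 0) (.leaf 0))) (.node (.node (.leaf 0) (.leaf 0)) (.node (.leaf 0) (.leaf 0)))) (.node (.node (.node (.leaf 0) (.leaf 0)) (.node (.leaf 0) (.leaf 0))) (.node (.node (.leaf 0) (.leaf 0)) (.leaf 0)))))))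

/-- Part of `posT`. -/
def posT_p001011 : Tr := .node (.node (.node (.node (.node (.node (.node (.node (.leaf 0) (.leaf 83)) (.node (.leaf 0) (.leaf 0))) (.node (.node (.leaf 0) (.leaf 0)) (.node (.leaf 113) (.leaf 0)))) (.node (.node (.node (.leaf 0) (.leaf 0)) (.node (.leaf 0) (.leaf 0))) (.node (.node (.leaf 0) (.leaf 0)) (.node (.leaf 0) (.leaf 0))))) (.node (.node (.node (.node (.leaf 5) (.leaf 0)) (.node (.leaf 0) (.leaf 73))) (.node (.node (.leaf 0) (.leaf 0)) (.node (.leaf 99) (.leaf 0)))) (.node (.node (.node (.leaf 0) (.leaf 0)) (.node (.leaf 0) (.leaf 0))) (.node (.node (.leaf 0) (.leaf 0)) (.leaf 0))))) (.node (.node (.node (.node (.node (.leaf 0) (.leaf 0)) (.node (.leaf 0) (.leaf 0))) (.node (.node (.leaf 0) (.leaf 0)) (.node (.leaf 0) (.leaf 0)))) (.node (.node (.node (.leaf 74) (.leaf 0)) (.node (.leaf 0) (.leaf 42))) (.node (.node (.leaf 0) (.leaf 0)) (.leaf 0)))) (.node (.node (.node (.node (.leaf 0) (.leaf 0)) (.node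 (.leaf 0) (.leaf 0))) (.node (.node (.leaf 58) (.leaf 0)) (.node (.leaf 17) (.leaf 0)))) (.node (.node (.node (.leaf 0) (.leaf 0)) (.node (.leaf 0) (.leaf 0))) (.node (.node (.leaf 0) (.leaf 0)) (.leaf 10)))))) (.node (.node (.node (.node (.node (.node (.leaf 111) (.leaf 0)) (.node (.leaf 0) (.leaf 0))) (.node (.node (.leaf 0) (.leaf 0)) (.node (.leaf 42) (.leaf 0)))) (.node (.node (.node (.leaf 0) (.leaf 0)) (.node (.leaf 0) (.leaf 0))) (.node (.node (.leaf 69) (.leaf 0)) (.node (.leaf 0) (.leaf 66))))) (.node (.node (.node (.node (.leaf 0) (.leaf 9)) (.node (.leaf 0) (.leaf 0))) (.node (.node (.leaf 0) (.leaf 0)) (.node (.leaf 0) (.leaf 0)))) (.node (.node (.node (.leaf 0) (.leaf 0)) (.node (.leaf 0) (.leaf 60))) (.node (.node (.leaf 0) (.leaf 0)) (.leaf 0))))) (.node (.node (.node (.node (.node (.leaf 0) (.leaf 0)) (.node (.leaf 0) (.leaf 0))) (.node (.node (.leaf 0) (.leaf 0)) (.node (.leaf 0) (.leaf 0)))) (.node (.node (.node (.leaf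 0) (.leaf 0)) (.node (.leaf 0) (.leaf 15))) (.node (.node (.leaf 0) (.leaf 0)) (.leaf 0)))) (.node (.node (.node (.node (.leaf 0) (.leaf 0)) (.node (.leaf 0) (.leaf 0))) (.node (.node (.leaf 0) (.leaf 0)) (.node (.leaf 0) (.leaf 0)))) (.node (.node (.node (.leaf 122) (.leaf 113)) (.node (.leaf 0) (.leaf 0))) (.node (.node (.leaf 0) (.leaf 49)) (.leaf 0))))))) (.node (.node (.node (.node (.node (.node (.node (.leaf 0) (.leaf 107)) (.node (.leaf 0) (.leaf 0))) (.node (.node (.leaf 56) (.leaf 84)) (.node (.leaf 0) (.leaf 68)))) (.node (.node (.node (.leaf 0) (.leaf 0)) (.node (.leaf 0) (.leaf 0))) (.node (.node (.leaf 0) (.leaf 0)) (.node (.leaf 44) (.leaf 0))))) (.node (.node (.node (.node (.leaf 78) (.leaf 104)) (.node (.leaf 0) (.leaf 0))) (.node (.node (.leaf 0) (.leaf 0)) (.node (.leaf 0) (.leaf 0)))) (.node (.node (.node (.leaf 0) (.leaf 0)) (.node (.leaf 0) (.leaf 0))) (.node (.node (.leaf 1) (.leaf 0)) (.leaf 0))))) (.node (.node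 (.node (.node (.node (.leaf 64) (.leaf 125)) (.node (.leaf 0) (.leaf 0))) (.node (.node (.leaf 0) (.leaf 0)) (.node (.leaf 0) (.leaf 6)))) (.node (.node (.node (.leaf 0) (.leaf 25)) (.node (.leaf 0) (.leaf 86))) (.node (.node (.leaf 0) (.leaf 0)) (.leaf 0)))) (.node (.node (.node (.node (.leaf 0) (.leaf 48)) (.node (.leaf 0) (.leaf 0))) (.node (.node (.leaf 0) (.leaf 0)) (.node (.leaf 0) (.leaf 0)))) (.node (.node (.node (.leaf 0) (.leaf 0)) (.node (.leaf 0) (.leaf 0))) (.node (.node (.leaf 65) (.leaf 0)) (.leaf 0)))))) (.node (.node (.node (.node (.node (.node (.leaf 0) (.leaf 97)) (.node (.leaf 0) (.leaf 0))) (.node (.node (.leaf 0) (.leaf 23)) (.node (.leaf 0) (.leaf 0)))) (.node (.node (.node (.leaf 57) (.leaf 0)) (.node (.leaf 0) (.leaf 0))) (.node (.node (.leaf 0) (.leaf 27)) (.node (.leaf 0) (.leaf 0))))) (.node (.node (.node (.node (.leaf 0) (.leaf 0)) (.node (.leaf 0) (.leaf 35))) (.node (.node (.leaf 0) (.leaf 0)) (.node (.leaf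 0) (.leaf 0)))) (.node (.node (.node (.leaf 0) (.leaf 0)) (.node (.leaf 0) (.leaf 0))) (.node (.node (.leaf 0) (.leaf 0)) (.leaf 0))))) (.node (.node (.node (.node (.node (.leaf 0) (.leaf 0)) (.node (.leaf 0) (.leaf 0))) (.node (.node (.leaf 0) (.leaf 0)) (.node (.leaf 0) (.leaf 0)))) (.node (.node (.node (.leaf 117) (.leaf 0)) (.node (.leaf 0) (.leaf 0))) (.node (.node (.leaf 0) (.leaf 0)) (.leaf 0)))) (.node (.node (.node (.node (.leaf 0) (.leaf 87)) (.node (.leaf 121) (.leaf 0))) (.node (.node (.leaf 34) (.leaf 98)) (.node (.leaf 122) (.leaf 0)))) (.node (.node (.node (.leaf 0) (.leaf 0)) (.node (.leaf 0) (.leaf 0))) (.node (.node (.leaf 0) (.leaf 0)) (.leaf 0)))))))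

/-- Part of `posT`. -/
def posT_p001100 : Tr := .node (.node (.node (.node (.node (.node (.node (.node (.leaf 0) (.leaf 0)) (.node (.leaf 0) (.leaf 0))) (.node (.node (.leaf 0) (.leaf 0)) (.node (.leaf 0) (.leaf 0)))) (.node (.node (.node (.leaf 0) (.leaf 66)) (.node (.leaf 0) (.leaf 104))) (.node (.node (.leaf 0) (.leaf 0)) (.node (.leaf 0) (.leaf 0))))) (.node (.node (.node (.node (.leaf 0) (.leaf 0)) (.node (.leaf 0) (.leaf 96))) (.node (.node (.leaf 0) (.leaf 0)) (.node (.leaf 0) (.leaf 0)))) (.node (.node (.node (.leaf 0) (.leaf 0)) (.node (.leaf 0) (.leaf 0))) (.node (.node (.leaf 0) (.leaf 0)) (.leaf 0))))) (.node (.node (.node (.node (.node (.leaf 0) (.leaf 0)) (.node (.leaf 0) (.leaf 0))) (.node (.node (.leaf 0) (.leaf 0)) (.node (.leaf 0) (.leaf 0)))) (.node (.node (.node (.leaf 0) (.leaf 0)) (.node (.leaf 22) (.leaf 0))) (.node (.node (.leaf 0) (.leaf 0)) (.leaf 0)))) (.node (.node (.node (.node (.leaf 0) (.leaf 0)) (.node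 (.leaf 0) (.leaf 0))) (.node (.node (.leaf 0) (.leaf 0)) (.node (.leaf 0) (.leaf 0)))) (.node (.node (.node (.leaf 0) (.leaf 48)) (.node (.leaf 0) (.leaf 0))) (.node (.node (.leaf 0) (.leaf 82)) (.leaf 0)))))) (.node (.node (.node (.node (.node (.node (.leaf 76) (.leaf 87)) (.node (.leaf 70) (.leaf 0))) (.node (.node (.leaf 0) (.leaf 0)) (.node (.leaf 0) (.leaf 0)))) (.node (.node (.node (.leaf 0) (.leaf 0)) (.node (.leaf 0) (.leaf 0))) (.node (.node (.leaf 0) (.leaf 0)) (.node (.leaf 0) (.leaf 0))))) (.node (.node (.node (.node (.leaf 0) (.leaf 51)) (.node (.leaf 0) (.leaf 0))) (.node (.node (.leaf 0) (.leaf 0)) (.node (.leaf 105) (.leaf 0)))) (.node (.node (.node (.leaf 0) (.leaf 0)) (.node (.leaf 0) (.leaf 0))) (.node (.node (.leaf 0) (.leaf 0)) (.leaf 122))))) (.node (.node (.node (.node (.node (.leaf 0) (.leaf 0)) (.node (.leaf 0) (.leaf 0))) (.node (.node (.leaf 0) (.leaf 0)) (.node (.leaf 0) (.leaf 0)))) (.node (.node (.node (.leaf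 0) (.leaf 0)) (.node (.leaf 0) (.leaf 0))) (.node (.node (.leaf 56) (.leaf 0)) (.leaf 0)))) (.node (.node (.node (.node (.leaf 0) (.leaf 0)) (.node (.leaf 0) (.leaf 0))) (.node (.node (.leaf 0) (.leaf 0)) (.node (.leaf 0) (.leaf 0)))) (.node (.node (.node (.leaf 95) (.leaf 0)) (.node (.leaf 0) (.leaf 0))) (.node (.node (.leaf 0) (.leaf 0)) (.leaf 0))))))) (.node (.node (.node (.node (.node (.node (.node (.leaf 67) (.leaf 17)) (.node (.leaf 0) (.leaf 0))) (.node (.node (.leaf 0) (.leaf 0)) (.node (.leaf 0) (.leaf 0)))) (.node (.node (.node (.leaf 0) (.leaf 0)) (.node (.leaf 0) (.leaf 0))) (.node (.node (.leaf 57) (.leaf 0)) (.node (.leaf 0) (.leaf 0))))) (.node (.node (.node (.node (.leaf 0) (.leaf 0)) (.node (.leaf 0) (.leaf 0))) (.node (.node (.leaf 0) (.leaf 0)) (.node (.leaf 0) (.leaf 110)))) (.node (.node (.node (.leaf 0) (.leaf 0)) (.node (.leaf 73) (.leaf 0))) (.node (.node (.leaf 0) (.leaf 0)) (.leaf 0))))) (.node (.node (.node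 (.node (.node (.leaf 0) (.leaf 0)) (.node (.leaf 68) (.leaf 0))) (.node (.node (.leaf 26) (.leaf 0)) (.node (.leaf 0) (.leaf 0)))) (.node (.node (.node (.leaf 0) (.leaf 0)) (.node (.leaf 0) (.leaf 52))) (.node (.node (.leaf 0) (.leaf 0)) (.leaf 0)))) (.node (.node (.node (.node (.leaf 0) (.leaf 0)) (.node (.leaf 0) (.leaf 0))) (.node (.node (.leaf 0) (.leaf 0)) (.node (.leaf 116) (.leaf 0)))) (.node (.node (.node (.leaf 0) (.leaf 0)) (.node (.leaf 0) (.leaf 0))) (.node (.node (.leaf 0) (.leaf 0)) (.leaf 2)))))) (.node (.node (.node (.node (.node (.node (.leaf 0) (.leaf 0)) (.node (.leaf 0) (.leaf 0))) (.node (.node (.leaf 113) (.leaf 0)) (.node (.leaf 0) (.leaf 0)))) (.node (.node (.node (.leaf 0) (.leaf 0)) (.node (.leaf 0) (.leaf 0))) (.node (.node (.leaf 0) (.leaf 0)) (.node (.leaf 0) (.leaf 0))))) (.node (.node (.node (.node (.leaf 0) (.leaf 0)) (.node (.leaf 0) (.leaf 0))) (.node (.node (.leaf 0) (.leaf 0)) (.node (.leaf 0) (.leaf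 0)))) (.node (.node (.node (.leaf 0) (.leaf 0)) (.node (.leaf 0) (.leaf 0))) (.node (.node (.leaf 0) (.leaf 0)) (.leaf 0))))) (.node (.node (.node (.node (.node (.leaf 0) (.leaf 0)) (.node (.leaf 0) (.leaf 0))) (.node (.node (.leaf 0) (.leaf 4)) (.node (.leaf 0) (.leaf 0)))) (.node (.node (.node (.leaf 0) (.leaf 0)) (.node (.leaf 0) (.leaf 0))) (.node (.node (.leaf 0) (.leaf 0)) (.leaf 0)))) (.node (.node (.node (.node (.leaf 0) (.leaf 0)) (.node (.leaf 0) (.leaf 0))) (.node (.node (.leaf 0) (.leaf 0)) (.node (.leaf 29) (.leaf 0)))) (.node (.node (.node (.leaf 0) (.leaf 0)) (.node (.leaf 0) (.leaf 118))) (.node (.node (.leaf 77) (.leaf 0)) (.leaf 0)))))))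

/-- Part of `posT`. -/
def posT_p001101 : Tr := .node (.node (.node (.node (.node (.node (.node (.node (.leaf 0) (.leaf 22)) (.node (.leaf 0) (.leaf 0))) (.node (.node (.leaf 0) (.leaf 19)) (.node (.leaf 0) (.leaf 98)))) (.node (.node (.node (.leaf 0) (.leaf 0)) (.node (.leaf 0) (.leaf 0))) (.node (.node (.leaf 0) (.leaf 0)) (.node (.leaf 108) (.leaf 0))))) (.node (.node (.node (.node (.leaf 0) (.leaf 0)) (.node (.leaf 0) (.leaf 0))) (.node (.node (.leaf 0) (.leaf 0)) (.node (.leaf 0) (.leaf 0)))) (.node (.node (.node (.leaf 0) (.leaf 0)) (.node (.leaf 0) (.leaf 0))) (.node (.node (.leaf 71) (.leaf 0)) (.leaf 0))))) (.node (.node (.node (.node (.node (.leaf 0) (.leaf 80)) (.node (.leaf 0) (.leaf 0))) (.node (.node (.leaf 0) (.leaf 0)) (.node (.leaf 0) (.leaf 0)))) (.node (.node (.node (.leaf 0) (.leaf 0)) (.node (.leaf 0) (.leaf 0))) (.node (.node (.leaf 0) (.leaf 71)) (.leaf 0)))) (.node (.node (.node (.node (.leaf 0) (.leaf 0)) (.node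 (.leaf 0) (.leaf 0))) (.node (.node (.leaf 0) (.leaf 0)) (.node (.leaf 0) (.leaf 0)))) (.node (.node (.node (.leaf 0) (.leaf 0)) (.node (.leaf 0) (.leaf 0))) (.node (.node (.leaf 0) (.leaf 0)) (.leaf 0)))))) (.node (.node (.node (.node (.node (.node (.leaf 0) (.leaf 0)) (.node (.leaf 0) (.leaf 0))) (.node (.node (.leaf 0) (.leaf 0)) (.node (.leaf 0) (.leaf 0)))) (.node (.node (.node (.leaf 0) (.leaf 0)) (.node (.leaf 0) (.leaf 0))) (.node (.node (.leaf 0) (.leaf 0)) (.node (.leaf 0) (.leaf 73))))) (.node (.node (.node (.node (.leaf 0) (.leaf 0)) (.node (.leaf 0) (.leaf 0))) (.node (.node (.leaf 0) (.leaf 0)) (.node (.leaf 0) (.leaf 0)))) (.node (.node (.node (.leaf 0) (.leaf 0)) (.node (.leaf 0) (.leaf 26))) (.node (.node (.leaf 0) (.leaf 0)) (.leaf 0))))) (.node (.node (.node (.node (.node (.leaf 90) (.leaf 0)) (.node (.leaf 0) (.leaf 0))) (.node (.node (.leaf 0) (.leaf 0)) (.node (.leaf 17) (.leaf 0)))) (.node (.node (.node (.leaf 2)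 (.leaf 0)) (.node (.leaf 0) (.leaf 106))) (.node (.node (.leaf 0) (.leaf 0)) (.leaf 0)))) (.node (.node (.node (.node (.leaf 0) (.leaf 0)) (.node (.leaf 0) (.leaf 0))) (.node (.node (.leaf 35) (.leaf 0)) (.node (.leaf 0) (.leaf 0)))) (.node (.node (.node (.leaf 0) (.leaf 0)) (.node (.leaf 0) (.leaf 0))) (.node (.node (.leaf 0) (.leaf 42)) (.leaf 0))))))) (.node (.node (.node (.node (.node (.node (.node (.leaf 0) (.leaf 0)) (.node (.leaf 0) (.leaf 83))) (.node (.node (.leaf 0) (.leaf 0)) (.node (.leaf 0) (.leaf 0)))) (.node (.node (.node (.leaf 0) (.leaf 0)) (.node (.leaf 43) (.leaf 43))) (.node (.node (.leaf 88) (.leaf 0)) (.node (.leaf 0) (.leaf 0))))) (.node (.node (.node (.node (.leaf 0) (.leaf 0)) (.node (.leaf 0) (.leaf 0))) (.node (.node (.leaf 0) (.leaf 0)) (.node (.leaf 0) (.leaf 0)))) (.node (.node (.node (.leaf 0) (.leaf 0)) (.node (.leaf 0) (.leaf 0))) (.node (.node (.leaf 0) (.leaf 0)) (.leaf 6))))) (.node (.node (.node (.node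 (.node (.leaf 0) (.leaf 0)) (.node (.leaf 0) (.leaf 0))) (.node (.node (.leaf 0) (.leaf 0)) (.node (.leaf 0) (.leaf 0)))) (.node (.node (.node (.leaf 0) (.leaf 0)) (.node (.leaf 0) (.leaf 0))) (.node (.node (.leaf 0) (.leaf 0)) (.leaf 0)))) (.node (.node (.node (.node (.leaf 0) (.leaf 26)) (.node (.leaf 0) (.leaf 0))) (.node (.node (.leaf 0) (.leaf 0)) (.node (.leaf 0) (.leaf 0)))) (.node (.node (.node (.leaf 20) (.leaf 0)) (.node (.leaf 0) (.leaf 0))) (.node (.node (.leaf 0) (.leaf 0)) (.leaf 0)))))) (.node (.node (.node (.node (.node (.node (.leaf 0) (.leaf 0)) (.node (.leaf 0) (.leaf 0))) (.node (.node (.leaf 0) (.leaf 0)) (.node (.leaf 0) (.leaf 0)))) (.node (.node (.node (.leaf 0) (.leaf 26)) (.node (.leaf 0) (.leaf 0))) (.node (.node (.leaf 0) (.leaf 0)) (.node (.leaf 0) (.leaf 115))))) (.node (.node (.node (.node (.leaf 0) (.leaf 0)) (.node (.leaf 0) (.leaf 104))) (.node (.node (.leaf 0) (.leaf 24)) (.node (.leaf 0) (.leaf 0))))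 (.node (.node (.node (.leaf 0) (.leaf 0)) (.node (.leaf 0) (.leaf 94))) (.node (.node (.leaf 0) (.leaf 0)) (.leaf 0))))) (.node (.node (.node (.node (.node (.leaf 0) (.leaf 0)) (.node (.leaf 23) (.leaf 0))) (.node (.node (.leaf 0) (.leaf 0)) (.node (.leaf 0) (.leaf 0)))) (.node (.node (.node (.leaf 0) (.leaf 47)) (.node (.leaf 0) (.leaf 0))) (.node (.node (.leaf 0) (.leaf 0)) (.leaf 0)))) (.node (.node (.node (.node (.leaf 0) (.leaf 0)) (.node (.leaf 0) (.leaf 0))) (.node (.node (.leaf 0) (.leaf 0)) (.node (.leaf 0) (.leaf 0)))) (.node (.node (.node (.leaf 0) (.leaf 0)) (.node (.leaf 0) (.leaf 0))) (.node (.node (.leaf 0) (.leaf 0)) (.leaf 0)))))))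

/-- Part of `posT`. -/
def posT_p001110 : Tr := .node (.node (.node (.node (.node (.node (.node (.node (.leaf 76) (.leaf 0)) (.node (.leaf 0) (.leaf 0))) (.node (.node (.leaf 0) (.leaf 0)) (.node (.leaf 84) (.leaf 0)))) (.node (.node (.node (.leaf 0) (.leaf 0)) (.node (.leaf 0) (.leaf 0))) (.node (.node (.leaf 4) (.leaf 0)) (.node (.leaf 0) (.leaf 0))))) (.node (.node (.node (.node (.leaf 0) (.leaf 0)) (.node (.leaf 0) (.leaf 0))) (.node (.node (.leaf 0) (.leaf 0)) (.node (.leaf 0) (.leaf 0)))) (.node (.node (.node (.leaf 0) (.leaf 0)) (.node (.leaf 0) (.leaf 0))) (.node (.node (.leaf 0) (.leaf 0)) (.leaf 100))))) (.node (.node (.node (.node (.node (.leaf 0) (.leaf 51)) (.node (.leaf 62) (.leaf 0))) (.node (.node (.leaf 0) (.leaf 38)) (.node (.leaf 0) (.leaf 0)))) (.node (.node (.node (.leaf 122) (.leaf 20)) (.node (.leaf 0) (.leaf 0))) (.node (.node (.leaf 0) (.leaf 0)) (.leaf 0)))) (.node (.node (.node (.node (.leaf 0) (.leaf 0)) (.node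 (.leaf 0) (.leaf 0))) (.node (.node (.leaf 101) (.leaf 0)) (.node (.leaf 0) (.leaf 0)))) (.node (.node (.node (.leaf 0) (.leaf 0)) (.node (.leaf 49) (.leaf 0))) (.node (.node (.leaf 0) (.leaf 0)) (.leaf 84)))))) (.node (.node (.node (.node (.node (.node (.leaf 0) (.leaf 108)) (.node (.leaf 0) (.leaf 0))) (.node (.node (.leaf 0) (.leaf 0)) (.node (.leaf 0) (.leaf 0)))) (.node (.node (.node (.leaf 0) (.leaf 0)) (.node (.leaf 0) (.leaf 0))) (.node (.node (.leaf 0) (.leaf 0)) (.node (.leaf 0) (.leaf 107))))) (.node (.node (.node (.node (.leaf 0) (.leaf 0)) (.node (.leaf 0) (.leaf 0))) (.node (.node (.leaf 0) (.leaf 0)) (.node (.leaf 123) (.leaf 62)))) (.node (.node (.node (.leaf 0) (.leaf 0)) (.node (.leaf 0) (.leaf 0))) (.node (.node (.leaf 0) (.leaf 0)) (.leaf 37))))) (.node (.node (.node (.node (.node (.leaf 0) (.leaf 117)) (.node (.leaf 0) (.leaf 3))) (.node (.node (.leaf 0) (.leaf 0)) (.node (.leaf 0) (.leaf 0)))) (.node (.node (.node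 (.leaf 0) (.leaf 0)) (.node (.leaf 0) (.leaf 81))) (.node (.node (.leaf 61) (.leaf 0)) (.leaf 0)))) (.node (.node (.node (.node (.leaf 0) (.leaf 0)) (.node (.leaf 7) (.leaf 0))) (.node (.node (.leaf 0) (.leaf 0)) (.node (.leaf 0) (.leaf 0)))) (.node (.node (.node (.leaf 74) (.leaf 0)) (.node (.leaf 107) (.leaf 0))) (.node (.node (.leaf 0) (.leaf 54)) (.leaf 0))))))) (.node (.node (.node (.node (.node (.node (.node (.leaf 111) (.leaf 0)) (.node (.leaf 0) (.leaf 0))) (.node (.node (.leaf 0) (.leaf 0)) (.node (.leaf 0) (.leaf 72)))) (.node (.node (.node (.leaf 0) (.leaf 0)) (.node (.leaf 16) (.leaf 0))) (.node (.node (.leaf 0) (.leaf 0)) (.node (.leaf 0) (.leaf 0))))) (.node (.node (.node (.node (.leaf 111) (.leaf 0)) (.node (.leaf 0) (.leaf 0))) (.node (.node (.leaf 0) (.leaf 0)) (.node (.leaf 0) (.leaf 0)))) (.node (.node (.node (.leaf 86) (.leaf 0)) (.node (.leaf 0) (.leaf 0))) (.node (.node (.leaf 0) (.leaf 0)) (.leaf 56))))) (.node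 (.node (.node (.node (.node (.leaf 0) (.leaf 0)) (.node (.leaf 0) (.leaf 0))) (.node (.node (.leaf 0) (.leaf 0)) (.node (.leaf 0) (.leaf 0)))) (.node (.node (.node (.leaf 0) (.leaf 0)) (.node (.leaf 0) (.leaf 114))) (.node (.node (.leaf 0) (.leaf 86)) (.leaf 0)))) (.node (.node (.node (.node (.leaf 0) (.leaf 0)) (.node (.leaf 0) (.leaf 0))) (.node (.node (.leaf 0) (.leaf 0)) (.node (.leaf 0) (.leaf 33)))) (.node (.node (.node (.leaf 0) (.leaf 0)) (.node (.leaf 46) (.leaf 0))) (.node (.node (.leaf 0) (.leaf 0)) (.leaf 0)))))) (.node (.node (.node (.node (.node (.node (.leaf 90) (.leaf 103)) (.node (.leaf 0) (.leaf 62))) (.node (.node (.leaf 0) (.leaf 0)) (.node (.leaf 0) (.leaf 0)))) (.node (.node (.node (.leaf 0) (.leaf 0)) (.node (.leaf 112) (.leaf 0))) (.node (.node (.leaf 0) (.leaf 0)) (.node (.leaf 0) (.leaf 0))))) (.node (.node (.node (.node (.leaf 0) (.leaf 0)) (.node (.leaf 0) (.leaf 0))) (.node (.node (.leaf 0) (.leaf 0)) (.node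 (.leaf 0) (.leaf 0)))) (.node (.node (.node (.leaf 0) (.leaf 0)) (.node (.leaf 0) (.leaf 0))) (.node (.node (.leaf 0) (.leaf 0)) (.leaf 0))))) (.node (.node (.node (.node (.node (.leaf 0) (.leaf 0)) (.node (.leaf 0) (.leaf 0))) (.node (.node (.leaf 7) (.leaf 0)) (.node (.leaf 0) (.leaf 0)))) (.node (.node (.node (.leaf 0) (.leaf 0)) (.node (.leaf 0) (.leaf 0))) (.node (.node (.leaf 0) (.leaf 0)) (.leaf 0)))) (.node (.node (.node (.node (.leaf 99) (.leaf 0)) (.node (.leaf 63) (.leaf 0))) (.node (.node (.leaf 0) (.leaf 0)) (.node (.leaf 0) (.leaf 0)))) (.node (.node (.node (.leaf 0) (.leaf 0)) (.node (.leaf 0) (.leaf 0))) (.node (.node (.leaf 0) (.leaf 0)) (.leaf 0)))))))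

/-- Part of `posT`. -/
def posT_p001111 : Tr := .node (.node (.node (.node (.node (.node (.node (.node (.leaf 0) (.leaf 0)) (.node (.leaf 0) (.leaf 0))) (.node (.node (.leaf 28) (.leaf 0)) (.node (.leaf 0) (.leaf 0)))) (.node (.node (.node (.leaf 0) (.leaf 0)) (.node (.leaf 0) (.leaf 71))) (.node (.node (.leaf 7) (.leaf 0)) (.node (.leaf 123) (.leaf 87))))) (.node (.node (.node (.node (.leaf 0) (.leaf 0)) (.node (.leaf 0) (.leaf 0))) (.node (.node (.leaf 69) (.leaf 0)) (.node (.leaf 0) (.leaf 0)))) (.node (.node (.node (.leaf 0) (.leaf 0)) (.node (.leaf 0) (.leaf 0))) (.node (.node (.leaf 0) (.leaf 0)) (.leaf 0))))) (.node (.node (.node (.node (.node (.leaf 0) (.leaf 116)) (.node (.leaf 0) (.leaf 102))) (.node (.node (.leaf 27) (.leaf 0)) (.node (.leaf 0) (.leaf 0)))) (.node (.node (.node (.leaf 71) (.leaf 0)) (.node (.leaf 0) (.leaf 0))) (.node (.node (.leaf 0) (.leaf 85)) (.leaf 0)))) (.node (.node (.node (.node (.leaf 0) (.leaf 0))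 (.node (.leaf 63) (.leaf 58))) (.node (.node (.leaf 0) (.leaf 0)) (.node (.leaf 0) (.leaf 0)))) (.node (.node (.node (.leaf 0) (.leaf 0)) (.node (.leaf 0) (.leaf 0))) (.node (.node (.leaf 0) (.leaf 0)) (.leaf 0)))))) (.node (.node (.node (.node (.node (.node (.leaf 0) (.leaf 0)) (.node (.leaf 0) (.leaf 0))) (.node (.node (.leaf 11) (.leaf 0)) (.node (.leaf 0) (.leaf 0)))) (.node (.node (.node (.leaf 0) (.leaf 0)) (.node (.leaf 82) (.leaf 0))) (.node (.node (.leaf 0) (.leaf 0)) (.node (.leaf 125) (.leaf 21))))) (.node (.node (.node (.node (.leaf 0) (.leaf 0)) (.node (.leaf 0) (.leaf 0))) (.node (.node (.leaf 0) (.leaf 0)) (.node (.leaf 0) (.leaf 0)))) (.node (.node (.node (.leaf 0) (.leaf 0)) (.node (.leaf 0) (.leaf 85))) (.node (.node (.leaf 0) (.leaf 99)) (.leaf 113))))) (.node (.node (.node (.node (.node (.leaf 0) (.leaf 0)) (.node (.leaf 0) (.leaf 0))) (.node (.node (.leaf 0) (.leaf 0)) (.node (.leaf 0) (.leaf 0)))) (.node (.node (.node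 (.leaf 0) (.leaf 0)) (.node (.leaf 0) (.leaf 0))) (.node (.node (.leaf 0) (.leaf 0)) (.leaf 0)))) (.node (.node (.node (.node (.leaf 0) (.leaf 0)) (.node (.leaf 96) (.leaf 0))) (.node (.node (.leaf 88) (.leaf 0)) (.node (.leaf 0) (.leaf 0)))) (.node (.node (.node (.leaf 0) (.leaf 0)) (.node (.leaf 0) (.leaf 0))) (.node (.node (.leaf 0) (.leaf 0)) (.leaf 0))))))) (.node (.node (.node (.node (.node (.node (.node (.leaf 90) (.leaf 0)) (.node (.leaf 0) (.leaf 0))) (.node (.node (.leaf 0) (.leaf 0)) (.node (.leaf 0) (.leaf 0)))) (.node (.node (.node (.leaf 0) (.leaf 0)) (.node (.leaf 0) (.leaf 0))) (.node (.node (.leaf 0) (.leaf 94)) (.node (.leaf 0) (.leaf 0))))) (.node (.node (.node (.node (.leaf 0) (.leaf 0)) (.node (.leaf 0) (.leaf 23))) (.node (.node (.leaf 0) (.leaf 0)) (.node (.leaf 0) (.leaf 0)))) (.node (.node (.node (.leaf 0) (.leaf 0)) (.node (.leaf 0) (.leaf 0))) (.node (.node (.leaf 0) (.leaf 0)) (.leaf 0))))) (.node (.node (.node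 (.node (.node (.leaf 67) (.leaf 0)) (.node (.leaf 0) (.leaf 0))) (.node (.node (.leaf 2) (.leaf 30)) (.node (.leaf 0) (.leaf 0)))) (.node (.node (.node (.leaf 0) (.leaf 0)) (.node (.leaf 4) (.leaf 0))) (.node (.node (.leaf 0) (.leaf 0)) (.leaf 0)))) (.node (.node (.node (.node (.leaf 0) (.leaf 0)) (.node (.leaf 0) (.leaf 0))) (.node (.node (.leaf 0) (.leaf 0)) (.node (.leaf 2) (.leaf 0)))) (.node (.node (.node (.leaf 0) (.leaf 0)) (.node (.leaf 0) (.leaf 0))) (.node (.node (.leaf 0) (.leaf 45)) (.leaf 11)))))) (.node (.node (.node (.node (.node (.node (.leaf 0) (.leaf 44)) (.node (.leaf 0) (.leaf 0))) (.node (.node (.leaf 3) (.leaf 0)) (.node (.leaf 0) (.leaf 37)))) (.node (.node (.node (.leaf 0) (.leaf 0)) (.node (.leaf 0) (.leaf 0))) (.node (.node (.leaf 0) (.leaf 0)) (.node (.leaf 33) (.leaf 0))))) (.node (.node (.node (.node (.leaf 0) (.leaf 0)) (.node (.leaf 0) (.leaf 0))) (.node (.node (.leaf 0) (.leaf 0)) (.node (.leaf 0) (.leaf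 3)))) (.node (.node (.node (.leaf 0) (.leaf 0)) (.node (.leaf 65) (.leaf 0))) (.node (.node (.leaf 0) (.leaf 0)) (.leaf 0))))) (.node (.node (.node (.node (.node (.leaf 111) (.leaf 0)) (.node (.leaf 0) (.leaf 28))) (.node (.node (.leaf 0) (.leaf 0)) (.node (.leaf 0) (.leaf 0)))) (.node (.node (.node (.leaf 0) (.leaf 0)) (.node (.leaf 0) (.leaf 0))) (.node (.node (.leaf 0) (.leaf 0)) (.leaf 0)))) (.node (.node (.node (.node (.leaf 0) (.leaf 118)) (.node (.leaf 0) (.leaf 0))) (.node (.node (.leaf 0) (.leaf 0)) (.node (.leaf 0) (.leaf 0)))) (.node (.node (.node (.leaf 0) (.leaf 10)) (.node (.leaf 0) (.leaf 0))) (.node (.node (.leaf 0) (.leaf 38)) (.leaf 0)))))))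

/-- Part of `posT`. -/
def posT_p010000 : Tr := .node (.node (.node (.node (.node (.node (.node (.node (.leaf 0) (.leaf 0)) (.node (.leaf 0) (.leaf 0))) (.node (.node (.leaf 0) (.leaf 0)) (.node (.leaf 0) (.leaf 41)))) (.node (.node (.node (.leaf 121) (.leaf 14)) (.node (.leaf 79) (.leaf 0))) (.node (.node (.leaf 0) (.leaf 0)) (.node (.leaf 0) (.leaf 0))))) (.node (.node (.node (.node (.leaf 0) (.leaf 0)) (.node (.leaf 0) (.leaf 0))) (.node (.node (.leaf 0) (.leaf 6)) (.node (.leaf 0) (.leaf 1)))) (.node (.node (.node (.leaf 0) (.leaf 0)) (.node (.leaf 0) (.leaf 0))) (.node (.node (.leaf 0) (.leaf 0)) (.leaf 102))))) (.node (.node (.node (.node (.node (.leaf 0) (.leaf 0)) (.node (.leaf 0) (.leaf 0))) (.node (.node (.leaf 0) (.leaf 0)) (.node (.leaf 110) (.leaf 0)))) (.node (.node (.node (.leaf 0) (.leaf 39)) (.node (.leaf 0) (.leaf 0))) (.node (.node (.leaf 0) (.leaf 46)) (.node (.leaf 0) (.leaf 0))))) (.node (.node (.node (.node (.leaf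 0) (.leaf 0)) (.node (.leaf 0) (.leaf 0))) (.node (.node (.leaf 0) (.leaf 70)) (.node (.leaf 0) (.leaf 0)))) (.node (.node (.node (.leaf 0) (.leaf 0)) (.node (.leaf 0) (.leaf 29))) (.node (.node (.leaf 0) (.leaf 0)) (.leaf 0)))))) (.node (.node (.node (.node (.node (.node (.leaf 0) (.leaf 54)) (.node (.leaf 0) (.leaf 0))) (.node (.node (.leaf 0) (.leaf 0)) (.node (.leaf 0) (.leaf 0)))) (.node (.node (.node (.leaf 0) (.leaf 0)) (.node (.leaf 0) (.leaf 0))) (.node (.node (.leaf 0) (.leaf 0)) (.node (.leaf 0) (.leaf 0))))) (.node (.node (.node (.node (.leaf 0) (.leaf 0)) (.node (.leaf 0) (.leaf 0))) (.node (.node (.leaf 116) (.leaf 48)) (.node (.leaf 0) (.leaf 49)))) (.node (.node (.node (.leaf 96) (.leaf 0)) (.node (.leaf 0) (.leaf 95))) (.node (.node (.leaf 0) (.leaf 0)) (.leaf 0))))) (.node (.node (.node (.node (.node (.leaf 111) (.leaf 0)) (.node (.leaf 2) (.leaf 0))) (.node (.node (.leaf 81) (.leaf 0)) (.node (.leaf 0) (.leaf 120))))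 (.node (.node (.node (.leaf 21) (.leaf 107)) (.node (.leaf 0) (.leaf 0))) (.node (.node (.leaf 0) (.leaf 0)) (.leaf 0)))) (.node (.node (.node (.node (.leaf 89) (.leaf 0)) (.node (.leaf 0) (.leaf 0))) (.node (.node (.leaf 0) (.leaf 79)) (.node (.leaf 0) (.leaf 0)))) (.node (.node (.node (.leaf 0) (.leaf 0)) (.node (.leaf 0) (.leaf 53))) (.node (.node (.leaf 0) (.leaf 0)) (.leaf 0))))))) (.node (.node (.node (.node (.node (.node (.node (.leaf 0) (.leaf 0)) (.node (.leaf 0) (.leaf 0))) (.node (.node (.leaf 0) (.leaf 0)) (.node (.leaf 0) (.leaf 0)))) (.node (.node (.node (.leaf 0) (.leaf 0)) (.node (.leaf 0) (.leaf 58))) (.node (.node (.leaf 0) (.leaf 0)) (.node (.leaf 41) (.leaf 0))))) (.node (.node (.node (.node (.leaf 0) (.leaf 0)) (.node (.leaf 0) (.leaf 0))) (.node (.node (.leaf 86) (.leaf 0)) (.node (.leaf 18) (.leaf 0)))) (.node (.node (.node (.leaf 0) (.leaf 0)) (.node (.leaf 61) (.leaf 0))) (.node (.node (.leaf 0) (.leaf 0)) (.leaf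 0))))) (.node (.node (.node (.node (.node (.leaf 0) (.leaf 0)) (.node (.leaf 0) (.leaf 0))) (.node (.node (.leaf 34) (.leaf 0)) (.node (.leaf 0) (.leaf 0)))) (.node (.node (.node (.leaf 0) (.leaf 0)) (.node (.leaf 0) (.leaf 0))) (.node (.node (.leaf 0) (.leaf 23)) (.leaf 0)))) (.node (.node (.node (.node (.leaf 0) (.leaf 0)) (.node (.leaf 0) (.leaf 0))) (.node (.node (.leaf 89) (.leaf 0)) (.node (.leaf 0) (.leaf 0)))) (.node (.node (.node (.leaf 85) (.leaf 0)) (.node (.leaf 0) (.leaf 0))) (.node (.node (.leaf 0) (.leaf 0)) (.leaf 0)))))) (.node (.node (.node (.node (.node (.node (.leaf 90) (.leaf 0)) (.node (.leaf 61) (.leaf 0))) (.node (.node (.leaf 0) (.leaf 0)) (.node (.leaf 0) (.leaf 0)))) (.node (.node (.node (.leaf 0) (.leaf 113)) (.node (.leaf 0) (.leaf 18))) (.node (.node (.leaf 0) (.leaf 96)) (.node (.leaf 0) (.leaf 0))))) (.node (.node (.node (.node (.leaf 0) (.leaf 0)) (.node (.leaf 0) (.leaf 0))) (.node (.node (.leaf 0) (.leaf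 0)) (.node (.leaf 0) (.leaf 0)))) (.node (.node (.node (.leaf 54) (.leaf 0)) (.node (.leaf 0) (.leaf 61))) (.node (.node (.leaf 0) (.leaf 120)) (.leaf 0))))) (.node (.node (.node (.node (.node (.leaf 0) (.leaf 92)) (.node (.leaf 42) (.leaf 0))) (.node (.node (.leaf 19) (.leaf 0)) (.node (.leaf 0) (.leaf 0)))) (.node (.node (.node (.leaf 94) (.leaf 0)) (.node (.leaf 0) (.leaf 0))) (.node (.node (.leaf 0) (.leaf 13)) (.leaf 0)))) (.node (.node (.node (.node (.leaf 0) (.leaf 0)) (.node (.leaf 0) (.leaf 0))) (.node (.node (.leaf 0) (.leaf 0)) (.node (.leaf 0) (.leaf 0)))) (.node (.node (.node (.leaf 0) (.leaf 0)) (.node (.leaf 0) (.leaf 0))) (.node (.node (.leaf 0) (.leaf 0)) (.leaf 0)))))))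

/-- Part of `posT`. -/
def posT_p010001 : Tr := .node (.node (.node (.node (.node (.node (.node (.node (.leaf 111) (.leaf 0)) (.node (.leaf 0) (.leaf 0))) (.node (.node (.leaf 0) (.leaf 0)) (.node (.leaf 115) (.leaf 0)))) (.node (.node (.node (.leaf 0) (.leaf 0)) (.node (.leaf 0) (.leaf 88))) (.node (.node (.leaf 0) (.leaf 0)) (.node (.leaf 0) (.leaf 0))))) (.node (.node (.node (.node (.leaf 0) (.leaf 0)) (.node (.leaf 106) (.leaf 0))) (.node (.node (.leaf 0) (.leaf 0)) (.node (.leaf 80) (.leaf 0)))) (.node (.node (.node (.leaf 0) (.leaf 93)) (.node (.leaf 0) (.leaf 92))) (.node (.node (.leaf 0) (.leaf 12)) (.leaf 0))))) (.node (.node (.node (.node (.node (.leaf 90) (.leaf 0)) (.node (.leaf 57) (.leaf 0))) (.node (.node (.leaf 0) (.leaf 99)) (.node (.leaf 0) (.leaf 25)))) (.node (.node (.node (.leaf 0) (.leaf 0)) (.node (.leaf 0) (.leaf 0))) (.node (.node (.leaf 0) (.leaf 0)) (.leaf 0)))) (.node (.node (.node (.node (.leaf 0) (.leaf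 6)) (.node (.leaf 0) (.leaf 0))) (.node (.node (.leaf 0) (.leaf 2)) (.node (.leaf 0) (.leaf 0)))) (.node (.node (.node (.leaf 0) (.leaf 0)) (.node (.leaf 0) (.leaf 0))) (.node (.node (.leaf 0) (.leaf 0)) (.leaf 125)))))) (.node (.node (.node (.node (.node (.node (.leaf 67) (.leaf 0)) (.node (.leaf 0) (.leaf 8))) (.node (.node (.leaf 0) (.leaf 122)) (.node (.leaf 39) (.leaf 82)))) (.node (.node (.node (.leaf 0) (.leaf 0)) (.node (.leaf 0) (.leaf 0))) (.node (.node (.leaf 0) (.leaf 0)) (.node (.leaf 0) (.leaf 0))))) (.node (.node (.node (.node (.leaf 0) (.leaf 0)) (.node (.leaf 0) (.leaf 70))) (.node (.node (.leaf 68) (.leaf 0)) (.node (.leaf 9) (.leaf 0)))) (.node (.node (.node (.leaf 0) (.leaf 0)) (.node (.leaf 0) (.leaf 0))) (.node (.node (.leaf 0) (.leaf 0)) (.leaf 0))))) (.node (.node (.node (.node (.node (.leaf 0) (.leaf 0)) (.node (.leaf 0) (.leaf 0))) (.node (.node (.leaf 0) (.leaf 0)) (.node (.leaf 0) (.leaf 28)))) (.node (.node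 (.node (.leaf 0) (.leaf 0)) (.node (.leaf 0) (.leaf 0))) (.node (.node (.leaf 0) (.leaf 0)) (.leaf 0)))) (.node (.node (.node (.node (.leaf 83) (.leaf 0)) (.node (.leaf 0) (.leaf 0))) (.node (.node (.leaf 0) (.leaf 0)) (.node (.leaf 0) (.leaf 0)))) (.node (.node (.node (.leaf 0) (.leaf 106)) (.node (.leaf 0) (.leaf 0))) (.node (.node (.leaf 81) (.leaf 0)) (.leaf 14))))))) (.node (.node (.node (.node (.node (.node (.node (.leaf 0) (.leaf 0)) (.node (.leaf 0) (.leaf 0))) (.node (.node (.leaf 30) (.leaf 100)) (.node (.leaf 0) (.leaf 46)))) (.node (.node (.node (.leaf 0) (.leaf 0)) (.node (.leaf 122) (.leaf 0))) (.node (.node (.leaf 0) (.leaf 0)) (.node (.leaf 0) (.leaf 0))))) (.node (.node (.node (.node (.leaf 0) (.leaf 0)) (.node (.leaf 0) (.leaf 0))) (.node (.node (.leaf 0) (.leaf 20)) (.node (.leaf 0) (.leaf 0)))) (.node (.node (.node (.leaf 30) (.leaf 0)) (.node (.leaf 0) (.leaf 0))) (.node (.node (.leaf 0) (.leaf 0)) (.leaf 0))))) (.node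 (.node (.node (.node (.node (.leaf 0) (.leaf 0)) (.node (.leaf 0) (.leaf 0))) (.node (.node (.leaf 0) (.leaf 0)) (.node (.leaf 0) (.leaf 103)))) (.node (.node (.node (.leaf 0) (.leaf 0)) (.node (.leaf 0) (.leaf 0))) (.node (.node (.leaf 52) (.leaf 40)) (.leaf 0)))) (.node (.node (.node (.node (.leaf 0) (.leaf 0)) (.node (.leaf 84) (.leaf 0))) (.node (.node (.leaf 0) (.leaf 0)) (.node (.leaf 0) (.leaf 17)))) (.node (.node (.node (.leaf 0) (.leaf 0)) (.node (.leaf 34) (.leaf 0))) (.node (.node (.leaf 0) (.leaf 0)) (.leaf 0)))))) (.node (.node (.node (.node (.node (.node (.leaf 90) (.leaf 30)) (.node (.leaf 0) (.leaf 0))) (.node (.node (.leaf 115) (.leaf 0)) (.node (.leaf 0) (.leaf 71)))) (.node (.node (.node (.leaf 0) (.leaf 0)) (.node (.leaf 0) (.leaf 0))) (.node (.node (.leaf 0) (.leaf 0)) (.node (.leaf 0) (.leaf 0))))) (.node (.node (.node (.node (.leaf 0) (.leaf 0)) (.node (.leaf 0) (.leaf 0))) (.node (.node (.leaf 0) (.leaf 0)) (.node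 (.leaf 98) (.leaf 0)))) (.node (.node (.node (.leaf 0) (.leaf 73)) (.node (.leaf 13) (.leaf 0))) (.node (.node (.leaf 15) (.leaf 19)) (.leaf 0))))) (.node (.node (.node (.node (.node (.leaf 111) (.leaf 0)) (.node (.leaf 0) (.leaf 0))) (.node (.node (.leaf 71) (.leaf 0)) (.node (.leaf 71) (.leaf 0)))) (.node (.node (.node (.leaf 115) (.leaf 6)) (.node (.leaf 56) (.leaf 0))) (.node (.node (.leaf 50) (.leaf 0)) (.leaf 0)))) (.node (.node (.node (.node (.leaf 0) (.leaf 0)) (.node (.leaf 0) (.leaf 101))) (.node (.node (.leaf 0) (.leaf 0)) (.node (.leaf 0) (.leaf 0)))) (.node (.node (.node (.leaf 0) (.leaf 0)) (.node (.leaf 108) (.leaf 0))) (.node (.node (.leaf 0) (.leaf 0)) (.leaf 0)))))))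

/-- Part of `posT`. -/
def posT_p010010 : Tr := .node (.node (.node (.node (.node (.node (.node (.node (.leaf 0) (.leaf 0)) (.node (.leaf 14) (.leaf 0))) (.node (.node (.leaf 0) (.leaf 0)) (.node (.leaf 0) (.leaf 0)))) (.node (.node (.node (.leaf 17) (.leaf 37)) (.node (.leaf 0) (.leaf 0))) (.node (.node (.leaf 63) (.leaf 0)) (.node (.leaf 0) (.leaf 81))))) (.node (.node (.node (.node (.leaf 0) (.leaf 34)) (.node (.leaf 28) (.leaf 77))) (.node (.node (.leaf 0) (.leaf 0)) (.node (.leaf 0) (.leaf 0)))) (.node (.node (.node (.leaf 0) (.leaf 0)) (.node (.leaf 4) (.leaf 0))) (.node (.node (.leaf 44) (.leaf 0)) (.leaf 26))))) (.node (.node (.node (.node (.node (.leaf 0) (.leaf 16)) (.node (.leaf 0) (.leaf 0))) (.node (.node (.leaf 0) (.leaf 0)) (.node (.leaf 0) (.leaf 0)))) (.node (.node (.node (.leaf 0) (.leaf 40)) (.node (.leaf 0) (.leaf 0))) (.node (.node (.leaf 0) (.leaf 58)) (.leaf 0)))) (.node (.node (.node (.node (.leaf 0) (.leaf 0))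 (.node (.leaf 0) (.leaf 0))) (.node (.node (.leaf 0) (.leaf 94)) (.node (.leaf 120) (.leaf 0)))) (.node (.node (.node (.leaf 0) (.leaf 0)) (.node (.leaf 0) (.leaf 75))) (.node (.node (.leaf 0) (.leaf 3)) (.leaf 0)))))) (.node (.node (.node (.node (.node (.node (.leaf 0) (.leaf 0)) (.node (.leaf 0) (.leaf 0))) (.node (.node (.leaf 0) (.leaf 0)) (.node (.leaf 86) (.leaf 24)))) (.node (.node (.node (.leaf 0) (.leaf 0)) (.node (.leaf 0) (.leaf 0))) (.node (.node (.leaf 0) (.leaf 0)) (.node (.leaf 0) (.leaf 0))))) (.node (.node (.node (.node (.leaf 0) (.leaf 0)) (.node (.leaf 25) (.leaf 0))) (.node (.node (.leaf 0) (.leaf 11)) (.node (.leaf 0) (.leaf 0)))) (.node (.node (.node (.leaf 0) (.leaf 0)) (.node (.leaf 0) (.leaf 0))) (.node (.node (.leaf 65) (.leaf 0)) (.leaf 0))))) (.node (.node (.node (.node (.node (.leaf 0) (.leaf 41)) (.node (.leaf 80) (.leaf 0))) (.node (.node (.leaf 0) (.leaf 0)) (.node (.leaf 0) (.leaf 0)))) (.node (.node (.node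 (.leaf 0) (.leaf 0)) (.node (.leaf 0) (.leaf 0))) (.node (.node (.leaf 0) (.leaf 0)) (.leaf 0)))) (.node (.node (.node (.node (.leaf 0) (.leaf 13)) (.node (.leaf 0) (.leaf 0))) (.node (.node (.leaf 0) (.leaf 0)) (.node (.leaf 0) (.leaf 0)))) (.node (.node (.node (.leaf 0) (.leaf 0)) (.node (.leaf 0) (.leaf 0))) (.node (.node (.leaf 0) (.leaf 0)) (.leaf 118))))))) (.node (.node (.node (.node (.node (.node (.node (.leaf 0) (.leaf 0)) (.node (.leaf 0) (.leaf 0))) (.node (.node (.leaf 0) (.leaf 0)) (.node (.leaf 0) (.leaf 0)))) (.node (.node (.node (.leaf 0) (.leaf 0)) (.node (.leaf 0) (.leaf 0))) (.node (.node (.leaf 26) (.leaf 0)) (.node (.leaf 4) (.leaf 0))))) (.node (.node (.node (.node (.leaf 64) (.leaf 0)) (.node (.leaf 75) (.leaf 0))) (.node (.node (.leaf 103) (.leaf 0)) (.node (.leaf 0) (.leaf 0)))) (.node (.node (.node (.leaf 0) (.leaf 24)) (.node (.leaf 0) (.leaf 105))) (.node (.node (.leaf 51) (.leaf 0)) (.leaf 0))))) (.node (.node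 (.node (.node (.node (.leaf 0) (.leaf 0)) (.node (.leaf 56) (.leaf 0))) (.node (.node (.leaf 49) (.leaf 0)) (.node (.leaf 0) (.leaf 0)))) (.node (.node (.node (.leaf 0) (.leaf 22)) (.node (.leaf 2) (.leaf 0))) (.node (.node (.leaf 0) (.leaf 0)) (.leaf 78)))) (.node (.node (.node (.node (.leaf 3) (.leaf 0)) (.node (.leaf 0) (.leaf 78))) (.node (.node (.leaf 43) (.leaf 0)) (.node (.leaf 0) (.leaf 0)))) (.node (.node (.node (.leaf 0) (.leaf 2)) (.node (.leaf 0) (.leaf 0))) (.node (.node (.leaf 114) (.leaf 103)) (.leaf 80)))))) (.node (.node (.node (.node (.node (.node (.leaf 0) (.leaf 0)) (.node (.leaf 121) (.leaf 0))) (.node (.node (.leaf 0) (.leaf 0)) (.node (.leaf 0) (.leaf 89)))) (.node (.node (.node (.leaf 0) (.leaf 0)) (.node (.leaf 0) (.leaf 0))) (.node (.node (.leaf 0) (.leaf 0)) (.node (.leaf 19) (.leaf 0))))) (.node (.node (.node (.node (.leaf 0) (.leaf 40)) (.node (.leaf 0) (.leaf 0))) (.node (.node (.leaf 0) (.leaf 0)) (.node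 (.leaf 0) (.leaf 123)))) (.node (.node (.node (.leaf 0) (.leaf 15)) (.node (.leaf 0) (.leaf 0))) (.node (.node (.leaf 0) (.leaf 0)) (.leaf 109))))) (.node (.node (.node (.node (.node (.leaf 0) (.leaf 0)) (.node (.leaf 69) (.leaf 0))) (.node (.node (.leaf 0) (.leaf 0)) (.node (.leaf 0) (.leaf 0)))) (.node (.node (.node (.leaf 38) (.leaf 120)) (.node (.leaf 0) (.leaf 0))) (.node (.node (.leaf 0) (.leaf 0)) (.leaf 0)))) (.node (.node (.node (.node (.leaf 0) (.leaf 0)) (.node (.leaf 11) (.leaf 48))) (.node (.node (.leaf 0) (.leaf 0)) (.node (.leaf 0) (.leaf 0)))) (.node (.node (.node (.leaf 0) (.leaf 0)) (.node (.leaf 0) (.leaf 0))) (.node (.node (.leaf 20) (.leaf 0)) (.leaf 119)))))))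

/-- Part of `posT`. -/
def posT_p010011 : Tr := .node (.node (.node (.node (.node (.node (.node (.node (.leaf 0) (.leaf 0)) (.node (.leaf 53) (.leaf 34))) (.node (.node (.leaf 0) (.leaf 0)) (.node (.leaf 0) (.leaf 7)))) (.node (.node (.node (.leaf 0) (.leaf 0)) (.node (.leaf 0) (.leaf 0))) (.node (.node (.leaf 0) (.leaf 0)) (.node (.leaf 87) (.leaf 0))))) (.node (.node (.node (.node (.leaf 0) (.leaf 0)) (.node (.leaf 0) (.leaf 0))) (.node (.node (.leaf 0) (.leaf 0)) (.node (.leaf 0) (.leaf 0)))) (.node (.node (.node (.leaf 0) (.leaf 0)) (.node (.leaf 85) (.leaf 0))) (.node (.node (.leaf 45) (.leaf 0)) (.leaf 0))))) (.node (.node (.node (.node (.node (.leaf 76) (.leaf 0)) (.node (.leaf 0) (.leaf 75))) (.node (.node (.leaf 0) (.leaf 0)) (.node (.leaf 0) (.leaf 123)))) (.node (.node (.node (.leaf 0) (.leaf 0)) (.node (.leaf 0) (.leaf 0))) (.node (.node (.leaf 0) (.leaf 45)) (.leaf 0)))) (.node (.node (.node (.node (.leaf 0) (.leaf 0)) (.node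 (.leaf 0) (.leaf 0))) (.node (.node (.leaf 0) (.leaf 0)) (.node (.leaf 0) (.leaf 0)))) (.node (.node (.node (.leaf 0) (.leaf 0)) (.node (.leaf 0) (.leaf 0))) (.node (.node (.leaf 0) (.leaf 0)) (.leaf 0)))))) (.node (.node (.node (.node (.node (.node (.leaf 0) (.leaf 0)) (.node (.leaf 0) (.leaf 0))) (.node (.node (.leaf 0) (.leaf 0)) (.node (.leaf 0) (.leaf 0)))) (.node (.node (.node (.leaf 0) (.leaf 98)) (.node (.leaf 0) (.leaf 0))) (.node (.node (.leaf 0) (.leaf 0)) (.node (.leaf 0) (.leaf 0))))) (.node (.node (.node (.node (.leaf 0) (.leaf 0)) (.node (.leaf 0) (.leaf 41))) (.node (.node (.leaf 0) (.leaf 9)) (.node (.leaf 0) (.leaf 0)))) (.node (.node (.node (.leaf 0) (.leaf 46)) (.node (.leaf 0) (.leaf 0))) (.node (.node (.leaf 119) (.leaf 0)) (.leaf 0))))) (.node (.node (.node (.node (.node (.leaf 67) (.leaf 6)) (.node (.leaf 0) (.leaf 0))) (.node (.node (.leaf 37) (.leaf 0)) (.node (.leaf 0) (.leaf 0)))) (.node (.node (.node (.leaf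 0) (.leaf 3)) (.node (.leaf 74) (.leaf 0))) (.node (.node (.leaf 0) (.leaf 0)) (.leaf 0)))) (.node (.node (.node (.node (.leaf 0) (.leaf 0)) (.node (.leaf 0) (.leaf 0))) (.node (.node (.leaf 0) (.leaf 0)) (.node (.leaf 0) (.leaf 0)))) (.node (.node (.node (.leaf 0) (.leaf 0)) (.node (.leaf 0) (.leaf 0))) (.node (.node (.leaf 0) (.leaf 0)) (.leaf 0))))))) (.node (.node (.node (.node (.node (.node (.node (.leaf 0) (.leaf 0)) (.node (.leaf 0) (.leaf 0))) (.node (.node (.leaf 0) (.leaf 0)) (.node (.leaf 0) (.leaf 0)))) (.node (.node (.node (.leaf 103) (.leaf 0)) (.node (.leaf 14) (.leaf 0))) (.node (.node (.leaf 75) (.leaf 0)) (.node (.leaf 0) (.leaf 0))))) (.node (.node (.node (.node (.leaf 0) (.leaf 0)) (.node (.leaf 10) (.leaf 0))) (.node (.node (.leaf 0) (.leaf 0)) (.node (.leaf 0) (.leaf 13)))) (.node (.node (.node (.leaf 0) (.leaf 0)) (.node (.leaf 0) (.leaf 44))) (.node (.node (.leaf 0) (.leaf 57)) (.leaf 0))))) (.node (.node (.node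 (.node (.node (.leaf 0) (.leaf 0)) (.node (.leaf 0) (.leaf 0))) (.node (.node (.leaf 0) (.leaf 0)) (.node (.leaf 0) (.leaf 0)))) (.node (.node (.node (.leaf 49) (.leaf 0)) (.node (.leaf 0) (.leaf 0))) (.node (.node (.leaf 12) (.leaf 0)) (.leaf 0)))) (.node (.node (.node (.node (.leaf 43) (.leaf 0)) (.node (.leaf 108) (.leaf 0))) (.node (.node (.leaf 97) (.leaf 0)) (.node (.leaf 0) (.leaf 0)))) (.node (.node (.node (.leaf 0) (.leaf 0)) (.node (.leaf 58) (.leaf 0))) (.node (.node (.leaf 0) (.leaf 0)) (.leaf 0)))))) (.node (.node (.node (.node (.node (.node (.leaf 76) (.leaf 0)) (.node (.leaf 0) (.leaf 0))) (.node (.node (.leaf 0) (.leaf 0)) (.node (.leaf 0) (.leaf 0)))) (.node (.node (.node (.leaf 0) (.leaf 0)) (.node (.leaf 0) (.leaf 0))) (.node (.node (.leaf 0) (.leaf 0)) (.node (.leaf 0) (.leaf 0))))) (.node (.node (.node (.node (.leaf 113) (.leaf 0)) (.node (.leaf 4) (.leaf 0))) (.node (.node (.leaf 0) (.leaf 0)) (.node (.leaf 62) (.leaf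 15)))) (.node (.node (.node (.leaf 0) (.leaf 0)) (.node (.leaf 0) (.leaf 0))) (.node (.node (.leaf 0) (.leaf 0)) (.leaf 0))))) (.node (.node (.node (.node (.node (.leaf 5) (.leaf 39)) (.node (.leaf 0) (.leaf 0))) (.node (.node (.leaf 0) (.leaf 0)) (.node (.leaf 125) (.leaf 0)))) (.node (.node (.node (.leaf 0) (.leaf 0)) (.node (.leaf 0) (.leaf 0))) (.node (.node (.leaf 0) (.leaf 24)) (.leaf 0)))) (.node (.node (.node (.node (.leaf 26) (.leaf 0)) (.node (.leaf 0) (.leaf 25))) (.node (.node (.leaf 72) (.leaf 0)) (.node (.leaf 0) (.leaf 0)))) (.node (.node (.node (.leaf 0) (.leaf 0)) (.node (.leaf 77) (.leaf 0))) (.node (.node (.leaf 0) (.leaf 0)) (.leaf 0)))))))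

/-- Part of `posT`. -/
def posT_p010100 : Tr := .node (.node (.node (.node (.node (.node (.node (.node (.leaf 0) (.leaf 0)) (.node (.leaf 0) (.leaf 0))) (.node (.node (.leaf 0) (.leaf 8)) (.node (.leaf 0) (.leaf 0)))) (.node (.node (.node (.leaf 0) (.leaf 0)) (.node (.leaf 0) (.leaf 0))) (.node (.node (.leaf 70) (.leaf 78)) (.node (.leaf 0) (.leaf 49))))) (.node (.node (.node (.node (.leaf 5) (.leaf 0)) (.node (.leaf 0) (.leaf 0))) (.node (.node (.leaf 0) (.leaf 18)) (.node (.leaf 0) (.leaf 0)))) (.node (.node (.node (.leaf 0) (.leaf 0)) (.node (.leaf 78) (.leaf 110))) (.node (.node (.leaf 0) (.leaf 0)) (.leaf 32))))) (.node (.node (.node (.node (.node (.leaf 64) (.leaf 0)) (.node (.leaf 0) (.leaf 0))) (.node (.node (.leaf 0) (.leaf 41)) (.node (.leaf 0) (.leaf 12)))) (.node (.node (.node (.leaf 0) (.leaf 112)) (.node (.leaf 0) (.leaf 0))) (.node (.node (.leaf 0) (.leaf 0)) (.leaf 0)))) (.node (.node (.node (.node (.leaf 0) (.leaf 0))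 (.node (.leaf 0) (.leaf 0))) (.node (.node (.leaf 0) (.leaf 0)) (.node (.leaf 0) (.leaf 0)))) (.node (.node (.node (.leaf 82) (.leaf 0)) (.node (.leaf 0) (.leaf 115))) (.node (.node (.leaf 8) (.leaf 0)) (.leaf 0)))))) (.node (.node (.node (.node (.node (.node (.leaf 0) (.leaf 0)) (.node (.leaf 0) (.leaf 0))) (.node (.node (.leaf 0) (.leaf 0)) (.node (.leaf 33) (.leaf 54)))) (.node (.node (.node (.leaf 0) (.leaf 0)) (.node (.leaf 0) (.leaf 0))) (.node (.node (.leaf 0) (.leaf 0)) (.node (.leaf 0) (.leaf 0))))) (.node (.node (.node (.node (.leaf 0) (.leaf 0)) (.node (.leaf 0) (.leaf 68))) (.node (.node (.leaf 77) (.leaf 77)) (.node (.leaf 0) (.leaf 0)))) (.node (.node (.node (.leaf 0) (.leaf 0)) (.node (.leaf 70) (.leaf 125))) (.node (.node (.leaf 0) (.leaf 0)) (.leaf 0))))) (.node (.node (.node (.node (.node (.leaf 5) (.leaf 38)) (.node (.leaf 47) (.leaf 0))) (.node (.node (.leaf 0) (.leaf 119)) (.node (.leaf 0) (.leaf 0)))) (.node (.node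 (.node (.leaf 0) (.leaf 0)) (.node (.leaf 0) (.leaf 47))) (.node (.node (.leaf 0) (.leaf 0)) (.leaf 0)))) (.node (.node (.node (.node (.leaf 0) (.leaf 0)) (.node (.leaf 0) (.leaf 0))) (.node (.node (.leaf 0) (.leaf 0)) (.node (.leaf 8) (.leaf 0)))) (.node (.node (.node (.leaf 0) (.leaf 0)) (.node (.leaf 0) (.leaf 0))) (.node (.node (.leaf 0) (.leaf 0)) (.leaf 0))))))) (.node (.node (.node (.node (.node (.node (.node (.leaf 0) (.leaf 0)) (.node (.leaf 32) (.leaf 0))) (.node (.node (.leaf 15) (.leaf 0)) (.node (.leaf 0) (.leaf 47)))) (.node (.node (.node (.leaf 0) (.leaf 0)) (.node (.leaf 0) (.leaf 0))) (.node (.node (.leaf 0) (.leaf 0)) (.node (.leaf 0) (.leaf 0))))) (.node (.node (.node (.node (.leaf 90) (.leaf 0)) (.node (.leaf 88) (.leaf 19))) (.node (.node (.leaf 0) (.leaf 0)) (.node (.leaf 0) (.leaf 0)))) (.node (.node (.node (.leaf 0) (.leaf 0)) (.node (.leaf 0) (.leaf 0))) (.node (.node (.leaf 0) (.leaf 0)) (.leaf 0))))) (.node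 (.node (.node (.node (.node (.leaf 0) (.leaf 110)) (.node (.leaf 0) (.leaf 42))) (.node (.node (.leaf 0) (.leaf 0)) (.node (.leaf 0) (.leaf 0)))) (.node (.node (.node (.leaf 0) (.leaf 12)) (.node (.leaf 0) (.leaf 0))) (.node (.node (.leaf 41) (.leaf 60)) (.leaf 0)))) (.node (.node (.node (.node (.leaf 0) (.leaf 60)) (.node (.leaf 19) (.leaf 0))) (.node (.node (.leaf 14) (.leaf 0)) (.node (.leaf 0) (.leaf 103)))) (.node (.node (.node (.leaf 0) (.leaf 0)) (.node (.leaf 0) (.leaf 0))) (.node (.node (.leaf 0) (.leaf 0)) (.leaf 0)))))) (.node (.node (.node (.node (.node (.node (.leaf 0) (.leaf 0)) (.node (.leaf 22) (.leaf 0))) (.node (.node (.leaf 0) (.leaf 96)) (.node (.leaf 87) (.leaf 0)))) (.node (.node (.node (.leaf 0) (.leaf 0)) (.node (.leaf 24) (.leaf 0))) (.node (.node (.leaf 93) (.leaf 0)) (.node (.leaf 0) (.leaf 0))))) (.node (.node (.node (.node (.leaf 0) (.leaf 0)) (.node (.leaf 99) (.leaf 13))) (.node (.node (.leaf 0) (.leaf 0))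 (.node (.leaf 0) (.leaf 0)))) (.node (.node (.node (.leaf 0) (.leaf 0)) (.node (.leaf 40) (.leaf 0))) (.node (.node (.leaf 0) (.leaf 0)) (.leaf 34))))) (.node (.node (.node (.node (.node (.leaf 0) (.leaf 20)) (.node (.leaf 122) (.leaf 0))) (.node (.node (.leaf 57) (.leaf 0)) (.node (.leaf 0) (.leaf 0)))) (.node (.node (.node (.leaf 123) (.leaf 0)) (.node (.leaf 0) (.leaf 57))) (.node (.node (.leaf 0) (.leaf 0)) (.leaf 35)))) (.node (.node (.node (.node (.leaf 97) (.leaf 0)) (.node (.leaf 0) (.leaf 0))) (.node (.node (.leaf 117) (.leaf 56)) (.node (.leaf 75) (.leaf 0)))) (.node (.node (.node (.leaf 0) (.leaf 0)) (.node (.leaf 0) (.leaf 0))) (.node (.node (.leaf 0) (.leaf 97)) (.leaf 0)))))))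

/-- Part of `posT`. -/
def posT_p010101 : Tr := .node (.node (.node (.node (.node (.node (.node (.node (.leaf 0) (.leaf 0)) (.node (.leaf 0) (.leaf 0))) (.node (.node (.leaf 0) (.leaf 0)) (.node (.leaf 0) (.leaf 0)))) (.node (.node (.node (.leaf 123) (.leaf 0)) (.node (.leaf 0) (.leaf 0))) (.node (.node (.leaf 0) (.leaf 0)) (.node (.leaf 0) (.leaf 0))))) (.node (.node (.node (.node (.leaf 0) (.leaf 0)) (.node (.leaf 1) (.leaf 72))) (.node (.node (.leaf 0) (.leaf 0)) (.node (.leaf 94) (.leaf 0)))) (.node (.node (.node (.leaf 0) (.leaf 0)) (.node (.leaf 0) (.leaf 0))) (.node (.node (.leaf 0) (.leaf 0)) (.leaf 70))))) (.node (.node (.node (.node (.node (.leaf 111) (.leaf 0)) (.node (.leaf 7) (.leaf 29))) (.node (.node (.leaf 0) (.leaf 0)) (.node (.leaf 66) (.leaf 0)))) (.node (.node (.node (.leaf 16) (.leaf 0)) (.node (.leaf 0) (.leaf 0))) (.node (.node (.leaf 24) (.leaf 0)) (.leaf 0)))) (.node (.node (.node (.node (.leaf 63) (.leaf 0))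 (.node (.leaf 52) (.leaf 0))) (.node (.node (.leaf 0) (.leaf 0)) (.node (.leaf 0) (.leaf 0)))) (.node (.node (.node (.leaf 18) (.leaf 105)) (.node (.leaf 0) (.leaf 0))) (.node (.node (.leaf 0) (.leaf 0)) (.leaf 0)))))) (.node (.node (.node (.node (.node (.node (.leaf 0) (.leaf 0)) (.node (.leaf 34) (.leaf 0))) (.node (.node (.leaf 0) (.leaf 0)) (.node (.leaf 0) (.leaf 0)))) (.node (.node (.node (.leaf 0) (.leaf 62)) (.node (.leaf 0) (.leaf 0))) (.node (.node (.leaf 108) (.leaf 0)) (.node (.leaf 107) (.leaf 0))))) (.node (.node (.node (.node (.leaf 0) (.leaf 0)) (.node (.leaf 0) (.leaf 0))) (.node (.node (.leaf 0) (.leaf 0)) (.node (.leaf 22) (.leaf 119)))) (.node (.node (.node (.leaf 0) (.leaf 0)) (.node (.leaf 94) (.leaf 0))) (.node (.node (.leaf 98) (.leaf 0)) (.leaf 0))))) (.node (.node (.node (.node (.node (.leaf 0) (.leaf 75)) (.node (.leaf 0) (.leaf 0))) (.node (.node (.leaf 10) (.leaf 85)) (.node (.leaf 0) (.leaf 97)))) (.node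 (.node (.node (.leaf 0) (.leaf 45)) (.node (.leaf 102) (.leaf 0))) (.node (.node (.leaf 0) (.leaf 0)) (.leaf 0)))) (.node (.node (.node (.node (.leaf 0) (.leaf 0)) (.node (.leaf 0) (.leaf 0))) (.node (.node (.leaf 0) (.leaf 0)) (.node (.leaf 0) (.leaf 82)))) (.node (.node (.node (.leaf 0) (.leaf 0)) (.node (.leaf 0) (.leaf 1))) (.node (.node (.leaf 0) (.leaf 0)) (.leaf 0))))))) (.node (.node (.node (.node (.node (.node (.node (.leaf 64) (.leaf 0)) (.node (.leaf 0) (.leaf 0))) (.node (.node (.leaf 0) (.leaf 0)) (.node (.leaf 0) (.leaf 0)))) (.node (.node (.node (.leaf 0) (.leaf 0)) (.node (.leaf 0) (.leaf 0))) (.node (.node (.leaf 0) (.leaf 101)) (.node (.leaf 0) (.leaf 0))))) (.node (.node (.node (.node (.leaf 67) (.leaf 0)) (.node (.leaf 0) (.leaf 60))) (.node (.node (.leaf 0) (.leaf 0)) (.node (.leaf 0) (.leaf 16)))) (.node (.node (.node (.leaf 0) (.leaf 0)) (.node (.leaf 0) (.leaf 0))) (.node (.node (.leaf 0) (.leaf 62)) (.leaf 0)))))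 (.node (.node (.node (.node (.node (.leaf 0) (.leaf 0)) (.node (.leaf 0) (.leaf 0))) (.node (.node (.leaf 38) (.leaf 0)) (.node (.leaf 0) (.leaf 40)))) (.node (.node (.node (.leaf 32) (.leaf 0)) (.node (.leaf 0) (.leaf 0))) (.node (.node (.leaf 0) (.leaf 0)) (.leaf 101)))) (.node (.node (.node (.node (.leaf 0) (.leaf 0)) (.node (.leaf 0) (.leaf 0))) (.node (.node (.leaf 0) (.leaf 0)) (.node (.leaf 0) (.leaf 0)))) (.node (.node (.node (.leaf 0) (.leaf 0)) (.node (.leaf 50) (.leaf 0))) (.node (.node (.leaf 117) (.leaf 0)) (.leaf 0)))))) (.node (.node (.node (.node (.node (.node (.leaf 0) (.leaf 0)) (.node (.leaf 0) (.leaf 98))) (.node (.node (.leaf 0) (.leaf 0)) (.node (.leaf 0) (.leaf 0)))) (.node (.node (.node (.leaf 0) (.leaf 0)) (.node (.leaf 0) (.leaf 0))) (.node (.node (.leaf 0) (.leaf 0)) (.node (.leaf 0) (.leaf 0))))) (.node (.node (.node (.node (.leaf 0) (.leaf 0)) (.node (.leaf 0) (.leaf 0))) (.node (.node (.leaf 0) (.leaf 0))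 (.node (.leaf 7) (.leaf 97)))) (.node (.node (.node (.leaf 14) (.leaf 37)) (.node (.leaf 0) (.leaf 80))) (.node (.node (.leaf 0) (.leaf 0)) (.leaf 0))))) (.node (.node (.node (.node (.node (.leaf 64) (.leaf 49)) (.node (.leaf 0) (.leaf 44))) (.node (.node (.leaf 0) (.leaf 37)) (.node (.leaf 0) (.leaf 0)))) (.node (.node (.node (.leaf 0) (.leaf 0)) (.node (.leaf 0) (.leaf 100))) (.node (.node (.leaf 46) (.leaf 35)) (.leaf 0)))) (.node (.node (.node (.node (.leaf 0) (.leaf 0)) (.node (.leaf 0) (.leaf 9))) (.node (.node (.leaf 0) (.leaf 0)) (.node (.leaf 0) (.leaf 0)))) (.node (.node (.node (.leaf 0) (.leaf 0)) (.node (.leaf 0) (.leaf 0))) (.node (.node (.leaf 0) (.leaf 0)) (.leaf 37)))))))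

/-- Part of `posT`. -/
def posT_p010110 : Tr := .node (.node (.node (.node (.node (.node (.node (.node (.leaf 0) (.leaf 0)) (.node (.leaf 0) (.leaf 0))) (.node (.node (.leaf 6) (.leaf 0)) (.node (.leaf 0) (.leaf 0)))) (.node (.node (.node (.leaf 0) (.leaf 0)) (.node (.leaf 0) (.leaf 0))) (.node (.node (.leaf 100) (.leaf 0)) (.node (.leaf 0) (.leaf 0))))) (.node (.node (.node (.node (.leaf 76) (.leaf 0)) (.node (.leaf 0) (.leaf 50))) (.node (.node (.leaf 0) (.leaf 0)) (.node (.leaf 51) (.leaf 0)))) (.node (.node (.node (.leaf 0) (.leaf 13)) (.node (.leaf 0) (.leaf 0))) (.node (.node (.leaf 0) (.leaf 0)) (.leaf 0))))) (.node (.node (.node (.node (.node (.leaf 5) (.leaf 0)) (.node (.leaf 0) (.leaf 40))) (.node (.node (.leaf 0) (.leaf 0)) (.node (.leaf 73) (.leaf 0)))) (.node (.node (.node (.leaf 0) (.leaf 33)) (.node (.leaf 0) (.leaf 0))) (.node (.node (.leaf 0) (.leaf 0)) (.leaf 3)))) (.node (.node (.node (.node (.leaf 0) (.leaf 120))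 (.node (.leaf 0) (.leaf 0))) (.node (.node (.leaf 0) (.leaf 0)) (.node (.leaf 0) (.leaf 109)))) (.node (.node (.node (.leaf 0) (.leaf 98)) (.node (.leaf 32) (.leaf 0))) (.node (.node (.leaf 0) (.leaf 0)) (.leaf 0)))))) (.node (.node (.node (.node (.node (.node (.leaf 5) (.leaf 0)) (.node (.leaf 0) (.leaf 0))) (.node (.node (.leaf 0) (.leaf 0)) (.node (.leaf 112) (.leaf 104)))) (.node (.node (.node (.leaf 0) (.leaf 29)) (.node (.leaf 0) (.leaf 0))) (.node (.node (.leaf 118) (.leaf 0)) (.node (.leaf 0) (.leaf 54))))) (.node (.node (.node (.node (.leaf 114) (.leaf 0)) (.node (.leaf 41) (.leaf 52))) (.node (.node (.leaf 0) (.leaf 0)) (.node (.leaf 0) (.leaf 0)))) (.node (.node (.node (.leaf 0) (.leaf 0)) (.node (.leaf 0) (.leaf 39))) (.node (.node (.leaf 0) (.leaf 10)) (.leaf 0))))) (.node (.node (.node (.node (.node (.leaf 5) (.leaf 0)) (.node (.leaf 0) (.leaf 0))) (.node (.node (.leaf 0) (.leaf 0)) (.node (.leaf 0) (.leaf 0)))) (.node (.node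 (.node (.leaf 17) (.leaf 84)) (.node (.leaf 0) (.leaf 0))) (.node (.node (.leaf 0) (.leaf 0)) (.leaf 0)))) (.node (.node (.node (.node (.leaf 0) (.leaf 0)) (.node (.leaf 0) (.leaf 23))) (.node (.node (.leaf 83) (.leaf 0)) (.node (.leaf 0) (.leaf 0)))) (.node (.node (.node (.leaf 0) (.leaf 0)) (.node (.leaf 0) (.leaf 0))) (.node (.node (.leaf 0) (.leaf 0)) (.leaf 108))))))) (.node (.node (.node (.node (.node (.node (.node (.leaf 0) (.leaf 0)) (.node (.leaf 0) (.leaf 60))) (.node (.node (.leaf 0) (.leaf 0)) (.node (.leaf 0) (.leaf 0)))) (.node (.node (.node (.leaf 0) (.leaf 0)) (.node (.leaf 0) (.leaf 0))) (.node (.node (.leaf 42) (.leaf 0)) (.node (.leaf 0) (.leaf 20))))) (.node (.node (.node (.node (.leaf 0) (.leaf 0)) (.node (.leaf 113) (.leaf 0))) (.node (.node (.leaf 1) (.leaf 0)) (.node (.leaf 0) (.leaf 60)))) (.node (.node (.node (.leaf 0) (.leaf 0)) (.node (.leaf 21) (.leaf 0))) (.node (.node (.leaf 0) (.leaf 0)) (.leaf 0))))) (.node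 (.node (.node (.node (.node (.leaf 67) (.leaf 82)) (.node (.leaf 0) (.leaf 125))) (.node (.node (.leaf 32) (.leaf 0)) (.node (.leaf 0) (.leaf 86)))) (.node (.node (.node (.leaf 0) (.leaf 60)) (.node (.leaf 0) (.leaf 69))) (.node (.node (.leaf 0) (.leaf 0)) (.leaf 0)))) (.node (.node (.node (.node (.leaf 0) (.leaf 0)) (.node (.leaf 125) (.leaf 0))) (.node (.node (.leaf 0) (.leaf 0)) (.node (.leaf 60) (.leaf 0)))) (.node (.node (.node (.leaf 0) (.leaf 0)) (.node (.leaf 0) (.leaf 0))) (.node (.node (.leaf 0) (.leaf 0)) (.leaf 0)))))) (.node (.node (.node (.node (.node (.node (.leaf 0) (.leaf 0)) (.node (.leaf 0) (.leaf 0))) (.node (.node (.leaf 0) (.leaf 0)) (.node (.leaf 0) (.leaf 45)))) (.node (.node (.node (.leaf 0) (.leaf 87)) (.node (.leaf 0) (.leaf 27))) (.node (.node (.leaf 0) (.leaf 0)) (.node (.leaf 0) (.leaf 29))))) (.node (.node (.node (.node (.leaf 84) (.leaf 0)) (.node (.leaf 0) (.leaf 0))) (.node (.node (.leaf 0) (.leaf 74))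 (.node (.leaf 100) (.leaf 0)))) (.node (.node (.node (.leaf 0) (.leaf 0)) (.node (.leaf 0) (.leaf 0))) (.node (.node (.leaf 0) (.leaf 0)) (.leaf 50))))) (.node (.node (.node (.node (.node (.leaf 76) (.leaf 0)) (.node (.leaf 0) (.leaf 0))) (.node (.node (.leaf 0) (.leaf 0)) (.node (.leaf 0) (.leaf 17)))) (.node (.node (.node (.leaf 9) (.leaf 65)) (.node (.leaf 0) (.leaf 0))) (.node (.node (.leaf 66) (.leaf 120)) (.leaf 53)))) (.node (.node (.node (.node (.leaf 0) (.leaf 0)) (.node (.leaf 0) (.leaf 0))) (.node (.node (.leaf 0) (.leaf 0)) (.node (.leaf 0) (.leaf 0)))) (.node (.node (.node (.leaf 0) (.leaf 0)) (.node (.leaf 0) (.leaf 0))) (.node (.node (.leaf 0) (.leaf 1)) (.leaf 0)))))))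

/-- Part of `posT`. -/
def posT_p010111 : Tr := .node (.node (.node (.node (.node (.node (.node (.node (.leaf 0) (.leaf 0)) (.node (.leaf 0) (.leaf 0))) (.node (.node (.leaf 0) (.leaf 0)) (.node (.leaf 53) (.leaf 57)))) (.node (.node (.node (.leaf 0) (.leaf 44)) (.node (.leaf 0) (.leaf 0))) (.node (.node (.leaf 0) (.leaf 0)) (.node (.leaf 0) (.leaf 0))))) (.node (.node (.node (.node (.leaf 64) (.leaf 0)) (.node (.leaf 0) (.leaf 0))) (.node (.node (.leaf 0) (.leaf 27)) (.node (.leaf 0) (.leaf 116)))) (.node (.node (.node (.leaf 0) (.leaf 0)) (.node (.leaf 23) (.leaf 0))) (.node (.node (.leaf 0) (.leaf 0)) (.leaf 0))))) (.node (.node (.node (.node (.node (.leaf 0) (.leaf 0)) (.node (.leaf 104) (.leaf 0))) (.node (.node (.leaf 0) (.leaf 0)) (.node (.leaf 0) (.leaf 4)))) (.node (.node (.node (.leaf 0) (.leaf 0)) (.node (.leaf 0) (.leaf 0))) (.node (.node (.leaf 0) (.leaf 0)) (.leaf 0)))) (.node (.node (.node (.node (.leaf 0) (.leaf 0)) (.node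 (.leaf 0) (.leaf 10))) (.node (.node (.leaf 0) (.leaf 122)) (.node (.leaf 10) (.leaf 0)))) (.node (.node (.node (.leaf 0) (.leaf 56)) (.node (.leaf 0) (.leaf 21))) (.node (.node (.leaf 0) (.leaf 0)) (.leaf 0)))))) (.node (.node (.node (.node (.node (.node (.leaf 64) (.leaf 0)) (.node (.leaf 83) (.leaf 0))) (.node (.node (.leaf 0) (.leaf 11)) (.node (.leaf 0) (.leaf 0)))) (.node (.node (.node (.leaf 116) (.leaf 0)) (.node (.leaf 0) (.leaf 0))) (.node (.node (.leaf 0) (.leaf 0)) (.node (.leaf 0) (.leaf 0))))) (.node (.node (.node (.node (.leaf 0) (.leaf 0)) (.node (.leaf 0) (.leaf 0))) (.node (.node (.leaf 0) (.leaf 0)) (.node (.leaf 85) (.leaf 0)))) (.node (.node (.node (.leaf 0) (.leaf 0)) (.node (.leaf 0) (.leaf 0))) (.node (.node (.leaf 0) (.leaf 0)) (.leaf 0))))) (.node (.node (.node (.node (.node (.leaf 0) (.leaf 0)) (.node (.leaf 0) (.leaf 80))) (.node (.node (.leaf 21) (.leaf 0)) (.node (.leaf 0) (.leaf 0)))) (.node (.node (.node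 (.leaf 0) (.leaf 0)) (.node (.leaf 45) (.leaf 0))) (.node (.node (.leaf 0) (.leaf 0)) (.leaf 0)))) (.node (.node (.node (.node (.leaf 0) (.leaf 0)) (.node (.leaf 0) (.leaf 0))) (.node (.node (.leaf 0) (.leaf 0)) (.node (.leaf 0) (.leaf 0)))) (.node (.node (.node (.leaf 0) (.leaf 75)) (.node (.leaf 0) (.leaf 0))) (.node (.node (.leaf 0) (.leaf 32)) (.leaf 0))))))) (.node (.node (.node (.node (.node (.node (.node (.leaf 0) (.leaf 0)) (.node (.leaf 0) (.leaf 0))) (.node (.node (.leaf 54) (.leaf 0)) (.node (.leaf 57) (.leaf 0)))) (.node (.node (.node (.leaf 0) (.leaf 0)) (.node (.leaf 0) (.leaf 0))) (.node (.node (.leaf 29) (.leaf 0)) (.node (.leaf 0) (.leaf 0))))) (.node (.node (.node (.node (.leaf 62) (.leaf 0)) (.node (.leaf 0) (.leaf 0))) (.node (.node (.leaf 96) (.leaf 0)) (.node (.leaf 107) (.leaf 0)))) (.node (.node (.node (.leaf 0) (.leaf 8)) (.node (.leaf 0) (.leaf 0))) (.node (.node (.leaf 0) (.leaf 98)) (.leaf 0))))) (.node (.node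 (.node (.node (.node (.leaf 0) (.leaf 95)) (.node (.leaf 50) (.leaf 120))) (.node (.node (.leaf 0) (.leaf 0)) (.node (.leaf 0) (.leaf 0)))) (.node (.node (.node (.leaf 0) (.leaf 0)) (.node (.leaf 0) (.leaf 0))) (.node (.node (.leaf 0) (.leaf 0)) (.leaf 0)))) (.node (.node (.node (.node (.leaf 118) (.leaf 0)) (.node (.leaf 0) (.leaf 0))) (.node (.node (.leaf 0) (.leaf 0)) (.node (.leaf 0) (.leaf 0)))) (.node (.node (.node (.leaf 0) (.leaf 0)) (.node (.leaf 0) (.leaf 0))) (.node (.node (.leaf 0) (.leaf 0)) (.leaf 77)))))) (.node (.node (.node (.node (.node (.node (.leaf 0) (.leaf 0)) (.node (.leaf 112) (.leaf 108))) (.node (.node (.leaf 0) (.leaf 0)) (.node (.leaf 0) (.leaf 0)))) (.node (.node (.node (.leaf 0) (.leaf 0)) (.node (.leaf 0) (.leaf 0))) (.node (.node (.leaf 0) (.leaf 0)) (.node (.leaf 0) (.leaf 16))))) (.node (.node (.node (.node (.leaf 117) (.leaf 0)) (.node (.leaf 0) (.leaf 8))) (.node (.node (.leaf 0) (.leaf 0)) (.node (.leaf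 0) (.leaf 44)))) (.node (.node (.node (.leaf 0) (.leaf 110)) (.node (.leaf 0) (.leaf 0))) (.node (.node (.leaf 0) (.leaf 0)) (.leaf 61))))) (.node (.node (.node (.node (.node (.leaf 0) (.leaf 32)) (.node (.leaf 11) (.leaf 0))) (.node (.node (.leaf 0) (.leaf 0)) (.node (.leaf 1) (.leaf 0)))) (.node (.node (.node (.leaf 34) (.leaf 81)) (.node (.leaf 7) (.leaf 0))) (.node (.node (.leaf 0) (.leaf 0)) (.leaf 0)))) (.node (.node (.node (.node (.leaf 0) (.leaf 0)) (.node (.leaf 0) (.leaf 35))) (.node (.node (.leaf 0) (.leaf 0)) (.node (.leaf 0) (.leaf 0)))) (.node (.node (.node (.leaf 0) (.leaf 0)) (.node (.leaf 0) (.leaf 0))) (.node (.node (.leaf 0) (.leaf 0)) (.leaf 0)))))))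

/-- Part of `posT`. -/
def posT_p011000 : Tr := .node (.node (.node (.node (.node (.node (.node (.node (.leaf 0) (.leaf 0)) (.node (.leaf 0) (.leaf 0))) (.node (.node (.leaf 0) (.leaf 0)) (.node (.leaf 0) (.leaf 38)))) (.node (.node (.node (.leaf 0) (.leaf 0)) (.node (.leaf 0) (.leaf 0))) (.node (.node (.leaf 0) (.leaf 0)) (.node (.leaf 16) (.leaf 26))))) (.node (.node (.node (.node (.leaf 0) (.leaf 46)) (.node (.leaf 0) (.leaf 0))) (.node (.node (.leaf 0) (.leaf 0)) (.node (.leaf 0) (.leaf 0)))) (.node (.node (.node (.leaf 0) (.leaf 0)) (.node (.leaf 119) (.leaf 0))) (.node (.node (.leaf 0) (.leaf 0)) (.leaf 0))))) (.node (.node (.node (.node (.node (.leaf 0) (.leaf 0)) (.node (.leaf 95) (.leaf 0))) (.node (.node (.leaf 0) (.leaf 25)) (.node (.leaf 96) (.leaf 0)))) (.node (.node (.node (.leaf 0) (.leaf 0)) (.node (.leaf 0) (.leaf 0))) (.node (.node (.leaf 0) (.leaf 31)) (.node (.leaf 0) (.leaf 93))))) (.node (.node (.node (.node (.leaf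 0) (.leaf 0)) (.node (.leaf 0) (.leaf 0))) (.node (.node (.leaf 0) (.leaf 0)) (.node (.leaf 59) (.leaf 0)))) (.node (.node (.node (.leaf 106) (.leaf 0)) (.node (.leaf 0) (.leaf 0))) (.node (.node (.leaf 0) (.leaf 0)) (.leaf 0)))))) (.node (.node (.node (.node (.node (.node (.leaf 0) (.leaf 0)) (.node (.leaf 59) (.leaf 0))) (.node (.node (.leaf 0) (.leaf 71)) (.node (.leaf 0) (.leaf 0)))) (.node (.node (.node (.leaf 0) (.leaf 0)) (.node (.leaf 19) (.leaf 0))) (.node (.node (.leaf 0) (.leaf 0)) (.node (.leaf 0) (.leaf 96))))) (.node (.node (.node (.node (.leaf 98) (.leaf 0)) (.node (.leaf 0) (.leaf 0))) (.node (.node (.leaf 0) (.leaf 0)) (.node (.leaf 0) (.leaf 0)))) (.node (.node (.node (.leaf 116) (.leaf 0)) (.node (.leaf 59) (.leaf 0))) (.node (.node (.leaf 0) (.leaf 0)) (.leaf 69))))) (.node (.node (.node (.node (.node (.leaf 0) (.leaf 0)) (.node (.leaf 0) (.leaf 0))) (.node (.node (.leaf 0) (.leaf 0)) (.node (.leaf 0) (.leaf 0))))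 (.node (.node (.node (.leaf 0) (.leaf 55)) (.node (.leaf 0) (.leaf 51))) (.node (.node (.leaf 55) (.leaf 75)) (.leaf 0)))) (.node (.node (.node (.node (.leaf 0) (.leaf 0)) (.node (.leaf 0) (.leaf 37))) (.node (.node (.leaf 0) (.leaf 121)) (.node (.leaf 0) (.leaf 0)))) (.node (.node (.node (.leaf 0) (.leaf 34)) (.node (.leaf 0) (.leaf 0))) (.node (.node (.leaf 92) (.leaf 0)) (.leaf 0))))))) (.node (.node (.node (.node (.node (.node (.node (.leaf 0) (.leaf 31)) (.node (.leaf 102) (.leaf 0))) (.node (.node (.leaf 0) (.leaf 0)) (.node (.leaf 0) (.leaf 0)))) (.node (.node (.node (.leaf 66) (.leaf 58)) (.node (.leaf 0) (.leaf 0))) (.node (.node (.leaf 0) (.leaf 0)) (.node (.leaf 0) (.leaf 0))))) (.node (.node (.node (.node (.leaf 0) (.leaf 0)) (.node (.leaf 0) (.leaf 0))) (.node (.node (.leaf 0) (.leaf 50)) (.node (.leaf 0) (.leaf 0)))) (.node (.node (.node (.leaf 0) (.leaf 0)) (.node (.leaf 0) (.leaf 0))) (.node (.node (.leaf 0) (.leaf 0))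 (.leaf 0))))) (.node (.node (.node (.node (.node (.leaf 0) (.leaf 0)) (.node (.leaf 124) (.leaf 0))) (.node (.node (.leaf 0) (.leaf 0)) (.node (.leaf 0) (.leaf 0)))) (.node (.node (.node (.leaf 20) (.leaf 0)) (.node (.leaf 0) (.leaf 0))) (.node (.node (.leaf 0) (.leaf 0)) (.leaf 24)))) (.node (.node (.node (.node (.leaf 0) (.leaf 0)) (.node (.leaf 0) (.leaf 57))) (.node (.node (.leaf 0) (.leaf 0)) (.node (.leaf 0) (.leaf 0)))) (.node (.node (.node (.leaf 0) (.leaf 0)) (.node (.leaf 0) (.leaf 3))) (.node (.node (.leaf 122) (.leaf 0)) (.leaf 0)))))) (.node (.node (.node (.node (.node (.node (.leaf 0) (.leaf 70)) (.node (.leaf 0) (.leaf 80))) (.node (.node (.leaf 0) (.leaf 77)) (.node (.leaf 0) (.leaf 43)))) (.node (.node (.node (.leaf 11) (.leaf 0)) (.node (.leaf 0) (.leaf 0))) (.node (.node (.leaf 0) (.leaf 0)) (.node (.leaf 0) (.leaf 0))))) (.node (.node (.node (.node (.leaf 0) (.leaf 0)) (.node (.leaf 0) (.leaf 0))) (.node (.node (.leaf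 49) (.leaf 0)) (.node (.leaf 0) (.leaf 0)))) (.node (.node (.node (.leaf 0) (.leaf 44)) (.node (.leaf 0) (.leaf 0))) (.node (.node (.leaf 0) (.leaf 0)) (.leaf 0))))) (.node (.node (.node (.node (.node (.leaf 0) (.leaf 0)) (.node (.leaf 0) (.leaf 0))) (.node (.node (.leaf 78) (.leaf 0)) (.node (.leaf 53) (.leaf 0)))) (.node (.node (.node (.leaf 0) (.leaf 0)) (.node (.leaf 0) (.leaf 62))) (.node (.node (.leaf 0) (.leaf 0)) (.leaf 0)))) (.node (.node (.node (.node (.leaf 91) (.leaf 0)) (.node (.leaf 0) (.leaf 0))) (.node (.node (.leaf 0) (.leaf 0)) (.node (.leaf 0) (.leaf 0)))) (.node (.node (.node (.leaf 0) (.leaf 0)) (.node (.leaf 0) (.leaf 89))) (.node (.node (.leaf 0) (.leaf 0)) (.leaf 78)))))))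

/-- Part of `posT`. -/
def posT_p011001 : Tr := .node (.node (.node (.node (.node (.node (.node (.node (.leaf 0) (.leaf 23)) (.node (.leaf 124) (.leaf 27))) (.node (.node (.leaf 0) (.leaf 36)) (.node (.leaf 0) (.leaf 109)))) (.node (.node (.node (.leaf 0) (.leaf 0)) (.node (.leaf 0) (.leaf 0))) (.node (.node (.leaf 0) (.leaf 0)) (.node (.leaf 0) (.leaf 0))))) (.node (.node (.node (.node (.leaf 0) (.leaf 0)) (.node (.leaf 0) (.leaf 109))) (.node (.node (.leaf 0) (.leaf 0)) (.node (.leaf 0) (.leaf 0)))) (.node (.node (.node (.leaf 0) (.leaf 0)) (.node (.leaf 0) (.leaf 0))) (.node (.node (.leaf 0) (.leaf 0)) (.leaf 0))))) (.node (.node (.node (.node (.node (.leaf 0) (.leaf 0)) (.node (.leaf 0) (.leaf 0))) (.node (.node (.leaf 0) (.leaf 0)) (.node (.leaf 36) (.leaf 0)))) (.node (.node (.node (.leaf 0) (.leaf 0)) (.node (.leaf 0) (.leaf 0))) (.node (.node (.leaf 124) (.leaf 0)) (.leaf 0)))) (.node (.node (.node (.node (.leaf 0) (.leaf 0))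 (.node (.leaf 59) (.leaf 0))) (.node (.node (.leaf 121) (.leaf 0)) (.node (.leaf 0) (.leaf 0)))) (.node (.node (.node (.leaf 0) (.leaf 7)) (.node (.leaf 0) (.leaf 0))) (.node (.node (.leaf 0) (.leaf 0)) (.leaf 0)))))) (.node (.node (.node (.node (.node (.node (.leaf 0) (.leaf 0)) (.node (.leaf 0) (.leaf 0))) (.node (.node (.leaf 0) (.leaf 69)) (.node (.leaf 0) (.leaf 0)))) (.node (.node (.node (.leaf 54) (.leaf 0)) (.node (.leaf 0) (.leaf 0))) (.node (.node (.leaf 87) (.leaf 0)) (.node (.leaf 0) (.leaf 0))))) (.node (.node (.node (.node (.leaf 0) (.leaf 0)) (.node (.leaf 0) (.leaf 0))) (.node (.node (.leaf 0) (.leaf 29)) (.node (.leaf 0) (.leaf 0)))) (.node (.node (.node (.leaf 0) (.leaf 0)) (.node (.leaf 28) (.leaf 0))) (.node (.node (.leaf 0) (.leaf 0)) (.leaf 0))))) (.node (.node (.node (.node (.node (.leaf 90) (.leaf 0)) (.node (.leaf 0) (.leaf 0))) (.node (.node (.leaf 0) (.leaf 0)) (.node (.leaf 0) (.leaf 0)))) (.node (.node (.node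 (.leaf 31) (.leaf 125)) (.node (.leaf 0) (.leaf 0))) (.node (.node (.leaf 0) (.leaf 19)) (.leaf 0)))) (.node (.node (.node (.node (.leaf 0) (.leaf 0)) (.node (.leaf 0) (.leaf 22))) (.node (.node (.leaf 0) (.leaf 0)) (.node (.leaf 0) (.leaf 0)))) (.node (.node (.node (.leaf 16) (.leaf 0)) (.node (.leaf 0) (.leaf 0))) (.node (.node (.leaf 2) (.leaf 0)) (.leaf 0))))))) (.node (.node (.node (.node (.node (.node (.node (.leaf 76) (.leaf 0)) (.node (.leaf 0) (.leaf 0))) (.node (.node (.leaf 0) (.leaf 70)) (.node (.leaf 0) (.leaf 0)))) (.node (.node (.node (.leaf 40) (.leaf 0)) (.node (.leaf 0) (.leaf 87))) (.node (.node (.leaf 0) (.leaf 41)) (.node (.leaf 0) (.leaf 0))))) (.node (.node (.node (.node (.leaf 0) (.leaf 0)) (.node (.leaf 31) (.leaf 22))) (.node (.node (.leaf 0) (.leaf 0)) (.node (.leaf 0) (.leaf 0)))) (.node (.node (.node (.leaf 0) (.leaf 0)) (.node (.leaf 0) (.leaf 91))) (.node (.node (.leaf 0) (.leaf 0)) (.leaf 0))))) (.node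 (.node (.node (.node (.node (.leaf 90) (.leaf 0)) (.node (.leaf 0) (.leaf 45))) (.node (.node (.leaf 0) (.leaf 0)) (.node (.leaf 0) (.leaf 0)))) (.node (.node (.node (.leaf 0) (.leaf 0)) (.node (.leaf 0) (.leaf 0))) (.node (.node (.leaf 0) (.leaf 0)) (.leaf 0)))) (.node (.node (.node (.node (.leaf 0) (.leaf 102)) (.node (.leaf 0) (.leaf 0))) (.node (.node (.leaf 120) (.leaf 0)) (.node (.leaf 0) (.leaf 79)))) (.node (.node (.node (.leaf 0) (.leaf 124)) (.node (.leaf 0) (.leaf 103))) (.node (.node (.leaf 0) (.leaf 0)) (.leaf 0)))))) (.node (.node (.node (.node (.node (.node (.leaf 0) (.leaf 0)) (.node (.leaf 0) (.leaf 0))) (.node (.node (.leaf 0) (.leaf 0)) (.node (.leaf 0) (.leaf 0)))) (.node (.node (.node (.leaf 119) (.leaf 108)) (.node (.leaf 3) (.leaf 0))) (.node (.node (.leaf 0) (.leaf 0)) (.node (.leaf 0) (.leaf 0))))) (.node (.node (.node (.node (.leaf 0) (.leaf 0)) (.node (.leaf 0) (.leaf 24))) (.node (.node (.leaf 0) (.leaf 0))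 (.node (.leaf 0) (.leaf 0)))) (.node (.node (.node (.leaf 89) (.leaf 0)) (.node (.leaf 0) (.leaf 0))) (.node (.node (.leaf 0) (.leaf 36)) (.leaf 0))))) (.node (.node (.node (.node (.node (.leaf 0) (.leaf 0)) (.node (.leaf 0) (.leaf 0))) (.node (.node (.leaf 0) (.leaf 0)) (.node (.leaf 0) (.leaf 58)))) (.node (.node (.node (.leaf 0) (.leaf 0)) (.node (.leaf 68) (.leaf 17))) (.node (.node (.leaf 0) (.leaf 0)) (.leaf 0)))) (.node (.node (.node (.node (.leaf 0) (.leaf 0)) (.node (.leaf 0) (.leaf 0))) (.node (.node (.leaf 0) (.leaf 0)) (.node (.leaf 0) (.leaf 0)))) (.node (.node (.node (.leaf 0) (.leaf 0)) (.node (.leaf 0) (.leaf 0))) (.node (.node (.leaf 0) (.leaf 0)) (.leaf 36)))))))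

/-- Part of `posT`. -/
def posT_p011010 : Tr := .node (.node (.node (.node (.node (.node (.node (.node (.leaf 0) (.leaf 0)) (.node (.leaf 0) (.leaf 0))) (.node (.node (.leaf 0) (.leaf 0)) (.node (.leaf 0) (.leaf 0)))) (.node (.node (.node (.leaf 0) (.leaf 0)) (.node (.leaf 0) (.leaf 113))) (.node (.node (.leaf 0) (.leaf 91)) (.node (.leaf 0) (.leaf 0))))) (.node (.node (.node (.node (.leaf 0) (.leaf 0)) (.node (.leaf 0) (.leaf 0))) (.node (.node (.leaf 0) (.leaf 0)) (.node (.leaf 0) (.leaf 0)))) (.node (.node (.node (.leaf 0) (.leaf 0)) (.node (.leaf 0) (.leaf 116))) (.node (.node (.leaf 91) (.leaf 0)) (.leaf 0))))) (.node (.node (.node (.node (.node (.leaf 0) (.leaf 93)) (.node (.leaf 0) (.leaf 112))) (.node (.node (.leaf 0) (.leaf 0)) (.node (.leaf 0) (.leaf 0)))) (.node (.node (.node (.leaf 0) (.leaf 0)) (.node (.leaf 0) (.leaf 0))) (.node (.node (.leaf 0) (.leaf 10)) (.leaf 0)))) (.node (.node (.node (.node (.leaf 0) (.leaf 0)) (.node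 (.leaf 0) (.leaf 0))) (.node (.node (.leaf 0) (.leaf 0)) (.node (.leaf 0) (.leaf 0)))) (.node (.node (.node (.leaf 0) (.leaf 0)) (.node (.leaf 0) (.leaf 0))) (.node (.node (.leaf 0) (.leaf 0)) (.leaf 0)))))) (.node (.node (.node (.node (.node (.node (.leaf 0) (.leaf 0)) (.node (.leaf 0) (.leaf 0))) (.node (.node (.leaf 0) (.leaf 0)) (.node (.leaf 0) (.leaf 0)))) (.node (.node (.node (.leaf 0) (.leaf 113)) (.node (.leaf 0) (.leaf 0))) (.node (.node (.leaf 0) (.leaf 0)) (.node (.leaf 49) (.leaf 0))))) (.node (.node (.node (.node (.leaf 0) (.leaf 105)) (.node (.leaf 0) (.leaf 0))) (.node (.node (.leaf 54) (.leaf 0)) (.node (.leaf 0) (.leaf 0)))) (.node (.node (.node (.leaf 0) (.leaf 0)) (.node (.leaf 15) (.leaf 0))) (.node (.node (.leaf 0) (.leaf 0)) (.leaf 36))))) (.node (.node (.node (.node (.node (.leaf 0) (.leaf 0)) (.node (.leaf 0) (.leaf 0))) (.node (.node (.leaf 0) (.leaf 78)) (.node (.leaf 0) (.leaf 0)))) (.node (.node (.node (.leaf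 0) (.leaf 0)) (.node (.leaf 0) (.leaf 0))) (.node (.node (.leaf 22) (.leaf 0)) (.leaf 0)))) (.node (.node (.node (.node (.leaf 124) (.leaf 0)) (.node (.leaf 62) (.leaf 0))) (.node (.node (.leaf 60) (.leaf 0)) (.node (.leaf 0) (.leaf 0)))) (.node (.node (.node (.leaf 0) (.leaf 91)) (.node (.leaf 0) (.leaf 0))) (.node (.node (.leaf 36) (.leaf 0)) (.leaf 0))))))) (.node (.node (.node (.node (.node (.node (.node (.leaf 0) (.leaf 0)) (.node (.leaf 0) (.leaf 122))) (.node (.node (.leaf 103) (.leaf 59)) (.node (.leaf 0) (.leaf 94)))) (.node (.node (.node (.leaf 0) (.leaf 0)) (.node (.leaf 0) (.leaf 0))) (.node (.node (.leaf 0) (.leaf 0)) (.node (.leaf 0) (.leaf 0))))) (.node (.node (.node (.node (.leaf 0) (.leaf 0)) (.node (.leaf 0) (.leaf 0))) (.node (.node (.leaf 0) (.leaf 0)) (.node (.leaf 0) (.leaf 0)))) (.node (.node (.node (.leaf 0) (.leaf 0)) (.node (.leaf 0) (.leaf 0))) (.node (.node (.leaf 80) (.leaf 0)) (.leaf 0))))) (.node (.node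 (.node (.node (.node (.leaf 0) (.leaf 0)) (.node (.leaf 0) (.leaf 0))) (.node (.node (.leaf 0) (.leaf 0)) (.node (.leaf 0) (.leaf 0)))) (.node (.node (.node (.leaf 0) (.leaf 0)) (.node (.leaf 0) (.leaf 0))) (.node (.node (.leaf 0) (.leaf 0)) (.leaf 0)))) (.node (.node (.node (.node (.leaf 0) (.leaf 23)) (.node (.leaf 0) (.leaf 119))) (.node (.node (.leaf 0) (.leaf 97)) (.node (.leaf 0) (.leaf 0)))) (.node (.node (.node (.leaf 0) (.leaf 47)) (.node (.leaf 0) (.leaf 0))) (.node (.node (.leaf 0) (.leaf 0)) (.leaf 0)))))) (.node (.node (.node (.node (.node (.node (.leaf 111) (.leaf 0)) (.node (.leaf 0) (.leaf 0))) (.node (.node (.leaf 0) (.leaf 32)) (.node (.leaf 29) (.leaf 0)))) (.node (.node (.node (.leaf 0) (.leaf 0)) (.node (.leaf 0) (.leaf 0))) (.node (.node (.leaf 17) (.leaf 0)) (.node (.leaf 0) (.leaf 65))))) (.node (.node (.node (.node (.leaf 0) (.leaf 0)) (.node (.leaf 6) (.leaf 0))) (.node (.node (.leaf 0) (.leaf 125)) (.node (.leaf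 0) (.leaf 0)))) (.node (.node (.node (.leaf 0) (.leaf 28)) (.node (.leaf 86) (.leaf 0))) (.node (.node (.leaf 0) (.leaf 0)) (.leaf 0))))) (.node (.node (.node (.node (.node (.leaf 0) (.leaf 0)) (.node (.leaf 0) (.leaf 0))) (.node (.node (.leaf 0) (.leaf 0)) (.node (.leaf 0) (.leaf 0)))) (.node (.node (.node (.leaf 0) (.leaf 0)) (.node (.leaf 0) (.leaf 31))) (.node (.node (.leaf 0) (.leaf 0)) (.leaf 124)))) (.node (.node (.node (.node (.leaf 0) (.leaf 84)) (.node (.leaf 100) (.leaf 77))) (.node (.node (.leaf 0) (.leaf 107)) (.node (.leaf 0) (.leaf 0)))) (.node (.node (.node (.leaf 0) (.leaf 0)) (.node (.leaf 0) (.leaf 0))) (.node (.node (.leaf 0) (.leaf 44)) (.leaf 0)))))))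

/-- Part of `posT`. -/
def posT_p011011 : Tr := .node (.node (.node (.node (.node (.node (.node (.node (.leaf 67) (.leaf 0)) (.node (.leaf 0) (.leaf 50))) (.node (.node (.leaf 0) (.leaf 0)) (.node (.leaf 0) (.leaf 0)))) (.node (.node (.node (.leaf 0) (.leaf 0)) (.node (.leaf 72) (.leaf 0))) (.node (.node (.leaf 0) (.leaf 0)) (.node (.leaf 0) (.leaf 118))))) (.node (.node (.node (.node (.leaf 111) (.leaf 7)) (.node (.leaf 0) (.leaf 0))) (.node (.node (.leaf 114) (.leaf 0)) (.node (.leaf 65) (.leaf 48)))) (.node (.node (.node (.leaf 0) (.leaf 0)) (.node (.leaf 0) (.leaf 0))) (.node (.node (.leaf 0) (.leaf 0)) (.leaf 0))))) (.node (.node (.node (.node (.node (.leaf 0) (.leaf 0)) (.node (.leaf 0) (.leaf 0))) (.node (.node (.leaf 0) (.leaf 4)) (.node (.leaf 44) (.leaf 0)))) (.node (.node (.node (.leaf 0) (.leaf 0)) (.node (.leaf 0) (.leaf 0))) (.node (.node (.leaf 0) (.leaf 0)) (.leaf 0)))) (.node (.node (.node (.node (.leaf 59) (.leaf 0))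 (.node (.leaf 0) (.leaf 0))) (.node (.node (.leaf 0) (.leaf 0)) (.node (.leaf 31) (.leaf 74)))) (.node (.node (.node (.leaf 99) (.leaf 55)) (.node (.leaf 0) (.leaf 0))) (.node (.node (.leaf 55) (.leaf 0)) (.leaf 0)))))) (.node (.node (.node (.node (.node (.node (.leaf 0) (.leaf 0)) (.node (.leaf 0) (.leaf 0))) (.node (.node (.leaf 116) (.leaf 0)) (.node (.leaf 0) (.leaf 0)))) (.node (.node (.node (.leaf 0) (.leaf 0)) (.node (.leaf 0) (.leaf 54))) (.node (.node (.leaf 0) (.leaf 0)) (.node (.leaf 0) (.leaf 0))))) (.node (.node (.node (.node (.leaf 0) (.leaf 0)) (.node (.leaf 0) (.leaf 0))) (.node (.node (.leaf 0) (.leaf 0)) (.node (.leaf 61) (.leaf 0)))) (.node (.node (.node (.leaf 0) (.leaf 0)) (.node (.leaf 0) (.leaf 0))) (.node (.node (.leaf 0) (.leaf 0)) (.leaf 88))))) (.node (.node (.node (.node (.node (.leaf 0) (.leaf 0)) (.node (.leaf 39) (.leaf 0))) (.node (.node (.leaf 0) (.leaf 0)) (.node (.leaf 124) (.leaf 0)))) (.node (.node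 (.node (.leaf 0) (.leaf 0)) (.node (.leaf 0) (.leaf 0))) (.node (.node (.leaf 0) (.leaf 0)) (.leaf 0)))) (.node (.node (.node (.node (.leaf 0) (.leaf 0)) (.node (.leaf 0) (.leaf 0))) (.node (.node (.leaf 0) (.leaf 43)) (.node (.leaf 0) (.leaf 100)))) (.node (.node (.node (.leaf 0) (.leaf 88)) (.node (.leaf 0) (.leaf 0))) (.node (.node (.leaf 0) (.leaf 0)) (.leaf 0))))))) (.node (.node (.node (.node (.node (.node (.node (.leaf 0) (.leaf 55)) (.node (.leaf 0) (.leaf 0))) (.node (.node (.leaf 55) (.leaf 0)) (.node (.leaf 0) (.leaf 0)))) (.node (.node (.node (.leaf 30) (.leaf 0)) (.node (.leaf 0) (.leaf 0))) (.node (.node (.leaf 0) (.leaf 0)) (.node (.leaf 0) (.leaf 0))))) (.node (.node (.node (.node (.leaf 0) (.leaf 0)) (.node (.leaf 0) (.leaf 0))) (.node (.node (.leaf 0) (.leaf 0)) (.node (.leaf 0) (.leaf 0)))) (.node (.node (.node (.leaf 0) (.leaf 0)) (.node (.leaf 0) (.leaf 97))) (.node (.node (.leaf 0) (.leaf 0)) (.leaf 0))))) (.node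 (.node (.node (.node (.node (.leaf 0) (.leaf 45)) (.node (.leaf 0) (.leaf 0))) (.node (.node (.leaf 25) (.leaf 86)) (.node (.leaf 93) (.leaf 18)))) (.node (.node (.node (.leaf 0) (.leaf 0)) (.node (.leaf 0) (.leaf 0))) (.node (.node (.leaf 0) (.leaf 0)) (.leaf 0)))) (.node (.node (.node (.node (.leaf 0) (.leaf 0)) (.node (.leaf 0) (.leaf 0))) (.node (.node (.leaf 0) (.leaf 58)) (.node (.leaf 94) (.leaf 0)))) (.node (.node (.node (.leaf 0) (.leaf 0)) (.node (.leaf 31) (.leaf 30))) (.node (.node (.leaf 0) (.leaf 0)) (.leaf 0)))))) (.node (.node (.node (.node (.node (.node (.leaf 0) (.leaf 0)) (.node (.leaf 0) (.leaf 0))) (.node (.node (.leaf 12) (.leaf 0)) (.node (.leaf 0) (.leaf 0)))) (.node (.node (.node (.leaf 0) (.leaf 0)) (.node (.leaf 0) (.leaf 0))) (.node (.node (.leaf 0) (.leaf 109)) (.node (.leaf 30) (.leaf 0))))) (.node (.node (.node (.node (.leaf 0) (.leaf 4)) (.node (.leaf 0) (.leaf 0))) (.node (.node (.leaf 0) (.leaf 0)) (.node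 (.leaf 0) (.leaf 0)))) (.node (.node (.node (.leaf 91) (.leaf 0)) (.node (.leaf 6) (.leaf 0))) (.node (.node (.leaf 0) (.leaf 0)) (.leaf 0))))) (.node (.node (.node (.node (.node (.leaf 0) (.leaf 0)) (.node (.leaf 0) (.leaf 0))) (.node (.node (.leaf 0) (.leaf 0)) (.node (.leaf 0) (.leaf 0)))) (.node (.node (.node (.leaf 0) (.leaf 0)) (.node (.leaf 0) (.leaf 0))) (.node (.node (.leaf 0) (.leaf 0)) (.leaf 0)))) (.node (.node (.node (.node (.leaf 0) (.leaf 0)) (.node (.leaf 10) (.leaf 124))) (.node (.node (.leaf 0) (.leaf 0)) (.node (.leaf 0) (.leaf 0)))) (.node (.node (.node (.leaf 0) (.leaf 31)) (.node (.leaf 0) (.leaf 123))) (.node (.node (.leaf 0) (.leaf 9)) (.leaf 0)))))))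

/-- Part of `posT`. -/
def posT_p011100 : Tr := .node (.node (.node (.node (.node (.node (.node (.node (.leaf 0) (.leaf 0)) (.node (.leaf 0) (.leaf 0))) (.node (.node (.leaf 0) (.leaf 0)) (.node (.leaf 71) (.leaf 0)))) (.node (.node (.node (.leaf 31) (.leaf 0)) (.node (.leaf 0) (.leaf 0))) (.node (.node (.leaf 0) (.leaf 0)) (.node (.leaf 0) (.leaf 0))))) (.node (.node (.node (.node (.leaf 64) (.leaf 0)) (.node (.leaf 0) (.leaf 0))) (.node (.node (.leaf 0) (.leaf 0)) (.node (.leaf 0) (.leaf 0)))) (.node (.node (.node (.leaf 4) (.leaf 0)) (.node (.leaf 0) (.leaf 0))) (.node (.node (.leaf 0) (.leaf 0)) (.leaf 0))))) (.node (.node (.node (.node (.node (.leaf 67) (.leaf 0)) (.node (.leaf 0) (.leaf 0))) (.node (.node (.leaf 0) (.leaf 0)) (.node (.leaf 0) (.leaf 63)))) (.node (.node (.node (.leaf 0) (.leaf 0)) (.node (.leaf 0) (.leaf 0))) (.node (.node (.leaf 0) (.leaf 0)) (.leaf 0)))) (.node (.node (.node (.node (.leaf 0) (.leaf 0)) (.node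 (.leaf 0) (.leaf 0))) (.node (.node (.leaf 38) (.leaf 63)) (.node (.leaf 0) (.leaf 0)))) (.node (.node (.node (.leaf 124) (.leaf 0)) (.node (.leaf 0) (.leaf 0))) (.node (.node (.leaf 0) (.leaf 0)) (.leaf 0)))))) (.node (.node (.node (.node (.node (.node (.leaf 0) (.leaf 0)) (.node (.leaf 0) (.leaf 0))) (.node (.node (.leaf 0) (.leaf 0)) (.node (.leaf 0) (.leaf 0)))) (.node (.node (.node (.leaf 0) (.leaf 0)) (.node (.leaf 36) (.leaf 0))) (.node (.node (.leaf 112) (.leaf 0)) (.node (.leaf 0) (.leaf 0))))) (.node (.node (.node (.node (.leaf 0) (.leaf 0)) (.node (.leaf 0) (.leaf 105))) (.node (.node (.leaf 0) (.leaf 0)) (.node (.leaf 0) (.leaf 0)))) (.node (.node (.node (.leaf 0) (.leaf 0)) (.node (.leaf 0) (.leaf 0))) (.node (.node (.leaf 0) (.leaf 48)) (.leaf 0))))) (.node (.node (.node (.node (.node (.leaf 0) (.leaf 0)) (.node (.leaf 0) (.leaf 0))) (.node (.node (.leaf 47) (.leaf 0)) (.node (.leaf 0) (.leaf 0)))) (.node (.node (.node (.leaf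 36) (.leaf 0)) (.node (.leaf 0) (.leaf 0))) (.node (.node (.leaf 0) (.leaf 113)) (.leaf 0)))) (.node (.node (.node (.node (.leaf 0) (.leaf 16)) (.node (.leaf 0) (.leaf 66))) (.node (.node (.leaf 0) (.leaf 0)) (.node (.leaf 0) (.leaf 0)))) (.node (.node (.node (.leaf 0) (.leaf 0)) (.node (.leaf 55) (.leaf 82))) (.node (.node (.leaf 21) (.leaf 125)) (.leaf 0))))))) (.node (.node (.node (.node (.node (.node (.node (.leaf 0) (.leaf 0)) (.node (.leaf 0) (.leaf 0))) (.node (.node (.leaf 0) (.leaf 118)) (.node (.leaf 0) (.leaf 0)))) (.node (.node (.node (.leaf 0) (.leaf 10)) (.node (.leaf 0) (.leaf 0))) (.node (.node (.leaf 0) (.leaf 0)) (.node (.leaf 38) (.leaf 0))))) (.node (.node (.node (.node (.leaf 0) (.leaf 0)) (.node (.leaf 0) (.leaf 0))) (.node (.node (.leaf 30) (.leaf 0)) (.node (.leaf 0) (.leaf 85)))) (.node (.node (.node (.leaf 100) (.leaf 0)) (.node (.leaf 37) (.leaf 55))) (.node (.node (.leaf 0) (.leaf 0)) (.leaf 55))))) (.node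 (.node (.node (.node (.node (.leaf 76) (.leaf 124)) (.node (.leaf 0) (.leaf 0))) (.node (.node (.leaf 0) (.leaf 0)) (.node (.leaf 50) (.leaf 0)))) (.node (.node (.node (.leaf 0) (.leaf 0)) (.node (.leaf 0) (.leaf 0))) (.node (.node (.leaf 123) (.leaf 0)) (.leaf 62)))) (.node (.node (.node (.node (.leaf 0) (.leaf 0)) (.node (.leaf 37) (.leaf 0))) (.node (.node (.leaf 0) (.leaf 44)) (.node (.leaf 0) (.leaf 0)))) (.node (.node (.node (.leaf 0) (.leaf 0)) (.node (.leaf 0) (.leaf 0))) (.node (.node (.leaf 0) (.leaf 0)) (.leaf 0)))))) (.node (.node (.node (.node (.node (.node (.leaf 0) (.leaf 12)) (.node (.leaf 31) (.leaf 2))) (.node (.node (.leaf 0) (.leaf 0)) (.node (.leaf 0) (.leaf 0)))) (.node (.node (.node (.leaf 0) (.leaf 29)) (.node (.leaf 0) (.leaf 0))) (.node (.node (.leaf 0) (.leaf 0)) (.node (.leaf 45) (.leaf 0))))) (.node (.node (.node (.node (.leaf 0) (.leaf 0)) (.node (.leaf 0) (.leaf 93))) (.node (.node (.leaf 0) (.leaf 0)) (.node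 (.leaf 0) (.leaf 0)))) (.node (.node (.node (.leaf 0) (.leaf 0)) (.node (.leaf 0) (.leaf 0))) (.node (.node (.leaf 0) (.leaf 0)) (.leaf 0))))) (.node (.node (.node (.node (.node (.leaf 0) (.leaf 0)) (.node (.leaf 0) (.leaf 0))) (.node (.node (.leaf 0) (.leaf 0)) (.node (.leaf 0) (.leaf 0)))) (.node (.node (.node (.leaf 0) (.leaf 0)) (.node (.leaf 0) (.leaf 0))) (.node (.node (.leaf 36) (.leaf 99)) (.leaf 0)))) (.node (.node (.node (.node (.leaf 0) (.leaf 0)) (.node (.leaf 0) (.leaf 0))) (.node (.node (.leaf 0) (.leaf 0)) (.node (.leaf 0) (.leaf 0)))) (.node (.node (.node (.leaf 0) (.leaf 0)) (.node (.leaf 0) (.leaf 0))) (.node (.node (.leaf 0) (.leaf 0)) (.leaf 0)))))))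

/-- Part of `posT`. -/
def posT_p011101 : Tr := .node (.node (.node (.node (.node (.node (.node (.node (.leaf 5) (.leaf 0)) (.node (.leaf 0) (.leaf 0))) (.node (.node (.leaf 0) (.leaf 0)) (.node (.leaf 0) (.leaf 0)))) (.node (.node (.node (.leaf 38) (.leaf 0)) (.node (.leaf 0) (.leaf 84))) (.node (.node (.leaf 0) (.leaf 0)) (.node (.leaf 0) (.leaf 0))))) (.node (.node (.node (.node (.leaf 0) (.leaf 0)) (.node (.leaf 0) (.leaf 0))) (.node (.node (.leaf 0) (.leaf 0)) (.node (.leaf 0) (.leaf 0)))) (.node (.node (.node (.leaf 0) (.leaf 0)) (.node (.leaf 0) (.leaf 0))) (.node (.node (.leaf 0) (.leaf 100)) (.leaf 0))))) (.node (.node (.node (.node (.node (.leaf 111) (.leaf 0)) (.node (.leaf 0) (.leaf 0))) (.node (.node (.leaf 0) (.leaf 0)) (.node (.leaf 0) (.leaf 9)))) (.node (.node (.node (.leaf 0) (.leaf 0)) (.node (.leaf 0) (.leaf 49))) (.node (.node (.leaf 0) (.leaf 84)) (.leaf 0)))) (.node (.node (.node (.node (.leaf 0) (.leaf 0)) (.node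 (.leaf 0) (.leaf 0))) (.node (.node (.leaf 10) (.leaf 0)) (.node (.leaf 0) (.leaf 0)))) (.node (.node (.node (.leaf 0) (.leaf 0)) (.node (.leaf 0) (.leaf 19))) (.node (.node (.leaf 56) (.leaf 0)) (.leaf 0)))))) (.node (.node (.node (.node (.node (.node (.leaf 0) (.leaf 0)) (.node (.leaf 109) (.leaf 0))) (.node (.node (.leaf 0) (.leaf 0)) (.node (.leaf 0) (.leaf 0)))) (.node (.node (.node (.leaf 56) (.leaf 0)) (.node (.leaf 0) (.leaf 107))) (.node (.node (.leaf 0) (.leaf 0)) (.node (.leaf 54) (.leaf 0))))) (.node (.node (.node (.node (.leaf 0) (.leaf 25)) (.node (.leaf 0) (.leaf 0))) (.node (.node (.leaf 0) (.leaf 0)) (.node (.leaf 0) (.leaf 0)))) (.node (.node (.node (.leaf 0) (.leaf 50)) (.node (.leaf 81) (.leaf 0))) (.node (.node (.leaf 0) (.leaf 0)) (.leaf 29))))) (.node (.node (.node (.node (.node (.leaf 0) (.leaf 0)) (.node (.leaf 0) (.leaf 0))) (.node (.node (.leaf 0) (.leaf 23)) (.node (.leaf 0) (.leaf 0)))) (.node (.node (.node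 (.leaf 0) (.leaf 0)) (.node (.leaf 0) (.leaf 0))) (.node (.node (.leaf 0) (.leaf 37)) (.leaf 0)))) (.node (.node (.node (.node (.leaf 0) (.leaf 0)) (.node (.leaf 0) (.leaf 0))) (.node (.node (.leaf 0) (.leaf 108)) (.node (.leaf 0) (.leaf 0)))) (.node (.node (.node (.leaf 0) (.leaf 0)) (.node (.leaf 0) (.leaf 0))) (.node (.node (.leaf 0) (.leaf 0)) (.leaf 0))))))) (.node (.node (.node (.node (.node (.node (.node (.leaf 0) (.leaf 0)) (.node (.leaf 0) (.leaf 0))) (.node (.node (.leaf 0) (.leaf 0)) (.node (.leaf 0) (.leaf 27)))) (.node (.node (.node (.leaf 0) (.leaf 0)) (.node (.leaf 0) (.leaf 0))) (.node (.node (.leaf 0) (.leaf 0)) (.node (.leaf 91) (.leaf 0))))) (.node (.node (.node (.node (.leaf 0) (.leaf 82)) (.node (.leaf 0) (.leaf 0))) (.node (.node (.leaf 0) (.leaf 0)) (.node (.leaf 0) (.leaf 0)))) (.node (.node (.node (.leaf 103) (.leaf 0)) (.node (.leaf 0) (.leaf 0))) (.node (.node (.leaf 0) (.leaf 0)) (.leaf 0))))) (.node (.node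 (.node (.node (.node (.leaf 0) (.leaf 0)) (.node (.leaf 0) (.leaf 0))) (.node (.node (.leaf 0) (.leaf 0)) (.node (.leaf 0) (.leaf 0)))) (.node (.node (.node (.leaf 0) (.leaf 0)) (.node (.leaf 0) (.leaf 112))) (.node (.node (.leaf 59) (.leaf 0)) (.leaf 0)))) (.node (.node (.node (.node (.leaf 0) (.leaf 0)) (.node (.leaf 0) (.leaf 0))) (.node (.node (.leaf 0) (.leaf 103)) (.node (.leaf 0) (.leaf 0)))) (.node (.node (.node (.leaf 0) (.leaf 53)) (.node (.leaf 0) (.leaf 33))) (.node (.node (.leaf 0) (.leaf 0)) (.leaf 0)))))) (.node (.node (.node (.node (.node (.node (.leaf 67) (.leaf 91)) (.node (.leaf 33) (.leaf 14))) (.node (.node (.leaf 59) (.leaf 61)) (.node (.leaf 0) (.leaf 0)))) (.node (.node (.node (.leaf 7) (.leaf 0)) (.node (.leaf 0) (.leaf 20))) (.node (.node (.leaf 0) (.leaf 0)) (.node (.leaf 0) (.leaf 0))))) (.node (.node (.node (.node (.leaf 0) (.leaf 0)) (.node (.leaf 0) (.leaf 0))) (.node (.node (.leaf 0) (.leaf 0)) (.node (.leaf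 0) (.leaf 0)))) (.node (.node (.node (.leaf 0) (.leaf 0)) (.node (.leaf 0) (.leaf 0))) (.node (.node (.leaf 91) (.leaf 0)) (.leaf 86))))) (.node (.node (.node (.node (.node (.leaf 0) (.leaf 0)) (.node (.leaf 0) (.leaf 0))) (.node (.node (.leaf 0) (.leaf 0)) (.node (.leaf 45) (.leaf 0)))) (.node (.node (.node (.leaf 0) (.leaf 80)) (.node (.leaf 0) (.leaf 59))) (.node (.node (.leaf 0) (.leaf 0)) (.leaf 0)))) (.node (.node (.node (.node (.leaf 0) (.leaf 0)) (.node (.leaf 0) (.leaf 0))) (.node (.node (.leaf 0) (.leaf 0)) (.node (.leaf 0) (.leaf 0)))) (.node (.node (.node (.leaf 0) (.leaf 0)) (.node (.leaf 0) (.leaf 16))) (.node (.node (.leaf 0) (.leaf 0)) (.leaf 0)))))))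

/-- Part of `posT`. -/
def posT_p011110 : Tr := .node (.node (.node (.node (.node (.node (.node (.node (.leaf 0) (.leaf 0)) (.node (.leaf 0) (.leaf 108))) (.node (.node (.leaf 82) (.leaf 0)) (.node (.leaf 0) (.leaf 0)))) (.node (.node (.node (.leaf 0) (.leaf 19)) (.node (.leaf 0) (.leaf 0))) (.node (.node (.leaf 0) (.leaf 106)) (.node (.leaf 0) (.leaf 0))))) (.node (.node (.node (.node (.leaf 67) (.leaf 0)) (.node (.leaf 91) (.leaf 0))) (.node (.node (.leaf 0) (.leaf 0)) (.node (.leaf 0) (.leaf 0)))) (.node (.node (.node (.leaf 0) (.leaf 0)) (.node (.leaf 0) (.leaf 0))) (.node (.node (.leaf 0) (.leaf 0)) (.leaf 59))))) (.node (.node (.node (.node (.node (.leaf 0) (.leaf 0)) (.node (.leaf 0) (.leaf 0))) (.node (.node (.leaf 0) (.leaf 0)) (.node (.leaf 0) (.leaf 0)))) (.node (.node (.node (.leaf 69) (.leaf 0)) (.node (.leaf 0) (.leaf 0))) (.node (.node (.leaf 0) (.leaf 0)) (.leaf 0)))) (.node (.node (.node (.node (.leaf 0) (.leaf 0)) (.node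 (.leaf 0) (.leaf 0))) (.node (.node (.leaf 0) (.leaf 80)) (.node (.leaf 0) (.leaf 0)))) (.node (.node (.node (.leaf 0) (.leaf 0)) (.node (.leaf 0) (.leaf 0))) (.node (.node (.leaf 0) (.leaf 0)) (.leaf 71)))))) (.node (.node (.node (.node (.node (.node (.leaf 0) (.leaf 0)) (.node (.leaf 0) (.leaf 0))) (.node (.node (.leaf 0) (.leaf 0)) (.node (.leaf 102) (.leaf 0)))) (.node (.node (.node (.leaf 55) (.leaf 0)) (.node (.leaf 0) (.leaf 0))) (.node (.node (.leaf 0) (.leaf 0)) (.node (.leaf 55) (.leaf 0))))) (.node (.node (.node (.node (.leaf 13) (.leaf 54)) (.node (.leaf 0) (.leaf 0))) (.node (.node (.leaf 0) (.leaf 0)) (.node (.leaf 0) (.leaf 0)))) (.node (.node (.node (.leaf 0) (.leaf 0)) (.node (.leaf 91) (.leaf 0))) (.node (.node (.leaf 0) (.leaf 0)) (.leaf 0))))) (.node (.node (.node (.node (.node (.leaf 0) (.leaf 0)) (.node (.leaf 0) (.leaf 0))) (.node (.node (.leaf 0) (.leaf 0)) (.node (.leaf 31) (.leaf 0)))) (.node (.node (.node (.leaf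 0) (.leaf 0)) (.node (.leaf 26) (.leaf 0))) (.node (.node (.leaf 0) (.leaf 0)) (.leaf 0)))) (.node (.node (.node (.node (.leaf 0) (.leaf 0)) (.node (.leaf 0) (.leaf 0))) (.node (.node (.leaf 0) (.leaf 0)) (.node (.leaf 0) (.leaf 0)))) (.node (.node (.node (.leaf 0) (.leaf 0)) (.node (.leaf 0) (.leaf 0))) (.node (.node (.leaf 73) (.leaf 0)) (.leaf 0))))))) (.node (.node (.node (.node (.node (.node (.node (.leaf 0) (.leaf 0)) (.node (.leaf 0) (.leaf 0))) (.node (.node (.leaf 0) (.leaf 0)) (.node (.leaf 0) (.leaf 0)))) (.node (.node (.node (.leaf 51) (.leaf 0)) (.node (.leaf 0) (.leaf 0))) (.node (.node (.leaf 0) (.leaf 0)) (.node (.leaf 0) (.leaf 0))))) (.node (.node (.node (.node (.leaf 0) (.leaf 0)) (.node (.leaf 0) (.leaf 0))) (.node (.node (.leaf 0) (.leaf 0)) (.node (.leaf 20) (.leaf 23)))) (.node (.node (.node (.leaf 0) (.leaf 104)) (.node (.leaf 0) (.leaf 0))) (.node (.node (.leaf 0) (.leaf 0)) (.leaf 0))))) (.node (.node (.node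 (.node (.node (.leaf 0) (.leaf 24)) (.node (.leaf 55) (.leaf 0))) (.node (.node (.leaf 0) (.leaf 0)) (.node (.leaf 0) (.leaf 0)))) (.node (.node (.node (.leaf 0) (.leaf 0)) (.node (.leaf 0) (.leaf 0))) (.node (.node (.leaf 0) (.leaf 0)) (.leaf 0)))) (.node (.node (.node (.node (.leaf 0) (.leaf 49)) (.node (.leaf 0) (.leaf 1))) (.node (.node (.leaf 0) (.leaf 0)) (.node (.leaf 85) (.leaf 0)))) (.node (.node (.node (.leaf 0) (.leaf 0)) (.node (.leaf 0) (.leaf 0))) (.node (.node (.leaf 115) (.leaf 0)) (.leaf 0)))))) (.node (.node (.node (.node (.node (.node (.leaf 0) (.leaf 0)) (.node (.leaf 0) (.leaf 78))) (.node (.node (.leaf 0) (.leaf 26)) (.node (.leaf 0) (.leaf 0)))) (.node (.node (.node (.leaf 0) (.leaf 0)) (.node (.leaf 0) (.leaf 0))) (.node (.node (.leaf 31) (.leaf 0)) (.node (.leaf 0) (.leaf 0))))) (.node (.node (.node (.node (.leaf 0) (.leaf 0)) (.node (.leaf 0) (.leaf 0))) (.node (.node (.leaf 0) (.leaf 0)) (.node (.leaf 0) (.leaf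 0)))) (.node (.node (.node (.leaf 0) (.leaf 0)) (.node (.leaf 0) (.leaf 0))) (.node (.node (.leaf 0) (.leaf 0)) (.leaf 0))))) (.node (.node (.node (.node (.node (.leaf 0) (.leaf 0)) (.node (.leaf 0) (.leaf 0))) (.node (.node (.leaf 0) (.leaf 0)) (.node (.leaf 0) (.leaf 0)))) (.node (.node (.node (.leaf 88) (.leaf 0)) (.node (.leaf 0) (.leaf 10))) (.node (.node (.leaf 0) (.leaf 6)) (.leaf 0)))) (.node (.node (.node (.node (.leaf 0) (.leaf 0)) (.node (.leaf 0) (.leaf 0))) (.node (.node (.leaf 0) (.leaf 0)) (.node (.leaf 0) (.leaf 0)))) (.node (.node (.node (.leaf 89) (.leaf 0)) (.node (.leaf 0) (.leaf 0))) (.node (.node (.leaf 0) (.leaf 0)) (.leaf 0)))))))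

/-- Part of `posT`. -/
def posT_p011111 : Tr := .node (.node (.node (.node (.node (.node (.node (.node (.leaf 90) (.leaf 58)) (.node (.leaf 0) (.leaf 0))) (.node (.node (.leaf 97) (.leaf 0)) (.node (.leaf 104) (.leaf 0)))) (.node (.node (.node (.leaf 36) (.leaf 0)) (.node (.leaf 0) (.leaf 0))) (.node (.node (.leaf 0) (.leaf 0)) (.node (.leaf 0) (.leaf 0))))) (.node (.node (.node (.node (.leaf 0) (.leaf 0)) (.node (.leaf 0) (.leaf 0))) (.node (.node (.leaf 0) (.leaf 0)) (.node (.leaf 0) (.leaf 0)))) (.node (.node (.node (.leaf 0) (.leaf 0)) (.node (.leaf 0) (.leaf 0))) (.node (.node (.leaf 125) (.leaf 0)) (.leaf 0))))) (.node (.node (.node (.node (.node (.leaf 0) (.leaf 77)) (.node (.leaf 0) (.leaf 0))) (.node (.node (.leaf 46) (.leaf 0)) (.node (.leaf 91) (.leaf 0)))) (.node (.node (.node (.leaf 0) (.leaf 59)) (.node (.leaf 0) (.leaf 70))) (.node (.node (.leaf 0) (.leaf 0)) (.leaf 82)))) (.node (.node (.node (.node (.leaf 0) (.leaf 0))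 (.node (.leaf 36) (.leaf 0))) (.node (.node (.leaf 0) (.leaf 114)) (.node (.leaf 0) (.leaf 0)))) (.node (.node (.node (.leaf 0) (.leaf 0)) (.node (.leaf 20) (.leaf 73))) (.node (.node (.leaf 0) (.leaf 0)) (.leaf 0)))))) (.node (.node (.node (.node (.node (.node (.leaf 0) (.leaf 59)) (.node (.leaf 0) (.leaf 0))) (.node (.node (.leaf 0) (.leaf 0)) (.node (.leaf 108) (.leaf 0)))) (.node (.node (.node (.leaf 0) (.leaf 0)) (.node (.leaf 124) (.leaf 6))) (.node (.node (.leaf 0) (.leaf 0)) (.node (.leaf 0) (.leaf 0))))) (.node (.node (.node (.node (.leaf 0) (.leaf 0)) (.node (.leaf 0) (.leaf 0))) (.node (.node (.leaf 0) (.leaf 0)) (.node (.leaf 0) (.leaf 0)))) (.node (.node (.node (.leaf 0) (.leaf 0)) (.node (.leaf 0) (.leaf 0))) (.node (.node (.leaf 0) (.leaf 18)) (.leaf 0))))) (.node (.node (.node (.node (.node (.leaf 76) (.leaf 65)) (.node (.leaf 0) (.leaf 0))) (.node (.node (.leaf 0) (.leaf 0)) (.node (.leaf 24) (.leaf 0)))) (.node (.node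 (.node (.leaf 0) (.leaf 0)) (.node (.leaf 0) (.leaf 0))) (.node (.node (.leaf 0) (.leaf 0)) (.leaf 44)))) (.node (.node (.node (.node (.leaf 0) (.leaf 0)) (.node (.leaf 0) (.leaf 0))) (.node (.node (.leaf 0) (.leaf 87)) (.node (.leaf 0) (.leaf 70)))) (.node (.node (.node (.leaf 0) (.leaf 0)) (.node (.leaf 0) (.leaf 0))) (.node (.node (.leaf 11) (.leaf 0)) (.leaf 0))))))) (.node (.node (.node (.node (.node (.node (.node (.leaf 0) (.leaf 0)) (.node (.leaf 0) (.leaf 29))) (.node (.node (.leaf 0) (.leaf 0)) (.node (.leaf 119) (.leaf 0)))) (.node (.node (.node (.leaf 8) (.leaf 0)) (.node (.leaf 118) (.leaf 0))) (.node (.node (.leaf 0) (.leaf 0)) (.node (.leaf 0) (.leaf 77))))) (.node (.node (.node (.node (.leaf 0) (.leaf 47)) (.node (.leaf 0) (.leaf 107))) (.node (.node (.leaf 0) (.leaf 0)) (.node (.leaf 0) (.leaf 0)))) (.node (.node (.node (.leaf 0) (.leaf 0)) (.node (.leaf 0) (.leaf 0))) (.node (.node (.leaf 0) (.leaf 0)) (.leaf 0))))) (.node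 (.node (.node (.node (.node (.leaf 0) (.leaf 0)) (.node (.leaf 0) (.leaf 65))) (.node (.node (.leaf 0) (.leaf 0)) (.node (.leaf 0) (.leaf 0)))) (.node (.node (.node (.leaf 0) (.leaf 0)) (.node (.leaf 0) (.leaf 0))) (.node (.node (.leaf 107) (.leaf 0)) (.leaf 3)))) (.node (.node (.node (.node (.leaf 0) (.leaf 0)) (.node (.leaf 0) (.leaf 36))) (.node (.node (.leaf 0) (.leaf 0)) (.node (.leaf 0) (.leaf 0)))) (.node (.node (.node (.leaf 0) (.leaf 0)) (.node (.leaf 0) (.leaf 0))) (.node (.node (.leaf 0) (.leaf 0)) (.leaf 0)))))) (.node (.node (.node (.node (.node (.node (.leaf 0) (.leaf 0)) (.node (.leaf 0) (.leaf 87))) (.node (.node (.leaf 0) (.leaf 0)) (.node (.leaf 0) (.leaf 0)))) (.node (.node (.node (.leaf 0) (.leaf 0)) (.node (.leaf 0) (.leaf 0))) (.node (.node (.leaf 0) (.leaf 0)) (.node (.leaf 0) (.leaf 0))))) (.node (.node (.node (.node (.leaf 0) (.leaf 0)) (.node (.leaf 0) (.leaf 0))) (.node (.node (.leaf 19) (.leaf 0)) (.node (.leaf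 0) (.leaf 0)))) (.node (.node (.node (.leaf 97) (.leaf 0)) (.node (.leaf 0) (.leaf 0))) (.node (.node (.leaf 0) (.leaf 124)) (.leaf 0))))) (.node (.node (.node (.node (.node (.leaf 76) (.leaf 0)) (.node (.leaf 110) (.leaf 0))) (.node (.node (.leaf 0) (.leaf 0)) (.node (.leaf 0) (.leaf 0)))) (.node (.node (.node (.leaf 0) (.leaf 0)) (.node (.leaf 0) (.leaf 0))) (.node (.node (.leaf 0) (.leaf 0)) (.leaf 0)))) (.node (.node (.node (.node (.leaf 49) (.leaf 0)) (.node (.leaf 0) (.leaf 0))) (.node (.node (.leaf 0) (.leaf 0)) (.node (.leaf 0) (.leaf 0)))) (.node (.node (.node (.leaf 0) (.leaf 0)) (.node (.leaf 0) (.leaf 0))) (.node (.node (.leaf 0) (.leaf 0)) (.leaf 0)))))))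

/-- Part of `posT`. -/
def posT_p100000 : Tr := .node (.node (.node (.node (.node (.node (.node (.node (.leaf 0) (.leaf 0)) (.node (.leaf 0) (.leaf 0))) (.node (.node (.leaf 0) (.leaf 121)) (.node (.leaf 96) (.leaf 25)))) (.node (.node (.node (.leaf 0) (.leaf 43)) (.node (.leaf 0) (.leaf 0))) (.node (.node (.leaf 46) (.leaf 0)) (.node (.leaf 0) (.leaf 42))))) (.node (.node (.node (.node (.leaf 0) (.leaf 0)) (.node (.leaf 96) (.leaf 116))) (.node (.node (.leaf 0) (.leaf 0)) (.node (.leaf 0) (.leaf 0)))) (.node (.node (.node (.leaf 0) (.leaf 0)) (.node (.leaf 0) (.leaf 0))) (.node (.node (.leaf 0) (.leaf 0)) (.leaf 0))))) (.node (.node (.node (.node (.node (.leaf 0) (.leaf 0)) (.node (.leaf 0) (.leaf 0))) (.node (.node (.leaf 0) (.leaf 0)) (.node (.leaf 0) (.leaf 21)))) (.node (.node (.node (.leaf 0) (.leaf 0)) (.node (.leaf 0) (.leaf 0))) (.node (.node (.leaf 0) (.leaf 0)) (.node (.leaf 20) (.leaf 0))))) (.node (.node (.node (.node (.leaf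 0) (.leaf 0)) (.node (.leaf 0) (.leaf 0))) (.node (.node (.leaf 0) (.leaf 0)) (.node (.leaf 63) (.leaf 0)))) (.node (.node (.node (.leaf 0) (.leaf 0)) (.node (.leaf 0) (.leaf 0))) (.node (.node (.leaf 0) (.leaf 0)) (.leaf 0)))))) (.node (.node (.node (.node (.node (.node (.leaf 0) (.leaf 0)) (.node (.leaf 0) (.leaf 0))) (.node (.node (.leaf 0) (.leaf 0)) (.node (.leaf 0) (.leaf 0)))) (.node (.node (.node (.leaf 0) (.leaf 0)) (.node (.leaf 87) (.leaf 0))) (.node (.node (.leaf 0) (.leaf 2)) (.node (.leaf 0) (.leaf 110))))) (.node (.node (.node (.node (.leaf 0) (.leaf 0)) (.node (.leaf 0) (.leaf 54))) (.node (.node (.leaf 0) (.leaf 0)) (.node (.leaf 0) (.leaf 32)))) (.node (.node (.node (.leaf 0) (.leaf 0)) (.node (.leaf 52) (.leaf 0))) (.node (.node (.leaf 0) (.leaf 0)) (.leaf 0))))) (.node (.node (.node (.node (.node (.leaf 0) (.leaf 0)) (.node (.leaf 0) (.leaf 0))) (.node (.node (.leaf 0) (.leaf 0)) (.node (.leaf 0) (.leaf 0)))) (.node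 (.node (.node (.leaf 0) (.leaf 0)) (.node (.leaf 0) (.leaf 0))) (.node (.node (.leaf 0) (.leaf 0)) (.leaf 0)))) (.node (.node (.node (.node (.leaf 87) (.leaf 0)) (.node (.leaf 0) (.leaf 19))) (.node (.node (.leaf 44) (.leaf 17)) (.node (.leaf 81) (.leaf 23)))) (.node (.node (.node (.leaf 0) (.leaf 46)) (.node (.leaf 0) (.leaf 0))) (.node (.node (.leaf 0) (.leaf 0)) (.leaf 48))))))) (.node (.node (.node (.node (.node (.node (.node (.leaf 0) (.leaf 0)) (.node (.leaf 39) (.leaf 93))) (.node (.node (.leaf 0) (.leaf 0)) (.node (.leaf 82) (.leaf 0)))) (.node (.node (.node (.leaf 37) (.leaf 0)) (.node (.leaf 0) (.leaf 10))) (.node (.node (.leaf 0) (.leaf 0)) (.node (.leaf 0) (.leaf 4))))) (.node (.node (.node (.node (.leaf 0) (.leaf 0)) (.node (.leaf 0) (.leaf 0))) (.node (.node (.leaf 0) (.leaf 0)) (.node (.leaf 0) (.leaf 0)))) (.node (.node (.node (.leaf 0) (.leaf 0)) (.node (.leaf 83) (.leaf 0))) (.node (.node (.leaf 95) (.leaf 0)) (.leaf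 0))))) (.node (.node (.node (.node (.node (.leaf 90) (.leaf 0)) (.node (.leaf 0) (.leaf 0))) (.node (.node (.leaf 109) (.leaf 0)) (.node (.leaf 0) (.leaf 0)))) (.node (.node (.node (.leaf 0) (.leaf 0)) (.node (.leaf 0) (.leaf 0))) (.node (.node (.leaf 0) (.leaf 0)) (.leaf 35)))) (.node (.node (.node (.node (.leaf 109) (.leaf 0)) (.node (.leaf 66) (.leaf 0))) (.node (.node (.leaf 0) (.leaf 0)) (.node (.leaf 0) (.leaf 0)))) (.node (.node (.node (.leaf 23) (.leaf 0)) (.node (.leaf 0) (.leaf 0))) (.node (.node (.leaf 0) (.leaf 0)) (.leaf 47)))))) (.node (.node (.node (.node (.node (.node (.leaf 0) (.leaf 100)) (.node (.leaf 0) (.leaf 0))) (.node (.node (.leaf 77) (.leaf 0)) (.node (.leaf 0) (.leaf 0)))) (.node (.node (.node (.leaf 0) (.leaf 0)) (.node (.leaf 0) (.leaf 0))) (.node (.node (.leaf 0) (.leaf 116)) (.node (.leaf 0) (.leaf 99))))) (.node (.node (.node (.node (.leaf 0) (.leaf 0)) (.node (.leaf 0) (.leaf 0))) (.node (.node (.leaf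 0) (.leaf 123)) (.node (.leaf 0) (.leaf 0)))) (.node (.node (.node (.leaf 0) (.leaf 109)) (.node (.leaf 0) (.leaf 22))) (.node (.node (.leaf 0) (.leaf 65)) (.leaf 0))))) (.node (.node (.node (.node (.node (.leaf 111) (.leaf 0)) (.node (.leaf 0) (.leaf 0))) (.node (.node (.leaf 66) (.leaf 0)) (.node (.leaf 0) (.leaf 0)))) (.node (.node (.node (.leaf 0) (.leaf 0)) (.node (.leaf 0) (.leaf 78))) (.node (.node (.leaf 0) (.leaf 0)) (.leaf 0)))) (.node (.node (.node (.node (.leaf 28) (.leaf 125)) (.node (.leaf 0) (.leaf 0))) (.node (.node (.leaf 0) (.leaf 0)) (.node (.leaf 117) (.leaf 0)))) (.node (.node (.node (.leaf 0) (.leaf 0)) (.node (.leaf 0) (.leaf 0))) (.node (.node (.leaf 0) (.leaf 0)) (.leaf 0)))))))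

/-- Part of `posT`. -/
def posT_p100001 : Tr := .node (.node (.node (.node (.node (.node (.node (.node (.leaf 0) (.leaf 0)) (.node (.leaf 0) (.leaf 0))) (.node (.node (.leaf 53) (.leaf 0)) (.node (.leaf 117) (.leaf 0)))) (.node (.node (.node (.leaf 0) (.leaf 21)) (.node (.leaf 46) (.leaf 0))) (.node (.node (.leaf 0) (.leaf 0)) (.node (.leaf 43) (.leaf 0))))) (.node (.node (.node (.node (.leaf 0) (.leaf 0)) (.node (.leaf 0) (.leaf 0))) (.node (.node (.leaf 0) (.leaf 0)) (.node (.leaf 0) (.leaf 0)))) (.node (.node (.node (.leaf 0) (.leaf 0)) (.node (.leaf 0) (.leaf 99))) (.node (.node (.leaf 0) (.leaf 0)) (.leaf 0))))) (.node (.node (.node (.node (.node (.leaf 0) (.leaf 0)) (.node (.leaf 0) (.leaf 0))) (.node (.node (.leaf 0) (.leaf 0)) (.node (.leaf 0) (.leaf 0)))) (.node (.node (.node (.leaf 0) (.leaf 0)) (.node (.leaf 0) (.leaf 0))) (.node (.node (.leaf 35) (.leaf 0)) (.leaf 0)))) (.node (.node (.node (.node (.leaf 0) (.leaf 0)) (.node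 (.leaf 0) (.leaf 0))) (.node (.node (.leaf 0) (.leaf 0)) (.node (.leaf 6) (.leaf 0)))) (.node (.node (.node (.leaf 0) (.leaf 0)) (.node (.leaf 0) (.leaf 0))) (.node (.node (.leaf 0) (.leaf 0)) (.leaf 74)))))) (.node (.node (.node (.node (.node (.node (.leaf 0) (.leaf 0)) (.node (.leaf 0) (.leaf 0))) (.node (.node (.leaf 0) (.leaf 0)) (.node (.leaf 0) (.leaf 53)))) (.node (.node (.node (.leaf 107) (.leaf 0)) (.node (.leaf 0) (.leaf 0))) (.node (.node (.leaf 0) (.leaf 0)) (.node (.leaf 56) (.leaf 0))))) (.node (.node (.node (.node (.leaf 0) (.leaf 0)) (.node (.leaf 0) (.leaf 0))) (.node (.node (.leaf 0) (.leaf 113)) (.node (.leaf 25) (.leaf 0)))) (.node (.node (.node (.leaf 0) (.leaf 0)) (.node (.leaf 0) (.leaf 0))) (.node (.node (.leaf 92) (.leaf 0)) (.leaf 73))))) (.node (.node (.node (.node (.node (.leaf 0) (.leaf 0)) (.node (.leaf 0) (.leaf 0))) (.node (.node (.leaf 0) (.leaf 0)) (.node (.leaf 0) (.leaf 0)))) (.node (.node (.node (.leaf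 0) (.leaf 0)) (.node (.leaf 0) (.leaf 0))) (.node (.node (.leaf 0) (.leaf 0)) (.leaf 0)))) (.node (.node (.node (.node (.leaf 0) (.leaf 114)) (.node (.leaf 0) (.leaf 0))) (.node (.node (.leaf 0) (.leaf 0)) (.node (.leaf 0) (.leaf 0)))) (.node (.node (.node (.leaf 0) (.leaf 0)) (.node (.leaf 0) (.leaf 0))) (.node (.node (.leaf 0) (.leaf 68)) (.leaf 89))))))) (.node (.node (.node (.node (.node (.node (.node (.leaf 0) (.leaf 0)) (.node (.leaf 0) (.leaf 0))) (.node (.node (.leaf 0) (.leaf 63)) (.node (.leaf 0) (.leaf 0)))) (.node (.node (.node (.leaf 0) (.leaf 0)) (.node (.leaf 69) (.leaf 0))) (.node (.node (.leaf 0) (.leaf 123)) (.node (.leaf 0) (.leaf 0))))) (.node (.node (.node (.node (.leaf 0) (.leaf 0)) (.node (.leaf 0) (.leaf 0))) (.node (.node (.leaf 0) (.leaf 0)) (.node (.leaf 0) (.leaf 0)))) (.node (.node (.node (.leaf 0) (.leaf 0)) (.node (.leaf 0) (.leaf 107))) (.node (.node (.leaf 0) (.leaf 0)) (.leaf 0))))) (.node (.node (.node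 (.node (.node (.leaf 0) (.leaf 0)) (.node (.leaf 107) (.leaf 0))) (.node (.node (.leaf 0) (.leaf 0)) (.node (.leaf 0) (.leaf 0)))) (.node (.node (.node (.leaf 0) (.leaf 0)) (.node (.leaf 81) (.leaf 93))) (.node (.node (.leaf 0) (.leaf 33)) (.leaf 7)))) (.node (.node (.node (.node (.leaf 0) (.leaf 0)) (.node (.leaf 0) (.leaf 0))) (.node (.node (.leaf 18) (.leaf 0)) (.node (.leaf 83) (.leaf 0)))) (.node (.node (.node (.leaf 0) (.leaf 0)) (.node (.leaf 0) (.leaf 0))) (.node (.node (.leaf 0) (.leaf 0)) (.leaf 0)))))) (.node (.node (.node (.node (.node (.node (.leaf 0) (.leaf 86)) (.node (.leaf 58) (.leaf 0))) (.node (.node (.leaf 0) (.leaf 0)) (.node (.leaf 0) (.leaf 0)))) (.node (.node (.node (.leaf 0) (.leaf 0)) (.node (.leaf 0) (.leaf 0))) (.node (.node (.leaf 0) (.leaf 0)) (.node (.leaf 0) (.leaf 0))))) (.node (.node (.node (.node (.leaf 0) (.leaf 0)) (.node (.leaf 112) (.leaf 0))) (.node (.node (.leaf 0) (.leaf 0)) (.node (.leaf 0) (.leaf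 41)))) (.node (.node (.node (.leaf 108) (.leaf 0)) (.node (.leaf 122) (.leaf 0))) (.node (.node (.leaf 0) (.leaf 0)) (.leaf 0))))) (.node (.node (.node (.node (.node (.leaf 0) (.leaf 0)) (.node (.leaf 0) (.leaf 0))) (.node (.node (.leaf 0) (.leaf 0)) (.node (.leaf 0) (.leaf 0)))) (.node (.node (.node (.leaf 0) (.leaf 99)) (.node (.leaf 0) (.leaf 0))) (.node (.node (.leaf 0) (.leaf 0)) (.leaf 0)))) (.node (.node (.node (.node (.leaf 6) (.leaf 0)) (.node (.leaf 0) (.leaf 0))) (.node (.node (.leaf 0) (.leaf 0)) (.node (.leaf 0) (.leaf 0)))) (.node (.node (.node (.leaf 0) (.leaf 0)) (.node (.leaf 0) (.leaf 0))) (.node (.node (.leaf 0) (.leaf 0)) (.leaf 73)))))))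

/-- Part of `posT`. -/
def posT_p100010 : Tr := .node (.node (.node (.node (.node (.node (.node (.node (.leaf 0) (.leaf 0)) (.node (.leaf 0) (.leaf 0))) (.node (.node (.leaf 0) (.leaf 0)) (.node (.leaf 0) (.leaf 27)))) (.node (.node (.node (.leaf 0) (.leaf 0)) (.node (.leaf 0) (.leaf 0))) (.node (.node (.leaf 0) (.leaf 0)) (.node (.leaf 0) (.leaf 47))))) (.node (.node (.node (.node (.leaf 90) (.leaf 0)) (.node (.leaf 0) (.leaf 11))) (.node (.node (.leaf 0) (.leaf 0)) (.node (.leaf 0) (.leaf 0)))) (.node (.node (.node (.leaf 0) (.leaf 0)) (.node (.leaf 0) (.leaf 0))) (.node (.node (.leaf 0) (.leaf 0)) (.leaf 39))))) (.node (.node (.node (.node (.node (.leaf 0) (.leaf 0)) (.node (.leaf 0) (.leaf 103))) (.node (.node (.leaf 0) (.leaf 0)) (.node (.leaf 0) (.leaf 100)))) (.node (.node (.node (.leaf 0) (.leaf 0)) (.node (.leaf 85) (.leaf 0))) (.node (.node (.leaf 0) (.leaf 79)) (.leaf 0)))) (.node (.node (.node (.node (.leaf 0) (.leaf 0))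 (.node (.leaf 0) (.leaf 0))) (.node (.node (.leaf 0) (.leaf 0)) (.node (.leaf 0) (.leaf 0)))) (.node (.node (.node (.leaf 35) (.leaf 0)) (.node (.leaf 42) (.leaf 88))) (.node (.node (.leaf 0) (.leaf 0)) (.leaf 0)))))) (.node (.node (.node (.node (.node (.node (.leaf 0) (.leaf 0)) (.node (.leaf 52) (.leaf 0))) (.node (.node (.leaf 0) (.leaf 0)) (.node (.leaf 0) (.leaf 0)))) (.node (.node (.node (.leaf 0) (.leaf 117)) (.node (.leaf 0) (.leaf 0))) (.node (.node (.leaf 0) (.leaf 0)) (.node (.leaf 26) (.leaf 68))))) (.node (.node (.node (.node (.leaf 0) (.leaf 0)) (.node (.leaf 0) (.leaf 0))) (.node (.node (.leaf 0) (.leaf 116)) (.node (.leaf 38) (.leaf 0)))) (.node (.node (.node (.leaf 0) (.leaf 0)) (.node (.leaf 0) (.leaf 0))) (.node (.node (.leaf 0) (.leaf 0)) (.leaf 0))))) (.node (.node (.node (.node (.node (.leaf 0) (.leaf 0)) (.node (.leaf 51) (.leaf 0))) (.node (.node (.leaf 51) (.leaf 0)) (.node (.leaf 0) (.leaf 0)))) (.node (.node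 (.node (.leaf 0) (.leaf 0)) (.node (.leaf 0) (.leaf 0))) (.node (.node (.leaf 0) (.leaf 0)) (.leaf 0)))) (.node (.node (.node (.node (.leaf 104) (.leaf 0)) (.node (.leaf 0) (.leaf 0))) (.node (.node (.leaf 85) (.leaf 0)) (.node (.leaf 0) (.leaf 0)))) (.node (.node (.node (.leaf 0) (.leaf 0)) (.node (.leaf 0) (.leaf 20))) (.node (.node (.leaf 66) (.leaf 0)) (.leaf 0))))))) (.node (.node (.node (.node (.node (.node (.node (.leaf 0) (.leaf 0)) (.node (.leaf 0) (.leaf 0))) (.node (.node (.leaf 0) (.leaf 0)) (.node (.leaf 0) (.leaf 0)))) (.node (.node (.node (.leaf 0) (.leaf 0)) (.node (.leaf 93) (.leaf 0))) (.node (.node (.leaf 0) (.leaf 0)) (.node (.leaf 101) (.leaf 0))))) (.node (.node (.node (.node (.leaf 0) (.leaf 0)) (.node (.leaf 0) (.leaf 0))) (.node (.node (.leaf 0) (.leaf 102)) (.node (.leaf 0) (.leaf 61)))) (.node (.node (.node (.leaf 0) (.leaf 0)) (.node (.leaf 0) (.leaf 0))) (.node (.node (.leaf 0) (.leaf 0)) (.leaf 0))))) (.node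 (.node (.node (.node (.node (.leaf 0) (.leaf 53)) (.node (.leaf 0) (.leaf 0))) (.node (.node (.leaf 0) (.leaf 0)) (.node (.leaf 27) (.leaf 0)))) (.node (.node (.node (.leaf 0) (.leaf 0)) (.node (.leaf 47) (.leaf 0))) (.node (.node (.leaf 101) (.leaf 103)) (.leaf 0)))) (.node (.node (.node (.node (.leaf 0) (.leaf 0)) (.node (.leaf 0) (.leaf 62))) (.node (.node (.leaf 108) (.leaf 28)) (.node (.leaf 11) (.leaf 0)))) (.node (.node (.node (.leaf 60) (.leaf 0)) (.node (.leaf 0) (.leaf 0))) (.node (.node (.leaf 0) (.leaf 0)) (.leaf 94)))))) (.node (.node (.node (.node (.node (.node (.leaf 0) (.leaf 33)) (.node (.leaf 0) (.leaf 0))) (.node (.node (.leaf 0) (.leaf 0)) (.node (.leaf 0) (.leaf 0)))) (.node (.node (.node (.leaf 0) (.leaf 0)) (.node (.leaf 0) (.leaf 65))) (.node (.node (.leaf 0) (.leaf 110)) (.node (.leaf 37) (.leaf 0))))) (.node (.node (.node (.node (.leaf 0) (.leaf 0)) (.node (.leaf 0) (.leaf 122))) (.node (.node (.leaf 0) (.leaf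 84)) (.node (.leaf 0) (.leaf 38)))) (.node (.node (.node (.leaf 107) (.leaf 106)) (.node (.leaf 0) (.leaf 0))) (.node (.node (.leaf 0) (.leaf 0)) (.leaf 0))))) (.node (.node (.node (.node (.node (.leaf 0) (.leaf 0)) (.node (.leaf 0) (.leaf 0))) (.node (.node (.leaf 0) (.leaf 0)) (.node (.leaf 0) (.leaf 0)))) (.node (.node (.node (.leaf 0) (.leaf 0)) (.node (.leaf 0) (.leaf 0))) (.node (.node (.leaf 0) (.leaf 18)) (.leaf 0)))) (.node (.node (.node (.node (.leaf 0) (.leaf 0)) (.node (.leaf 0) (.leaf 0))) (.node (.node (.leaf 3) (.leaf 0)) (.node (.leaf 0) (.leaf 0)))) (.node (.node (.node (.leaf 0) (.leaf 0)) (.node (.leaf 0) (.leaf 0))) (.node (.node (.leaf 0) (.leaf 0)) (.leaf 0)))))))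

/-- Part of `posT`. -/
def posT_p100011 : Tr := .node (.node (.node (.node (.node (.node (.node (.node (.leaf 64) (.leaf 61)) (.node (.leaf 0) (.leaf 72))) (.node (.node (.leaf 0) (.leaf 0)) (.node (.leaf 0) (.leaf 0)))) (.node (.node (.node (.leaf 0) (.leaf 0)) (.node (.leaf 0) (.leaf 0))) (.node (.node (.leaf 0) (.leaf 0)) (.node (.leaf 118) (.leaf 0))))) (.node (.node (.node (.node (.leaf 76) (.leaf 0)) (.node (.leaf 0) (.leaf 0))) (.node (.node (.leaf 0) (.leaf 0)) (.node (.leaf 0) (.leaf 0)))) (.node (.node (.node (.leaf 0) (.leaf 0)) (.node (.leaf 0) (.leaf 18))) (.node (.node (.leaf 0) (.leaf 0)) (.leaf 0))))) (.node (.node (.node (.node (.node (.leaf 0) (.leaf 0)) (.node (.leaf 0) (.leaf 0))) (.node (.node (.leaf 0) (.leaf 18)) (.node (.leaf 0) (.leaf 0)))) (.node (.node (.node (.leaf 0) (.leaf 0)) (.node (.leaf 0) (.leaf 0))) (.node (.node (.leaf 0) (.leaf 95)) (.leaf 0)))) (.node (.node (.node (.node (.leaf 0) (.leaf 0)) (.node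 (.leaf 0) (.leaf 79))) (.node (.node (.leaf 0) (.leaf 0)) (.node (.leaf 121) (.leaf 0)))) (.node (.node (.node (.leaf 0) (.leaf 0)) (.node (.leaf 0) (.leaf 37))) (.node (.node (.leaf 107) (.leaf 0)) (.leaf 0)))))) (.node (.node (.node (.node (.node (.node (.leaf 0) (.leaf 0)) (.node (.leaf 0) (.leaf 0))) (.node (.node (.leaf 0) (.leaf 0)) (.node (.leaf 49) (.leaf 0)))) (.node (.node (.node (.leaf 0) (.leaf 0)) (.node (.leaf 0) (.leaf 105))) (.node (.node (.leaf 0) (.leaf 0)) (.node (.leaf 0) (.leaf 0))))) (.node (.node (.node (.node (.leaf 0) (.leaf 38)) (.node (.leaf 0) (.leaf 38))) (.node (.node (.leaf 0) (.leaf 0)) (.node (.leaf 0) (.leaf 8)))) (.node (.node (.node (.leaf 0) (.leaf 0)) (.node (.leaf 2) (.leaf 23))) (.node (.node (.leaf 0) (.leaf 0)) (.leaf 0))))) (.node (.node (.node (.node (.node (.leaf 0) (.leaf 0)) (.node (.leaf 0) (.leaf 0))) (.node (.node (.leaf 0) (.leaf 0)) (.node (.leaf 0) (.leaf 0)))) (.node (.node (.node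 (.leaf 0) (.leaf 0)) (.node (.leaf 0) (.leaf 0))) (.node (.node (.leaf 0) (.leaf 0)) (.leaf 0)))) (.node (.node (.node (.node (.leaf 22) (.leaf 0)) (.node (.leaf 0) (.leaf 0))) (.node (.node (.leaf 53) (.leaf 89)) (.node (.leaf 0) (.leaf 0)))) (.node (.node (.node (.leaf 0) (.leaf 115)) (.node (.leaf 0) (.leaf 0))) (.node (.node (.leaf 0) (.leaf 0)) (.leaf 0))))))) (.node (.node (.node (.node (.node (.node (.node (.leaf 0) (.leaf 0)) (.node (.leaf 0) (.leaf 0))) (.node (.node (.leaf 105) (.leaf 45)) (.node (.leaf 0) (.leaf 34)))) (.node (.node (.node (.leaf 112) (.leaf 0)) (.node (.leaf 0) (.leaf 3))) (.node (.node (.leaf 0) (.leaf 0)) (.node (.leaf 15) (.leaf 0))))) (.node (.node (.node (.node (.leaf 0) (.leaf 0)) (.node (.leaf 0) (.leaf 0))) (.node (.node (.leaf 0) (.leaf 0)) (.node (.leaf 0) (.leaf 0)))) (.node (.node (.node (.leaf 112) (.leaf 0)) (.node (.leaf 0) (.leaf 15))) (.node (.node (.leaf 0) (.leaf 0)) (.leaf 92))))) (.node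 (.node (.node (.node (.node (.leaf 0) (.leaf 71)) (.node (.leaf 0) (.leaf 0))) (.node (.node (.leaf 0) (.leaf 0)) (.node (.leaf 16) (.leaf 0)))) (.node (.node (.node (.leaf 0) (.leaf 0)) (.node (.leaf 0) (.leaf 30))) (.node (.node (.leaf 0) (.leaf 56)) (.leaf 0)))) (.node (.node (.node (.node (.leaf 0) (.leaf 0)) (.node (.leaf 87) (.leaf 0))) (.node (.node (.leaf 0) (.leaf 0)) (.node (.leaf 0) (.leaf 0)))) (.node (.node (.node (.leaf 0) (.leaf 0)) (.node (.leaf 0) (.leaf 0))) (.node (.node (.leaf 18) (.leaf 0)) (.leaf 0)))))) (.node (.node (.node (.node (.node (.node (.leaf 0) (.leaf 0)) (.node (.leaf 0) (.leaf 118))) (.node (.node (.leaf 70) (.leaf 83)) (.node (.leaf 0) (.leaf 0)))) (.node (.node (.node (.leaf 0) (.leaf 0)) (.node (.leaf 0) (.leaf 0))) (.node (.node (.leaf 0) (.leaf 0)) (.node (.leaf 0) (.leaf 0))))) (.node (.node (.node (.node (.leaf 0) (.leaf 0)) (.node (.leaf 0) (.leaf 53))) (.node (.node (.leaf 0) (.leaf 104)) (.node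 (.leaf 119) (.leaf 0)))) (.node (.node (.node (.leaf 0) (.leaf 0)) (.node (.leaf 16) (.leaf 51))) (.node (.node (.leaf 0) (.leaf 0)) (.leaf 0))))) (.node (.node (.node (.node (.node (.leaf 76) (.leaf 0)) (.node (.leaf 22) (.leaf 0))) (.node (.node (.leaf 84) (.leaf 0)) (.node (.leaf 0) (.leaf 115)))) (.node (.node (.node (.leaf 29) (.leaf 0)) (.node (.leaf 0) (.leaf 52))) (.node (.node (.leaf 0) (.leaf 0)) (.leaf 0)))) (.node (.node (.node (.node (.leaf 0) (.leaf 108)) (.node (.leaf 0) (.leaf 38))) (.node (.node (.leaf 27) (.leaf 0)) (.node (.leaf 114) (.leaf 0)))) (.node (.node (.node (.leaf 61) (.leaf 0)) (.node (.leaf 0) (.leaf 0))) (.node (.node (.leaf 0) (.leaf 0)) (.leaf 0)))))))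

/-- Part of `posT`. -/
def posT_p100100 : Tr := .node (.node (.node (.node (.node (.node (.node (.node (.leaf 0) (.leaf 0)) (.node (.leaf 87) (.leaf 0))) (.node (.node (.leaf 0) (.leaf 0)) (.node (.leaf 0) (.leaf 0)))) (.node (.node (.node (.leaf 0) (.leaf 0)) (.node (.leaf 0) (.leaf 82))) (.node (.node (.leaf 0) (.leaf 0)) (.node (.leaf 0) (.leaf 39))))) (.node (.node (.node (.node (.leaf 0) (.leaf 0)) (.node (.leaf 0) (.leaf 0))) (.node (.node (.leaf 0) (.leaf 0)) (.node (.leaf 0) (.leaf 0)))) (.node (.node (.node (.leaf 50) (.leaf 0)) (.node (.leaf 0) (.leaf 0))) (.node (.node (.leaf 96) (.leaf 0)) (.leaf 0))))) (.node (.node (.node (.node (.node (.leaf 0) (.leaf 0)) (.node (.leaf 0) (.leaf 0))) (.node (.node (.leaf 0) (.leaf 0)) (.node (.leaf 48) (.leaf 0)))) (.node (.node (.node (.leaf 0) (.leaf 0)) (.node (.leaf 0) (.leaf 0))) (.node (.node (.leaf 0) (.leaf 17)) (.leaf 0)))) (.node (.node (.node (.node (.leaf 0) (.leaf 0)) (.node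 (.leaf 0) (.leaf 0))) (.node (.node (.leaf 0) (.leaf 0)) (.node (.leaf 0) (.leaf 0)))) (.node (.node (.node (.leaf 0) (.leaf 0)) (.node (.leaf 0) (.leaf 0))) (.node (.node (.leaf 0) (.leaf 35)) (.leaf 85)))))) (.node (.node (.node (.node (.node (.node (.leaf 0) (.leaf 0)) (.node (.leaf 0) (.leaf 0))) (.node (.node (.leaf 0) (.leaf 0)) (.node (.leaf 0) (.leaf 0)))) (.node (.node (.node (.leaf 0) (.leaf 0)) (.node (.leaf 0) (.leaf 0))) (.node (.node (.leaf 0) (.leaf 0)) (.node (.leaf 0) (.leaf 0))))) (.node (.node (.node (.node (.leaf 57) (.leaf 80)) (.node (.leaf 0) (.leaf 56))) (.node (.node (.leaf 48) (.leaf 0)) (.node (.leaf 0) (.leaf 0)))) (.node (.node (.node (.leaf 0) (.leaf 0)) (.node (.leaf 63) (.leaf 0))) (.node (.node (.leaf 0) (.leaf 110)) (.leaf 0))))) (.node (.node (.node (.node (.node (.leaf 0) (.leaf 0)) (.node (.leaf 0) (.leaf 0))) (.node (.node (.leaf 0) (.leaf 0)) (.node (.leaf 0) (.leaf 0)))) (.node (.node (.node (.leaf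 0) (.leaf 105)) (.node (.leaf 0) (.leaf 0))) (.node (.node (.leaf 0) (.leaf 0)) (.leaf 0)))) (.node (.node (.node (.node (.leaf 0) (.leaf 0)) (.node (.leaf 0) (.leaf 0))) (.node (.node (.leaf 0) (.leaf 0)) (.node (.leaf 0) (.leaf 0)))) (.node (.node (.node (.leaf 0) (.leaf 0)) (.node (.leaf 0) (.leaf 0))) (.node (.node (.leaf 0) (.leaf 0)) (.leaf 116))))))) (.node (.node (.node (.node (.node (.node (.node (.leaf 0) (.leaf 0)) (.node (.leaf 42) (.leaf 0))) (.node (.node (.leaf 0) (.leaf 43)) (.node (.leaf 0) (.leaf 0)))) (.node (.node (.node (.leaf 0) (.leaf 121)) (.node (.leaf 25) (.leaf 0))) (.node (.node (.leaf 0) (.leaf 0)) (.node (.leaf 0) (.leaf 0))))) (.node (.node (.node (.node (.leaf 0) (.leaf 0)) (.node (.leaf 0) (.leaf 0))) (.node (.node (.leaf 0) (.leaf 0)) (.node (.leaf 0) (.leaf 96)))) (.node (.node (.node (.leaf 0) (.leaf 0)) (.node (.leaf 0) (.leaf 0))) (.node (.node (.leaf 0) (.leaf 0)) (.leaf 0))))) (.node (.node (.node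 (.node (.node (.leaf 0) (.leaf 0)) (.node (.leaf 0) (.leaf 49))) (.node (.node (.leaf 0) (.leaf 0)) (.node (.leaf 0) (.leaf 0)))) (.node (.node (.node (.leaf 0) (.leaf 0)) (.node (.leaf 0) (.leaf 12))) (.node (.node (.leaf 0) (.leaf 0)) (.leaf 0)))) (.node (.node (.node (.node (.leaf 0) (.leaf 0)) (.node (.leaf 21) (.leaf 7))) (.node (.node (.leaf 0) (.leaf 0)) (.node (.leaf 0) (.leaf 30)))) (.node (.node (.node (.leaf 22) (.leaf 0)) (.node (.leaf 0) (.leaf 0))) (.node (.node (.leaf 0) (.leaf 33)) (.leaf 0)))))) (.node (.node (.node (.node (.node (.node (.leaf 0) (.leaf 0)) (.node (.leaf 23) (.leaf 81))) (.node (.node (.leaf 0) (.leaf 0)) (.node (.leaf 0) (.leaf 0)))) (.node (.node (.node (.leaf 1) (.leaf 0)) (.node (.leaf 0) (.leaf 0))) (.node (.node (.leaf 0) (.leaf 11)) (.node (.leaf 0) (.leaf 0))))) (.node (.node (.node (.node (.leaf 0) (.leaf 30)) (.node (.leaf 0) (.leaf 0))) (.node (.node (.leaf 0) (.leaf 0)) (.node (.leaf 0) (.leaf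 0)))) (.node (.node (.node (.leaf 0) (.leaf 97)) (.node (.leaf 0) (.leaf 0))) (.node (.node (.leaf 0) (.leaf 0)) (.leaf 0))))) (.node (.node (.node (.node (.node (.leaf 0) (.leaf 0)) (.node (.leaf 0) (.leaf 2))) (.node (.node (.leaf 0) (.leaf 0)) (.node (.leaf 0) (.leaf 0)))) (.node (.node (.node (.leaf 0) (.leaf 0)) (.node (.leaf 0) (.leaf 119))) (.node (.node (.leaf 0) (.leaf 0)) (.leaf 0)))) (.node (.node (.node (.node (.leaf 15) (.leaf 0)) (.node (.leaf 0) (.leaf 0))) (.node (.node (.leaf 29) (.leaf 0)) (.node (.leaf 0) (.leaf 0)))) (.node (.node (.node (.leaf 0) (.leaf 0)) (.node (.leaf 0) (.leaf 87))) (.node (.node (.leaf 110) (.leaf 0)) (.leaf 0)))))))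

/-- Part of `posT`. -/
def posT_p100101 : Tr := .node (.node (.node (.node (.node (.node (.node (.node (.leaf 0) (.leaf 0)) (.node (.leaf 0) (.leaf 46))) (.node (.node (.leaf 0) (.leaf 21)) (.node (.leaf 0) (.leaf 0)))) (.node (.node (.node (.leaf 0) (.leaf 0)) (.node (.leaf 0) (.leaf 0))) (.node (.node (.leaf 0) (.leaf 0)) (.node (.leaf 0) (.leaf 0))))) (.node (.node (.node (.node (.leaf 0) (.leaf 0)) (.node (.leaf 0) (.leaf 0))) (.node (.node (.leaf 0) (.leaf 0)) (.node (.leaf 47) (.leaf 0)))) (.node (.node (.node (.leaf 0) (.leaf 0)) (.node (.leaf 0) (.leaf 6))) (.node (.node (.leaf 0) (.leaf 0)) (.leaf 0))))) (.node (.node (.node (.node (.node (.leaf 67) (.leaf 0)) (.node (.leaf 0) (.leaf 0))) (.node (.node (.leaf 0) (.leaf 0)) (.node (.leaf 0) (.leaf 0)))) (.node (.node (.node (.leaf 0) (.leaf 0)) (.node (.leaf 0) (.leaf 0))) (.node (.node (.leaf 104) (.leaf 74)) (.leaf 0)))) (.node (.node (.node (.node (.leaf 0) (.leaf 0)) (.node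 (.leaf 0) (.leaf 0))) (.node (.node (.leaf 0) (.leaf 0)) (.node (.leaf 0) (.leaf 72)))) (.node (.node (.node (.leaf 0) (.leaf 0)) (.node (.leaf 0) (.leaf 0))) (.node (.node (.leaf 0) (.leaf 0)) (.leaf 0)))))) (.node (.node (.node (.node (.node (.node (.leaf 0) (.leaf 0)) (.node (.leaf 0) (.leaf 0))) (.node (.node (.leaf 0) (.leaf 114)) (.node (.leaf 0) (.leaf 0)))) (.node (.node (.node (.leaf 0) (.leaf 0)) (.node (.leaf 0) (.leaf 0))) (.node (.node (.leaf 0) (.leaf 89)) (.node (.leaf 68) (.leaf 0))))) (.node (.node (.node (.node (.leaf 0) (.leaf 0)) (.node (.leaf 0) (.leaf 0))) (.node (.node (.leaf 0) (.leaf 0)) (.node (.leaf 0) (.leaf 7)))) (.node (.node (.node (.leaf 0) (.leaf 0)) (.node (.leaf 0) (.leaf 0))) (.node (.node (.leaf 0) (.leaf 58)) (.leaf 0))))) (.node (.node (.node (.node (.node (.leaf 0) (.leaf 113)) (.node (.leaf 0) (.leaf 0))) (.node (.node (.leaf 0) (.leaf 0)) (.node (.leaf 0) (.leaf 0)))) (.node (.node (.node (.leaf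 58) (.leaf 0)) (.node (.leaf 0) (.leaf 0))) (.node (.node (.leaf 0) (.leaf 73)) (.leaf 0)))) (.node (.node (.node (.node (.leaf 0) (.leaf 0)) (.node (.leaf 65) (.leaf 4))) (.node (.node (.leaf 0) (.leaf 0)) (.node (.leaf 0) (.leaf 0)))) (.node (.node (.node (.leaf 0) (.leaf 0)) (.node (.leaf 0) (.leaf 0))) (.node (.node (.leaf 51) (.leaf 39)) (.leaf 0))))))) (.node (.node (.node (.node (.node (.node (.node (.leaf 0) (.leaf 0)) (.node (.leaf 0) (.leaf 0))) (.node (.node (.leaf 0) (.leaf 0)) (.node (.leaf 0) (.leaf 0)))) (.node (.node (.node (.leaf 86) (.leaf 0)) (.node (.leaf 0) (.leaf 0))) (.node (.node (.leaf 0) (.leaf 9)) (.node (.leaf 0) (.leaf 0))))) (.node (.node (.node (.node (.leaf 90) (.leaf 0)) (.node (.leaf 0) (.leaf 0))) (.node (.node (.leaf 0) (.leaf 0)) (.node (.leaf 0) (.leaf 0)))) (.node (.node (.node (.leaf 0) (.leaf 17)) (.node (.leaf 0) (.leaf 106))) (.node (.node (.leaf 0) (.leaf 0)) (.leaf 0))))) (.node (.node (.node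 (.node (.node (.leaf 0) (.leaf 0)) (.node (.leaf 0) (.leaf 74))) (.node (.node (.leaf 0) (.leaf 0)) (.node (.leaf 0) (.leaf 112)))) (.node (.node (.node (.leaf 0) (.leaf 0)) (.node (.leaf 0) (.leaf 122))) (.node (.node (.leaf 0) (.leaf 0)) (.leaf 0)))) (.node (.node (.node (.node (.leaf 0) (.leaf 0)) (.node (.leaf 0) (.leaf 0))) (.node (.node (.leaf 0) (.leaf 86)) (.node (.leaf 0) (.leaf 58)))) (.node (.node (.node (.leaf 0) (.leaf 24)) (.node (.leaf 0) (.leaf 112))) (.node (.node (.leaf 0) (.leaf 0)) (.leaf 0)))))) (.node (.node (.node (.node (.node (.node (.leaf 0) (.leaf 0)) (.node (.leaf 0) (.leaf 0))) (.node (.node (.leaf 0) (.leaf 0)) (.node (.leaf 0) (.leaf 0)))) (.node (.node (.node (.leaf 0) (.leaf 89)) (.node (.leaf 0) (.leaf 46))) (.node (.node (.leaf 0) (.leaf 0)) (.node (.leaf 0) (.leaf 0))))) (.node (.node (.node (.node (.leaf 71) (.leaf 0)) (.node (.leaf 0) (.leaf 0))) (.node (.node (.leaf 94) (.leaf 0)) (.node (.leaf 0)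 (.leaf 0)))) (.node (.node (.node (.leaf 87) (.leaf 0)) (.node (.leaf 114) (.leaf 81))) (.node (.node (.leaf 0) (.leaf 73)) (.leaf 33))))) (.node (.node (.node (.node (.node (.leaf 0) (.leaf 0)) (.node (.leaf 0) (.leaf 97))) (.node (.node (.leaf 0) (.leaf 0)) (.node (.leaf 0) (.leaf 0)))) (.node (.node (.node (.leaf 0) (.leaf 0)) (.node (.leaf 107) (.leaf 0))) (.node (.node (.leaf 0) (.leaf 0)) (.leaf 0)))) (.node (.node (.node (.node (.leaf 0) (.leaf 63)) (.node (.leaf 0) (.leaf 0))) (.node (.node (.leaf 0) (.leaf 0)) (.node (.leaf 0) (.leaf 0)))) (.node (.node (.node (.leaf 0) (.leaf 0)) (.node (.leaf 0) (.leaf 69))) (.node (.node (.leaf 0) (.leaf 0)) (.leaf 21)))))))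

/-- Part of `posT`. -/
def posT_p100110 : Tr := .node (.node (.node (.node (.node (.node (.node (.node (.leaf 0) (.leaf 0)) (.node (.leaf 0) (.leaf 118))) (.node (.node (.leaf 0) (.leaf 0)) (.node (.leaf 0) (.leaf 0)))) (.node (.node (.node (.leaf 0) (.leaf 0)) (.node (.leaf 0) (.leaf 0))) (.node (.node (.leaf 12) (.leaf 97)) (.node (.leaf 72) (.leaf 0))))) (.node (.node (.node (.node (.leaf 111) (.leaf 0)) (.node (.leaf 0) (.leaf 0))) (.node (.node (.leaf 0) (.leaf 0)) (.node (.leaf 0) (.leaf 0)))) (.node (.node (.node (.leaf 0) (.leaf 0)) (.node (.leaf 0) (.leaf 48))) (.node (.node (.leaf 28) (.leaf 0)) (.leaf 0))))) (.node (.node (.node (.node (.node (.leaf 0) (.leaf 0)) (.node (.leaf 0) (.leaf 30))) (.node (.node (.leaf 0) (.leaf 9)) (.node (.leaf 0) (.leaf 0)))) (.node (.node (.node (.leaf 0) (.leaf 103)) (.node (.leaf 0) (.leaf 0))) (.node (.node (.leaf 0) (.leaf 0)) (.leaf 0)))) (.node (.node (.node (.node (.leaf 0) (.leaf 0))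 (.node (.leaf 0) (.leaf 0))) (.node (.node (.leaf 9) (.leaf 0)) (.node (.leaf 0) (.leaf 0)))) (.node (.node (.node (.leaf 0) (.leaf 0)) (.node (.leaf 0) (.leaf 0))) (.node (.node (.leaf 0) (.leaf 0)) (.leaf 95)))))) (.node (.node (.node (.node (.node (.node (.leaf 0) (.leaf 0)) (.node (.leaf 0) (.leaf 0))) (.node (.node (.leaf 0) (.leaf 0)) (.node (.leaf 30) (.leaf 0)))) (.node (.node (.node (.leaf 0) (.leaf 115)) (.node (.leaf 0) (.leaf 0))) (.node (.node (.leaf 0) (.leaf 0)) (.node (.leaf 0) (.leaf 0))))) (.node (.node (.node (.node (.leaf 0) (.leaf 0)) (.node (.leaf 0) (.leaf 0))) (.node (.node (.leaf 0) (.leaf 0)) (.node (.leaf 0) (.leaf 98)))) (.node (.node (.node (.leaf 0) (.leaf 0)) (.node (.leaf 106) (.leaf 42))) (.node (.node (.leaf 0) (.leaf 0)) (.leaf 0))))) (.node (.node (.node (.node (.node (.leaf 0) (.leaf 115)) (.node (.leaf 0) (.leaf 0))) (.node (.node (.leaf 0) (.leaf 62)) (.node (.leaf 0) (.leaf 0)))) (.node (.node (.node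 (.leaf 0) (.leaf 0)) (.node (.leaf 0) (.leaf 2))) (.node (.node (.leaf 23) (.leaf 0)) (.leaf 0)))) (.node (.node (.node (.node (.leaf 0) (.leaf 0)) (.node (.leaf 0) (.leaf 0))) (.node (.node (.leaf 61) (.leaf 0)) (.node (.leaf 0) (.leaf 0)))) (.node (.node (.node (.leaf 0) (.leaf 0)) (.node (.leaf 105) (.leaf 0))) (.node (.node (.leaf 0) (.leaf 0)) (.leaf 0))))))) (.node (.node (.node (.node (.node (.node (.node (.leaf 0) (.leaf 0)) (.node (.leaf 0) (.leaf 23))) (.node (.node (.leaf 0) (.leaf 12)) (.node (.leaf 38) (.leaf 0)))) (.node (.node (.node (.leaf 81) (.leaf 0)) (.node (.leaf 0) (.leaf 0))) (.node (.node (.leaf 0) (.leaf 0)) (.node (.leaf 0) (.leaf 0))))) (.node (.node (.node (.node (.leaf 5) (.leaf 50)) (.node (.leaf 115) (.leaf 0))) (.node (.node (.leaf 0) (.leaf 0)) (.node (.leaf 0) (.leaf 22)))) (.node (.node (.node (.leaf 0) (.leaf 0)) (.node (.leaf 0) (.leaf 0))) (.node (.node (.leaf 0) (.leaf 0)) (.leaf 0))))) (.node (.node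 (.node (.node (.node (.leaf 0) (.leaf 104)) (.node (.leaf 0) (.leaf 0))) (.node (.node (.leaf 0) (.leaf 0)) (.node (.leaf 0) (.leaf 0)))) (.node (.node (.node (.leaf 0) (.leaf 0)) (.node (.leaf 94) (.leaf 16))) (.node (.node (.leaf 0) (.leaf 0)) (.leaf 0)))) (.node (.node (.node (.node (.leaf 0) (.leaf 83)) (.node (.leaf 0) (.leaf 0))) (.node (.node (.leaf 0) (.leaf 0)) (.node (.leaf 0) (.leaf 0)))) (.node (.node (.node (.leaf 0) (.leaf 0)) (.node (.leaf 0) (.leaf 0))) (.node (.node (.leaf 0) (.leaf 0)) (.leaf 4)))))) (.node (.node (.node (.node (.node (.node (.leaf 0) (.leaf 0)) (.node (.leaf 0) (.leaf 0))) (.node (.node (.leaf 0) (.leaf 0)) (.node (.leaf 0) (.leaf 0)))) (.node (.node (.node (.leaf 0) (.leaf 0)) (.node (.leaf 0) (.leaf 0))) (.node (.node (.leaf 58) (.leaf 0)) (.node (.leaf 0) (.leaf 75))))) (.node (.node (.node (.node (.leaf 0) (.leaf 0)) (.node (.leaf 0) (.leaf 0))) (.node (.node (.leaf 0) (.leaf 71)) (.node (.leaf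 0) (.leaf 25)))) (.node (.node (.node (.leaf 0) (.leaf 0)) (.node (.leaf 30) (.leaf 0))) (.node (.node (.leaf 0) (.leaf 12)) (.leaf 27))))) (.node (.node (.node (.node (.node (.leaf 0) (.leaf 0)) (.node (.leaf 0) (.leaf 0))) (.node (.node (.leaf 62) (.leaf 0)) (.node (.leaf 0) (.leaf 0)))) (.node (.node (.node (.leaf 101) (.leaf 0)) (.node (.leaf 15) (.leaf 58))) (.node (.node (.leaf 0) (.leaf 92)) (.leaf 0)))) (.node (.node (.node (.node (.leaf 0) (.leaf 0)) (.node (.leaf 12) (.leaf 0))) (.node (.node (.leaf 0) (.leaf 3)) (.node (.leaf 0) (.leaf 0)))) (.node (.node (.node (.leaf 0) (.leaf 0)) (.node (.leaf 43) (.leaf 0))) (.node (.node (.leaf 0) (.leaf 15)) (.leaf 0)))))))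

/-- Part of `posT`. -/
def posT_p100111 : Tr := .node (.node (.node (.node (.node (.node (.node (.node (.leaf 0) (.leaf 0)) (.node (.leaf 0) (.leaf 0))) (.node (.node (.leaf 0) (.leaf 0)) (.node (.leaf 0) (.leaf 0)))) (.node (.node (.node (.leaf 0) (.leaf 0)) (.node (.leaf 0) (.leaf 0))) (.node (.node (.leaf 0) (.leaf 0)) (.node (.leaf 0) (.leaf 0))))) (.node (.node (.node (.node (.leaf 67) (.leaf 0)) (.node (.leaf 0) (.leaf 0))) (.node (.node (.leaf 0) (.leaf 0)) (.node (.leaf 0) (.leaf 0)))) (.node (.node (.node (.leaf 0) (.leaf 0)) (.node (.leaf 0) (.leaf 0))) (.node (.node (.leaf 0) (.leaf 39)) (.leaf 0))))) (.node (.node (.node (.node (.node (.leaf 0) (.leaf 0)) (.node (.leaf 0) (.leaf 26))) (.node (.node (.leaf 72) (.leaf 0)) (.node (.leaf 0) (.leaf 0)))) (.node (.node (.node (.leaf 0) (.leaf 0)) (.node (.leaf 88) (.leaf 0))) (.node (.node (.leaf 0) (.leaf 0)) (.leaf 0)))) (.node (.node (.node (.node (.leaf 0) (.leaf 0)) (.node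 (.leaf 100) (.leaf 0))) (.node (.node (.leaf 0) (.leaf 0)) (.node (.leaf 79) (.leaf 0)))) (.node (.node (.node (.leaf 120) (.leaf 0)) (.node (.leaf 0) (.leaf 66))) (.node (.node (.leaf 0) (.leaf 0)) (.leaf 79)))))) (.node (.node (.node (.node (.node (.node (.leaf 0) (.leaf 0)) (.node (.leaf 0) (.leaf 0))) (.node (.node (.leaf 0) (.leaf 0)) (.node (.leaf 0) (.leaf 0)))) (.node (.node (.node (.leaf 0) (.leaf 0)) (.node (.leaf 0) (.leaf 0))) (.node (.node (.leaf 0) (.leaf 0)) (.node (.leaf 74) (.leaf 0))))) (.node (.node (.node (.node (.leaf 0) (.leaf 0)) (.node (.leaf 0) (.leaf 0))) (.node (.node (.leaf 0) (.leaf 0)) (.node (.leaf 0) (.leaf 0)))) (.node (.node (.node (.leaf 0) (.leaf 0)) (.node (.leaf 0) (.leaf 0))) (.node (.node (.leaf 0) (.leaf 92)) (.leaf 0))))) (.node (.node (.node (.node (.node (.leaf 0) (.leaf 0)) (.node (.leaf 0) (.leaf 0))) (.node (.node (.leaf 0) (.leaf 0)) (.node (.leaf 82) (.leaf 0)))) (.node (.node (.node (.leaf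 0) (.leaf 0)) (.node (.leaf 0) (.leaf 0))) (.node (.node (.leaf 0) (.leaf 122)) (.leaf 0)))) (.node (.node (.node (.node (.leaf 0) (.leaf 0)) (.node (.leaf 0) (.leaf 0))) (.node (.node (.leaf 113) (.leaf 0)) (.node (.leaf 0) (.leaf 52)))) (.node (.node (.node (.leaf 0) (.leaf 117)) (.node (.leaf 0) (.leaf 0))) (.node (.node (.leaf 0) (.leaf 26)) (.leaf 0))))))) (.node (.node (.node (.node (.node (.node (.node (.leaf 111) (.leaf 0)) (.node (.leaf 0) (.leaf 0))) (.node (.node (.leaf 68) (.leaf 0)) (.node (.leaf 0) (.leaf 0)))) (.node (.node (.node (.leaf 0) (.leaf 0)) (.node (.leaf 0) (.leaf 0))) (.node (.node (.leaf 0) (.leaf 0)) (.node (.leaf 0) (.leaf 0))))) (.node (.node (.node (.node (.leaf 0) (.leaf 0)) (.node (.leaf 0) (.leaf 61))) (.node (.node (.leaf 0) (.leaf 0)) (.node (.leaf 54) (.leaf 0)))) (.node (.node (.node (.leaf 0) (.leaf 0)) (.node (.leaf 0) (.leaf 0))) (.node (.node (.leaf 0) (.leaf 78)) (.leaf 0))))) (.node (.node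 (.node (.node (.node (.leaf 0) (.leaf 84)) (.node (.leaf 0) (.leaf 0))) (.node (.node (.leaf 0) (.leaf 0)) (.node (.leaf 0) (.leaf 0)))) (.node (.node (.node (.leaf 0) (.leaf 123)) (.node (.leaf 0) (.leaf 0))) (.node (.node (.leaf 0) (.leaf 0)) (.leaf 25)))) (.node (.node (.node (.node (.leaf 0) (.leaf 0)) (.node (.leaf 0) (.leaf 0))) (.node (.node (.leaf 0) (.leaf 10)) (.node (.leaf 0) (.leaf 0)))) (.node (.node (.node (.leaf 0) (.leaf 0)) (.node (.leaf 121) (.leaf 0))) (.node (.node (.leaf 0) (.leaf 95)) (.leaf 110)))))) (.node (.node (.node (.node (.node (.node (.leaf 0) (.leaf 28)) (.node (.leaf 0) (.leaf 89))) (.node (.node (.leaf 0) (.leaf 0)) (.node (.leaf 0) (.leaf 0)))) (.node (.node (.node (.leaf 0) (.leaf 0)) (.node (.leaf 0) (.leaf 0))) (.node (.node (.leaf 0) (.leaf 0)) (.node (.leaf 0) (.leaf 0))))) (.node (.node (.node (.node (.leaf 0) (.leaf 0)) (.node (.leaf 0) (.leaf 0))) (.node (.node (.leaf 0) (.leaf 0)) (.node (.leaf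 0) (.leaf 106)))) (.node (.node (.node (.leaf 44) (.leaf 116)) (.node (.leaf 99) (.leaf 47))) (.node (.node (.leaf 9) (.leaf 0)) (.leaf 0))))) (.node (.node (.node (.node (.node (.leaf 0) (.leaf 102)) (.node (.leaf 0) (.leaf 0))) (.node (.node (.leaf 0) (.leaf 19)) (.node (.leaf 0) (.leaf 0)))) (.node (.node (.node (.leaf 0) (.leaf 0)) (.node (.leaf 0) (.leaf 0))) (.node (.node (.leaf 0) (.leaf 0)) (.leaf 0)))) (.node (.node (.node (.node (.leaf 0) (.leaf 0)) (.node (.leaf 0) (.leaf 0))) (.node (.node (.leaf 50) (.leaf 0)) (.node (.leaf 0) (.leaf 0)))) (.node (.node (.node (.leaf 0) (.leaf 0)) (.node (.leaf 0) (.leaf 9))) (.node (.node (.leaf 0) (.leaf 101)) (.leaf 0)))))))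

/-- Part of `posT`. -/
def posT_p101000 : Tr := .node (.node (.node (.node (.node (.node (.node (.node (.leaf 0) (.leaf 0)) (.node (.leaf 0) (.leaf 0))) (.node (.node (.leaf 65) (.leaf 17)) (.node (.leaf 0) (.leaf 0)))) (.node (.node (.node (.leaf 79) (.leaf 0)) (.node (.leaf 1) (.leaf 0))) (.node (.node (.leaf 0) (.leaf 0)) (.node (.leaf 0) (.leaf 0))))) (.node (.node (.node (.node (.leaf 0) (.leaf 0)) (.node (.leaf 0) (.leaf 0))) (.node (.node (.leaf 0) (.leaf 0)) (.node (.leaf 0) (.leaf 0)))) (.node (.node (.node (.leaf 27) (.leaf 0)) (.node (.leaf 98) (.leaf 0))) (.node (.node (.leaf 0) (.leaf 0)) (.leaf 49))))) (.node (.node (.node (.node (.node (.leaf 5) (.leaf 0)) (.node (.leaf 84) (.leaf 0))) (.node (.node (.leaf 0) (.leaf 0)) (.node (.leaf 0) (.leaf 0)))) (.node (.node (.node (.leaf 0) (.leaf 0)) (.node (.leaf 0) (.leaf 0))) (.node (.node (.leaf 0) (.leaf 0)) (.node (.leaf 0) (.leaf 0))))) (.node (.node (.node (.node (.leaf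 0) (.leaf 0)) (.node (.leaf 0) (.leaf 0))) (.node (.node (.leaf 0) (.leaf 0)) (.node (.leaf 52) (.leaf 0)))) (.node (.node (.node (.leaf 28) (.leaf 0)) (.node (.leaf 0) (.leaf 117))) (.node (.node (.leaf 0) (.leaf 0)) (.leaf 22)))))) (.node (.node (.node (.node (.node (.node (.leaf 5) (.leaf 0)) (.node (.leaf 0) (.leaf 0))) (.node (.node (.leaf 0) (.leaf 0)) (.node (.leaf 0) (.leaf 0)))) (.node (.node (.node (.leaf 0) (.leaf 0)) (.node (.leaf 0) (.leaf 0))) (.node (.node (.leaf 40) (.leaf 0)) (.node (.leaf 42) (.leaf 0))))) (.node (.node (.node (.node (.leaf 0) (.leaf 0)) (.node (.leaf 0) (.leaf 0))) (.node (.node (.leaf 0) (.leaf 96)) (.node (.leaf 0) (.leaf 26)))) (.node (.node (.node (.leaf 11) (.leaf 0)) (.node (.leaf 0) (.leaf 0))) (.node (.node (.leaf 0) (.leaf 0)) (.leaf 0))))) (.node (.node (.node (.node (.node (.leaf 64) (.leaf 0)) (.node (.leaf 81) (.leaf 0))) (.node (.node (.leaf 0) (.leaf 0)) (.node (.leaf 0) (.leaf 0))))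 (.node (.node (.node (.leaf 0) (.leaf 0)) (.node (.leaf 0) (.leaf 0))) (.node (.node (.leaf 0) (.leaf 0)) (.leaf 0)))) (.node (.node (.node (.node (.leaf 82) (.leaf 116)) (.node (.leaf 0) (.leaf 0))) (.node (.node (.leaf 0) (.leaf 0)) (.node (.leaf 51) (.leaf 0)))) (.node (.node (.node (.leaf 0) (.leaf 27)) (.node (.leaf 79) (.leaf 0))) (.node (.node (.leaf 0) (.leaf 0)) (.leaf 0))))))) (.node (.node (.node (.node (.node (.node (.node (.leaf 0) (.leaf 0)) (.node (.leaf 0) (.leaf 0))) (.node (.node (.leaf 0) (.leaf 0)) (.node (.leaf 0) (.leaf 0)))) (.node (.node (.node (.leaf 0) (.leaf 0)) (.node (.leaf 0) (.leaf 17))) (.node (.node (.leaf 0) (.leaf 0)) (.node (.leaf 0) (.leaf 0))))) (.node (.node (.node (.node (.leaf 0) (.leaf 119)) (.node (.leaf 0) (.leaf 0))) (.node (.node (.leaf 40) (.leaf 0)) (.node (.leaf 3) (.leaf 0)))) (.node (.node (.node (.leaf 52) (.leaf 0)) (.node (.leaf 0) (.leaf 0))) (.node (.node (.leaf 0) (.leaf 0)) (.leaf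 0))))) (.node (.node (.node (.node (.node (.leaf 0) (.leaf 0)) (.node (.leaf 0) (.leaf 32))) (.node (.node (.leaf 0) (.leaf 0)) (.node (.leaf 0) (.leaf 0)))) (.node (.node (.node (.leaf 0) (.leaf 0)) (.node (.leaf 0) (.leaf 0))) (.node (.node (.leaf 0) (.leaf 22)) (.leaf 0)))) (.node (.node (.node (.node (.leaf 0) (.leaf 0)) (.node (.leaf 0) (.leaf 0))) (.node (.node (.leaf 118) (.leaf 0)) (.node (.leaf 0) (.leaf 84)))) (.node (.node (.node (.leaf 0) (.leaf 0)) (.node (.leaf 0) (.leaf 0))) (.node (.node (.leaf 0) (.leaf 0)) (.leaf 0)))))) (.node (.node (.node (.node (.node (.node (.leaf 0) (.leaf 0)) (.node (.leaf 0) (.leaf 0))) (.node (.node (.leaf 110) (.leaf 116)) (.node (.leaf 0) (.leaf 0)))) (.node (.node (.node (.leaf 0) (.leaf 0)) (.node (.leaf 0) (.leaf 92))) (.node (.node (.leaf 0) (.leaf 0)) (.node (.leaf 0) (.leaf 0))))) (.node (.node (.node (.node (.leaf 0) (.leaf 0)) (.node (.leaf 0) (.leaf 0))) (.node (.node (.leaf 39) (.leaf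 0)) (.node (.leaf 63) (.leaf 0)))) (.node (.node (.node (.leaf 0) (.leaf 0)) (.node (.leaf 0) (.leaf 0))) (.node (.node (.leaf 0) (.leaf 0)) (.leaf 0))))) (.node (.node (.node (.node (.node (.leaf 111) (.leaf 0)) (.node (.leaf 26) (.leaf 94))) (.node (.node (.leaf 0) (.leaf 0)) (.node (.leaf 35) (.leaf 0)))) (.node (.node (.node (.leaf 0) (.leaf 0)) (.node (.leaf 0) (.leaf 0))) (.node (.node (.leaf 0) (.leaf 0)) (.leaf 0)))) (.node (.node (.node (.node (.leaf 0) (.leaf 0)) (.node (.leaf 0) (.leaf 0))) (.node (.node (.leaf 75) (.leaf 0)) (.node (.leaf 0) (.leaf 0)))) (.node (.node (.node (.leaf 0) (.leaf 0)) (.node (.leaf 0) (.leaf 43))) (.node (.node (.leaf 0) (.leaf 0)) (.leaf 0)))))))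

/-- Part of `posT`. -/
def posT_p101001 : Tr := .node (.node (.node (.node (.node (.node (.node (.node (.leaf 0) (.leaf 0)) (.node (.leaf 0) (.leaf 0))) (.node (.node (.leaf 0) (.leaf 66)) (.node (.leaf 29) (.leaf 0)))) (.node (.node (.node (.leaf 101) (.leaf 15)) (.node (.leaf 0) (.leaf 29))) (.node (.node (.leaf 0) (.leaf 0)) (.node (.leaf 0) (.leaf 0))))) (.node (.node (.node (.node (.leaf 0) (.leaf 0)) (.node (.leaf 0) (.leaf 27))) (.node (.node (.leaf 0) (.leaf 0)) (.node (.leaf 0) (.leaf 0)))) (.node (.node (.node (.leaf 0) (.leaf 0)) (.node (.leaf 0) (.leaf 0))) (.node (.node (.leaf 15) (.leaf 0)) (.leaf 0))))) (.node (.node (.node (.node (.node (.leaf 0) (.leaf 0)) (.node (.leaf 119) (.leaf 0))) (.node (.node (.leaf 0) (.leaf 0)) (.node (.leaf 19) (.leaf 101)))) (.node (.node (.node (.leaf 0) (.leaf 0)) (.node (.leaf 0) (.leaf 39))) (.node (.node (.leaf 0) (.leaf 0)) (.leaf 0)))) (.node (.node (.node (.node (.leaf 0) (.leaf 0))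 (.node (.leaf 0) (.leaf 0))) (.node (.node (.leaf 0) (.leaf 0)) (.node (.leaf 0) (.leaf 50)))) (.node (.node (.node (.leaf 0) (.leaf 0)) (.node (.leaf 8) (.leaf 0))) (.node (.node (.leaf 0) (.leaf 0)) (.leaf 0)))))) (.node (.node (.node (.node (.node (.node (.leaf 0) (.leaf 0)) (.node (.leaf 27) (.leaf 0))) (.node (.node (.leaf 0) (.leaf 0)) (.node (.leaf 32) (.leaf 0)))) (.node (.node (.node (.leaf 0) (.leaf 0)) (.node (.leaf 0) (.leaf 0))) (.node (.node (.leaf 43) (.leaf 0)) (.node (.leaf 0) (.leaf 0))))) (.node (.node (.node (.node (.leaf 0) (.leaf 0)) (.node (.leaf 0) (.leaf 0))) (.node (.node (.leaf 8) (.leaf 88)) (.node (.leaf 0) (.leaf 57)))) (.node (.node (.node (.leaf 0) (.leaf 0)) (.node (.leaf 44) (.leaf 0))) (.node (.node (.leaf 0) (.leaf 17)) (.leaf 66))))) (.node (.node (.node (.node (.node (.leaf 0) (.leaf 88)) (.node (.leaf 0) (.leaf 0))) (.node (.node (.leaf 0) (.leaf 83)) (.node (.leaf 79) (.leaf 0)))) (.node (.node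 (.node (.leaf 0) (.leaf 95)) (.node (.leaf 0) (.leaf 44))) (.node (.node (.leaf 0) (.leaf 0)) (.leaf 0)))) (.node (.node (.node (.node (.leaf 0) (.leaf 8)) (.node (.leaf 0) (.leaf 0))) (.node (.node (.leaf 0) (.leaf 0)) (.node (.leaf 0) (.leaf 0)))) (.node (.node (.node (.leaf 93) (.leaf 97)) (.node (.leaf 0) (.leaf 0))) (.node (.node (.leaf 0) (.leaf 0)) (.leaf 0))))))) (.node (.node (.node (.node (.node (.node (.node (.leaf 0) (.leaf 0)) (.node (.leaf 0) (.leaf 0))) (.node (.node (.leaf 33) (.leaf 0)) (.node (.leaf 0) (.leaf 0)))) (.node (.node (.node (.leaf 0) (.leaf 0)) (.node (.leaf 0) (.leaf 0))) (.node (.node (.leaf 0) (.leaf 0)) (.node (.leaf 0) (.leaf 0))))) (.node (.node (.node (.node (.leaf 64) (.leaf 35)) (.node (.leaf 0) (.leaf 0))) (.node (.node (.leaf 0) (.leaf 0)) (.node (.leaf 0) (.leaf 0)))) (.node (.node (.node (.leaf 0) (.leaf 0)) (.node (.leaf 0) (.leaf 0))) (.node (.node (.leaf 0) (.leaf 0)) (.leaf 0))))) (.node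 (.node (.node (.node (.node (.leaf 76) (.leaf 0)) (.node (.leaf 109) (.leaf 0))) (.node (.node (.leaf 0) (.leaf 0)) (.node (.leaf 13) (.leaf 0)))) (.node (.node (.node (.leaf 0) (.leaf 0)) (.node (.leaf 0) (.leaf 0))) (.node (.node (.leaf 63) (.leaf 0)) (.leaf 0)))) (.node (.node (.node (.node (.leaf 0) (.leaf 0)) (.node (.leaf 0) (.leaf 0))) (.node (.node (.leaf 99) (.leaf 0)) (.node (.leaf 0) (.leaf 0)))) (.node (.node (.node (.leaf 7) (.leaf 0)) (.node (.leaf 109) (.leaf 0))) (.node (.node (.leaf 0) (.leaf 0)) (.leaf 0)))))) (.node (.node (.node (.node (.node (.node (.leaf 64) (.leaf 0)) (.node (.leaf 0) (.leaf 0))) (.node (.node (.leaf 0) (.leaf 0)) (.node (.leaf 117) (.leaf 0)))) (.node (.node (.node (.leaf 0) (.leaf 0)) (.node (.leaf 0) (.leaf 109))) (.node (.node (.leaf 0) (.leaf 0)) (.node (.leaf 0) (.leaf 0))))) (.node (.node (.node (.node (.leaf 74) (.leaf 0)) (.node (.leaf 0) (.leaf 0))) (.node (.node (.leaf 0) (.leaf 0)) (.node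 (.leaf 57) (.leaf 0)))) (.node (.node (.node (.leaf 0) (.leaf 0)) (.node (.leaf 0) (.leaf 0))) (.node (.node (.leaf 0) (.leaf 0)) (.leaf 0))))) (.node (.node (.node (.node (.node (.leaf 90) (.leaf 0)) (.node (.leaf 0) (.leaf 0))) (.node (.node (.leaf 0) (.leaf 0)) (.node (.leaf 84) (.leaf 0)))) (.node (.node (.node (.leaf 75) (.leaf 0)) (.node (.leaf 0) (.leaf 121))) (.node (.node (.leaf 0) (.leaf 0)) (.leaf 0)))) (.node (.node (.node (.node (.leaf 0) (.leaf 0)) (.node (.leaf 0) (.leaf 123))) (.node (.node (.leaf 0) (.leaf 0)) (.node (.leaf 0) (.leaf 0)))) (.node (.node (.node (.leaf 0) (.leaf 0)) (.node (.leaf 0) (.leaf 0))) (.node (.node (.leaf 0) (.leaf 0)) (.leaf 0)))))))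

/-- Part of `posT`. -/
def posT_p101010 : Tr := .node (.node (.node (.node (.node (.node (.node (.node (.leaf 0) (.leaf 0)) (.node (.leaf 0) (.leaf 0))) (.node (.node (.leaf 0) (.leaf 0)) (.node (.leaf 74) (.leaf 0)))) (.node (.node (.node (.leaf 0) (.leaf 0)) (.node (.leaf 0) (.leaf 0))) (.node (.node (.leaf 0) (.leaf 0)) (.node (.leaf 0) (.leaf 80))))) (.node (.node (.node (.node (.leaf 0) (.leaf 8)) (.node (.leaf 15) (.leaf 0))) (.node (.node (.leaf 0) (.leaf 0)) (.node (.leaf 0) (.leaf 0)))) (.node (.node (.node (.leaf 0) (.leaf 0)) (.node (.leaf 0) (.leaf 0))) (.node (.node (.leaf 0) (.leaf 0)) (.leaf 0))))) (.node (.node (.node (.node (.node (.leaf 0) (.leaf 69)) (.node (.leaf 71) (.leaf 0))) (.node (.node (.leaf 4) (.leaf 0)) (.node (.leaf 11) (.leaf 0)))) (.node (.node (.node (.leaf 0) (.leaf 0)) (.node (.leaf 0) (.leaf 0))) (.node (.node (.leaf 0) (.leaf 0)) (.leaf 0)))) (.node (.node (.node (.node (.leaf 0) (.leaf 0)) (.node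 (.leaf 0) (.leaf 0))) (.node (.node (.leaf 0) (.leaf 51)) (.node (.leaf 0) (.leaf 0)))) (.node (.node (.node (.leaf 0) (.leaf 0)) (.node (.leaf 0) (.leaf 0))) (.node (.node (.leaf 0) (.leaf 0)) (.leaf 0)))))) (.node (.node (.node (.node (.node (.node (.leaf 0) (.leaf 0)) (.node (.leaf 12) (.leaf 0))) (.node (.node (.leaf 0) (.leaf 0)) (.node (.leaf 0) (.leaf 35)))) (.node (.node (.node (.leaf 0) (.leaf 0)) (.node (.leaf 0) (.leaf 0))) (.node (.node (.leaf 0) (.leaf 0)) (.node (.leaf 102) (.leaf 0))))) (.node (.node (.node (.node (.leaf 16) (.leaf 0)) (.node (.leaf 0) (.leaf 0))) (.node (.node (.leaf 0) (.leaf 117)) (.node (.leaf 0) (.leaf 0)))) (.node (.node (.node (.leaf 0) (.leaf 0)) (.node (.leaf 0) (.leaf 0))) (.node (.node (.leaf 0) (.leaf 0)) (.leaf 0))))) (.node (.node (.node (.node (.node (.leaf 0) (.leaf 0)) (.node (.leaf 0) (.leaf 0))) (.node (.node (.leaf 121) (.leaf 0)) (.node (.leaf 0) (.leaf 0)))) (.node (.node (.node (.leaf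 0) (.leaf 68)) (.node (.leaf 0) (.leaf 0))) (.node (.node (.leaf 83) (.leaf 0)) (.leaf 0)))) (.node (.node (.node (.node (.leaf 35) (.leaf 93)) (.node (.leaf 0) (.leaf 0))) (.node (.node (.leaf 0) (.leaf 0)) (.node (.leaf 0) (.leaf 104)))) (.node (.node (.node (.leaf 0) (.leaf 0)) (.node (.leaf 0) (.leaf 0))) (.node (.node (.leaf 0) (.leaf 0)) (.leaf 87))))))) (.node (.node (.node (.node (.node (.node (.node (.leaf 0) (.leaf 0)) (.node (.leaf 0) (.leaf 0))) (.node (.node (.leaf 0) (.leaf 0)) (.node (.leaf 0) (.leaf 0)))) (.node (.node (.node (.leaf 0) (.leaf 0)) (.node (.leaf 0) (.leaf 0))) (.node (.node (.leaf 0) (.leaf 0)) (.node (.leaf 0) (.leaf 0))))) (.node (.node (.node (.node (.leaf 0) (.leaf 0)) (.node (.leaf 0) (.leaf 0))) (.node (.node (.leaf 0) (.leaf 0)) (.node (.leaf 0) (.leaf 0)))) (.node (.node (.node (.leaf 0) (.leaf 0)) (.node (.leaf 0) (.leaf 54))) (.node (.node (.leaf 81) (.leaf 0)) (.leaf 68))))) (.node (.node (.node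 (.node (.node (.leaf 0) (.leaf 0)) (.node (.leaf 0) (.leaf 0))) (.node (.node (.leaf 39) (.leaf 0)) (.node (.leaf 0) (.leaf 0)))) (.node (.node (.node (.leaf 0) (.leaf 0)) (.node (.leaf 0) (.leaf 0))) (.node (.node (.leaf 0) (.leaf 0)) (.leaf 57)))) (.node (.node (.node (.node (.leaf 0) (.leaf 0)) (.node (.leaf 0) (.leaf 0))) (.node (.node (.leaf 92) (.leaf 0)) (.node (.leaf 0) (.leaf 0)))) (.node (.node (.node (.leaf 0) (.leaf 94)) (.node (.leaf 0) (.leaf 0))) (.node (.node (.leaf 0) (.leaf 0)) (.leaf 0)))))) (.node (.node (.node (.node (.node (.node (.leaf 0) (.leaf 0)) (.node (.leaf 10) (.leaf 0))) (.node (.node (.leaf 0) (.leaf 0)) (.node (.leaf 115) (.leaf 118)))) (.node (.node (.node (.leaf 0) (.leaf 0)) (.node (.leaf 40) (.leaf 0))) (.node (.node (.leaf 0) (.leaf 0)) (.node (.leaf 66) (.leaf 0))))) (.node (.node (.node (.node (.leaf 0) (.leaf 0)) (.node (.leaf 0) (.leaf 0))) (.node (.node (.leaf 42) (.leaf 0)) (.node (.leaf 0)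 (.leaf 0)))) (.node (.node (.node (.leaf 0) (.leaf 0)) (.node (.leaf 0) (.leaf 0))) (.node (.node (.leaf 0) (.leaf 0)) (.leaf 0))))) (.node (.node (.node (.node (.node (.leaf 0) (.leaf 0)) (.node (.leaf 0) (.leaf 0))) (.node (.node (.leaf 0) (.leaf 0)) (.node (.leaf 0) (.leaf 0)))) (.node (.node (.node (.leaf 0) (.leaf 92)) (.node (.leaf 0) (.leaf 0))) (.node (.node (.leaf 0) (.leaf 0)) (.leaf 82)))) (.node (.node (.node (.node (.leaf 0) (.leaf 0)) (.node (.leaf 70) (.leaf 110))) (.node (.node (.leaf 0) (.leaf 0)) (.node (.leaf 1) (.leaf 0)))) (.node (.node (.node (.leaf 14) (.leaf 0)) (.node (.leaf 0) (.leaf 0))) (.node (.node (.leaf 0) (.leaf 0)) (.leaf 98)))))))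

/-- Part of `posT`. -/
def posT_p101011 : Tr := .node (.node (.node (.node (.node (.node (.node (.node (.leaf 0) (.leaf 60)) (.node (.leaf 24) (.leaf 0))) (.node (.node (.leaf 0) (.leaf 0)) (.node (.leaf 0) (.leaf 78)))) (.node (.node (.node (.leaf 0) (.leaf 0)) (.node (.leaf 0) (.leaf 95))) (.node (.node (.leaf 0) (.leaf 0)) (.node (.leaf 0) (.leaf 0))))) (.node (.node (.node (.node (.leaf 0) (.leaf 78)) (.node (.leaf 0) (.leaf 21))) (.node (.node (.leaf 0) (.leaf 0)) (.node (.leaf 0) (.leaf 0)))) (.node (.node (.node (.leaf 0) (.leaf 0)) (.node (.leaf 60) (.leaf 0))) (.node (.node (.leaf 0) (.leaf 0)) (.leaf 0))))) (.node (.node (.node (.node (.node (.leaf 64) (.leaf 0)) (.node (.leaf 0) (.leaf 0))) (.node (.node (.leaf 0) (.leaf 0)) (.node (.leaf 0) (.leaf 0)))) (.node (.node (.node (.leaf 125) (.leaf 0)) (.node (.leaf 0) (.leaf 0))) (.node (.node (.leaf 0) (.leaf 0)) (.leaf 0)))) (.node (.node (.node (.node (.leaf 0) (.leaf 0)) (.node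 (.leaf 0) (.leaf 0))) (.node (.node (.leaf 0) (.leaf 69)) (.node (.leaf 0) (.leaf 71)))) (.node (.node (.node (.leaf 0) (.leaf 107)) (.node (.leaf 0) (.leaf 0))) (.node (.node (.leaf 0) (.leaf 0)) (.leaf 0)))))) (.node (.node (.node (.node (.node (.node (.leaf 0) (.leaf 0)) (.node (.leaf 0) (.leaf 0))) (.node (.node (.leaf 0) (.leaf 93)) (.node (.leaf 0) (.leaf 0)))) (.node (.node (.node (.leaf 0) (.leaf 0)) (.node (.leaf 0) (.leaf 0))) (.node (.node (.leaf 13) (.leaf 0)) (.node (.leaf 0) (.leaf 0))))) (.node (.node (.node (.node (.leaf 0) (.leaf 0)) (.node (.leaf 0) (.leaf 9))) (.node (.node (.leaf 0) (.leaf 0)) (.node (.leaf 23) (.leaf 0)))) (.node (.node (.node (.leaf 0) (.leaf 72)) (.node (.leaf 0) (.leaf 0))) (.node (.node (.leaf 0) (.leaf 0)) (.leaf 0))))) (.node (.node (.node (.node (.node (.leaf 0) (.leaf 120)) (.node (.leaf 0) (.leaf 0))) (.node (.node (.leaf 73) (.leaf 0)) (.node (.leaf 0) (.leaf 0)))) (.node (.node (.node (.leaf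 0) (.leaf 0)) (.node (.leaf 0) (.leaf 0))) (.node (.node (.leaf 0) (.leaf 0)) (.leaf 28)))) (.node (.node (.node (.node (.leaf 0) (.leaf 0)) (.node (.leaf 0) (.leaf 0))) (.node (.node (.leaf 0) (.leaf 0)) (.node (.leaf 0) (.leaf 0)))) (.node (.node (.node (.leaf 114) (.leaf 0)) (.node (.leaf 0) (.leaf 0))) (.node (.node (.leaf 94) (.leaf 102)) (.leaf 0))))))) (.node (.node (.node (.node (.node (.node (.node (.leaf 0) (.leaf 0)) (.node (.leaf 0) (.leaf 115))) (.node (.node (.leaf 0) (.leaf 0)) (.node (.leaf 98) (.leaf 105)))) (.node (.node (.node (.leaf 0) (.leaf 0)) (.node (.leaf 0) (.leaf 0))) (.node (.node (.leaf 117) (.leaf 0)) (.node (.leaf 0) (.leaf 0))))) (.node (.node (.node (.node (.leaf 0) (.leaf 0)) (.node (.leaf 20) (.leaf 0))) (.node (.node (.leaf 0) (.leaf 0)) (.node (.leaf 0) (.leaf 0)))) (.node (.node (.node (.leaf 0) (.leaf 0)) (.node (.leaf 0) (.leaf 0))) (.node (.node (.leaf 0) (.leaf 0)) (.leaf 0))))) (.node (.node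 (.node (.node (.node (.leaf 67) (.leaf 0)) (.node (.leaf 0) (.leaf 99))) (.node (.node (.leaf 0) (.leaf 0)) (.node (.leaf 122) (.leaf 0)))) (.node (.node (.node (.leaf 0) (.leaf 0)) (.node (.leaf 0) (.leaf 0))) (.node (.node (.leaf 0) (.leaf 0)) (.leaf 38)))) (.node (.node (.node (.node (.leaf 14) (.leaf 0)) (.node (.leaf 118) (.leaf 0))) (.node (.node (.leaf 0) (.leaf 0)) (.node (.leaf 0) (.leaf 10)))) (.node (.node (.node (.leaf 0) (.leaf 72)) (.node (.leaf 0) (.leaf 40))) (.node (.node (.leaf 0) (.leaf 0)) (.leaf 0)))))) (.node (.node (.node (.node (.node (.node (.leaf 0) (.leaf 0)) (.node (.leaf 0) (.leaf 0))) (.node (.node (.leaf 0) (.leaf 0)) (.node (.leaf 0) (.leaf 0)))) (.node (.node (.node (.leaf 0) (.leaf 0)) (.node (.leaf 0) (.leaf 0))) (.node (.node (.leaf 0) (.leaf 0)) (.node (.leaf 0) (.leaf 0))))) (.node (.node (.node (.node (.leaf 0) (.leaf 0)) (.node (.leaf 0) (.leaf 82))) (.node (.node (.leaf 73) (.leaf 0)) (.node (.leaf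 100) (.leaf 0)))) (.node (.node (.node (.leaf 0) (.leaf 0)) (.node (.leaf 120) (.leaf 0))) (.node (.node (.leaf 0) (.leaf 21)) (.leaf 0))))) (.node (.node (.node (.node (.node (.leaf 0) (.leaf 0)) (.node (.leaf 0) (.leaf 0))) (.node (.node (.leaf 0) (.leaf 66)) (.node (.leaf 0) (.leaf 0)))) (.node (.node (.node (.leaf 0) (.leaf 0)) (.node (.leaf 54) (.leaf 0))) (.node (.node (.leaf 0) (.leaf 0)) (.leaf 0)))) (.node (.node (.node (.node (.leaf 0) (.leaf 0)) (.node (.leaf 0) (.leaf 0))) (.node (.node (.leaf 0) (.leaf 62)) (.node (.leaf 0) (.leaf 0)))) (.node (.node (.node (.leaf 0) (.leaf 0)) (.node (.leaf 0) (.leaf 0))) (.node (.node (.leaf 0) (.leaf 123)) (.leaf 0)))))))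

/-- Part of `posT`. -/
def posT_p101100 : Tr := .node (.node (.node (.node (.node (.node (.node (.node (.leaf 0) (.leaf 0)) (.node (.leaf 0) (.leaf 89))) (.node (.node (.leaf 0) (.leaf 0)) (.node (.leaf 125) (.leaf 0)))) (.node (.node (.node (.leaf 58) (.leaf 0)) (.node (.leaf 0) (.leaf 0))) (.node (.node (.leaf 52) (.leaf 0)) (.node (.leaf 0) (.leaf 0))))) (.node (.node (.node (.node (.leaf 0) (.leaf 0)) (.node (.leaf 77) (.leaf 48))) (.node (.node (.leaf 0) (.leaf 0)) (.node (.leaf 0) (.leaf 0)))) (.node (.node (.node (.leaf 0) (.leaf 0)) (.node (.leaf 0) (.leaf 0))) (.node (.node (.leaf 0) (.leaf 0)) (.leaf 0))))) (.node (.node (.node (.node (.node (.leaf 111) (.leaf 13)) (.node (.leaf 45) (.leaf 0))) (.node (.node (.leaf 0) (.leaf 123)) (.node (.leaf 0) (.leaf 0)))) (.node (.node (.node (.leaf 0) (.leaf 86)) (.node (.leaf 0) (.leaf 0))) (.node (.node (.leaf 0) (.leaf 0)) (.leaf 0)))) (.node (.node (.node (.node (.leaf 0) (.leaf 0))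 (.node (.leaf 0) (.leaf 0))) (.node (.node (.leaf 0) (.leaf 0)) (.node (.leaf 0) (.leaf 0)))) (.node (.node (.node (.leaf 0) (.leaf 0)) (.node (.leaf 0) (.leaf 0))) (.node (.node (.leaf 0) (.leaf 53)) (.leaf 0)))))) (.node (.node (.node (.node (.node (.node (.leaf 0) (.leaf 14)) (.node (.leaf 0) (.leaf 0))) (.node (.node (.leaf 0) (.leaf 0)) (.node (.leaf 40) (.leaf 0)))) (.node (.node (.node (.leaf 0) (.leaf 0)) (.node (.leaf 0) (.leaf 0))) (.node (.node (.leaf 0) (.leaf 0)) (.node (.leaf 0) (.leaf 0))))) (.node (.node (.node (.node (.leaf 0) (.leaf 81)) (.node (.leaf 0) (.leaf 0))) (.node (.node (.leaf 0) (.leaf 0)) (.node (.leaf 0) (.leaf 0)))) (.node (.node (.node (.leaf 0) (.leaf 0)) (.node (.leaf 0) (.leaf 0))) (.node (.node (.leaf 0) (.leaf 116)) (.leaf 0))))) (.node (.node (.node (.node (.node (.leaf 0) (.leaf 25)) (.node (.leaf 0) (.leaf 0))) (.node (.node (.leaf 0) (.leaf 0)) (.node (.leaf 0) (.leaf 0)))) (.node (.node (.node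 (.leaf 0) (.leaf 0)) (.node (.leaf 0) (.leaf 80))) (.node (.node (.leaf 0) (.leaf 0)) (.leaf 0)))) (.node (.node (.node (.node (.leaf 0) (.leaf 0)) (.node (.leaf 57) (.leaf 73))) (.node (.node (.leaf 0) (.leaf 0)) (.node (.leaf 0) (.leaf 0)))) (.node (.node (.node (.leaf 45) (.leaf 0)) (.node (.leaf 0) (.leaf 0))) (.node (.node (.leaf 0) (.leaf 0)) (.leaf 0))))))) (.node (.node (.node (.node (.node (.node (.node (.leaf 0) (.leaf 0)) (.node (.leaf 0) (.leaf 0))) (.node (.node (.leaf 0) (.leaf 89)) (.node (.leaf 24) (.leaf 0)))) (.node (.node (.node (.leaf 2) (.leaf 0)) (.node (.leaf 0) (.leaf 0))) (.node (.node (.leaf 0) (.leaf 0)) (.node (.leaf 0) (.leaf 0))))) (.node (.node (.node (.node (.leaf 76) (.leaf 0)) (.node (.leaf 29) (.leaf 0))) (.node (.node (.leaf 33) (.leaf 0)) (.node (.leaf 0) (.leaf 0)))) (.node (.node (.node (.leaf 0) (.leaf 0)) (.node (.leaf 0) (.leaf 0))) (.node (.node (.leaf 47) (.leaf 0)) (.leaf 54))))) (.node (.node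 (.node (.node (.node (.leaf 0) (.leaf 0)) (.node (.leaf 0) (.leaf 0))) (.node (.node (.leaf 0) (.leaf 0)) (.node (.leaf 34) (.leaf 0)))) (.node (.node (.node (.leaf 0) (.leaf 70)) (.node (.leaf 0) (.leaf 100))) (.node (.node (.leaf 0) (.leaf 0)) (.leaf 0)))) (.node (.node (.node (.node (.leaf 0) (.leaf 0)) (.node (.leaf 0) (.leaf 0))) (.node (.node (.leaf 0) (.leaf 0)) (.node (.leaf 0) (.leaf 86)))) (.node (.node (.node (.leaf 0) (.leaf 51)) (.node (.leaf 0) (.leaf 0))) (.node (.node (.leaf 0) (.leaf 0)) (.leaf 51)))))) (.node (.node (.node (.node (.node (.node (.leaf 64) (.leaf 52)) (.node (.leaf 0) (.leaf 0))) (.node (.node (.leaf 88) (.leaf 0)) (.node (.leaf 43) (.leaf 0)))) (.node (.node (.node (.leaf 0) (.leaf 0)) (.node (.leaf 0) (.leaf 0))) (.node (.node (.leaf 0) (.leaf 0)) (.node (.leaf 0) (.leaf 0))))) (.node (.node (.node (.node (.leaf 0) (.leaf 0)) (.node (.leaf 0) (.leaf 0))) (.node (.node (.leaf 26) (.leaf 0)) (.node (.leaf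 0) (.leaf 0)))) (.node (.node (.node (.leaf 56) (.leaf 0)) (.node (.leaf 0) (.leaf 0))) (.node (.node (.leaf 0) (.leaf 0)) (.leaf 72))))) (.node (.node (.node (.node (.node (.leaf 0) (.leaf 0)) (.node (.leaf 0) (.leaf 0))) (.node (.node (.leaf 98) (.leaf 0)) (.node (.leaf 0) (.leaf 0)))) (.node (.node (.node (.leaf 41) (.leaf 0)) (.node (.leaf 0) (.leaf 0))) (.node (.node (.leaf 0) (.leaf 0)) (.leaf 104)))) (.node (.node (.node (.node (.leaf 0) (.leaf 0)) (.node (.leaf 0) (.leaf 116))) (.node (.node (.leaf 0) (.leaf 0)) (.node (.leaf 0) (.leaf 0)))) (.node (.node (.node (.leaf 0) (.leaf 0)) (.node (.leaf 0) (.leaf 0))) (.node (.node (.leaf 48) (.leaf 0)) (.leaf 0)))))))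

/-- Part of `posT`. -/
def posT_p101101 : Tr := .node (.node (.node (.node (.node (.node (.node (.node (.leaf 0) (.leaf 0)) (.node (.leaf 0) (.leaf 0))) (.node (.node (.leaf 0) (.leaf 0)) (.node (.leaf 0) (.leaf 0)))) (.node (.node (.node (.leaf 25) (.leaf 0)) (.node (.leaf 0) (.leaf 45))) (.node (.node (.leaf 0) (.leaf 0)) (.node (.leaf 14) (.leaf 108))))) (.node (.node (.node (.node (.leaf 0) (.leaf 0)) (.node (.leaf 0) (.leaf 0))) (.node (.node (.leaf 13) (.leaf 0)) (.node (.leaf 0) (.leaf 0)))) (.node (.node (.node (.leaf 0) (.leaf 0)) (.node (.leaf 0) (.leaf 0))) (.node (.node (.leaf 0) (.leaf 0)) (.leaf 1))))) (.node (.node (.node (.node (.node (.leaf 0) (.leaf 47)) (.node (.leaf 0) (.leaf 115))) (.node (.node (.leaf 0) (.leaf 65)) (.node (.leaf 0) (.leaf 38)))) (.node (.node (.node (.leaf 0) (.leaf 0)) (.node (.leaf 0) (.leaf 0))) (.node (.node (.leaf 0) (.leaf 0)) (.leaf 0)))) (.node (.node (.node (.node (.leaf 0) (.leaf 0))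 (.node (.leaf 70) (.leaf 0))) (.node (.node (.leaf 0) (.leaf 0)) (.node (.leaf 0) (.leaf 0)))) (.node (.node (.node (.leaf 0) (.leaf 68)) (.node (.leaf 0) (.leaf 0))) (.node (.node (.leaf 0) (.leaf 0)) (.leaf 0)))))) (.node (.node (.node (.node (.node (.node (.leaf 0) (.leaf 0)) (.node (.leaf 46) (.leaf 0))) (.node (.node (.leaf 0) (.leaf 0)) (.node (.leaf 0) (.leaf 0)))) (.node (.node (.node (.leaf 105) (.leaf 57)) (.node (.leaf 0) (.leaf 0))) (.node (.node (.leaf 0) (.leaf 0)) (.node (.leaf 0) (.leaf 19))))) (.node (.node (.node (.node (.leaf 0) (.leaf 101)) (.node (.leaf 0) (.leaf 0))) (.node (.node (.leaf 0) (.leaf 0)) (.node (.leaf 83) (.leaf 0)))) (.node (.node (.node (.leaf 0) (.leaf 0)) (.node (.leaf 0) (.leaf 0))) (.node (.node (.leaf 0) (.leaf 0)) (.leaf 0))))) (.node (.node (.node (.node (.node (.leaf 0) (.leaf 0)) (.node (.leaf 0) (.leaf 0))) (.node (.node (.leaf 0) (.leaf 22)) (.node (.leaf 58) (.leaf 0)))) (.node (.node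 (.node (.leaf 80) (.leaf 0)) (.node (.leaf 49) (.leaf 0))) (.node (.node (.leaf 0) (.leaf 0)) (.leaf 0)))) (.node (.node (.node (.node (.leaf 23) (.leaf 0)) (.node (.leaf 0) (.leaf 0))) (.node (.node (.leaf 0) (.leaf 0)) (.node (.leaf 0) (.leaf 0)))) (.node (.node (.node (.leaf 69) (.leaf 0)) (.node (.leaf 0) (.leaf 0))) (.node (.node (.leaf 0) (.leaf 0)) (.leaf 0))))))) (.node (.node (.node (.node (.node (.node (.node (.leaf 5) (.leaf 0)) (.node (.leaf 0) (.leaf 0))) (.node (.node (.leaf 0) (.leaf 0)) (.node (.leaf 0) (.leaf 0)))) (.node (.node (.node (.leaf 0) (.leaf 20)) (.node (.leaf 0) (.leaf 0))) (.node (.node (.leaf 0) (.leaf 0)) (.node (.leaf 106) (.leaf 0))))) (.node (.node (.node (.node (.leaf 0) (.leaf 0)) (.node (.leaf 0) (.leaf 85))) (.node (.node (.leaf 0) (.leaf 0)) (.node (.leaf 0) (.leaf 0)))) (.node (.node (.node (.leaf 0) (.leaf 0)) (.node (.leaf 0) (.leaf 0))) (.node (.node (.leaf 0) (.leaf 7)) (.leaf 0))))) (.node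 (.node (.node (.node (.node (.leaf 5) (.leaf 0)) (.node (.leaf 0) (.leaf 0))) (.node (.node (.leaf 0) (.leaf 103)) (.node (.leaf 0) (.leaf 0)))) (.node (.node (.node (.leaf 42) (.leaf 0)) (.node (.leaf 0) (.leaf 33))) (.node (.node (.leaf 100) (.leaf 0)) (.leaf 0)))) (.node (.node (.node (.node (.leaf 0) (.leaf 0)) (.node (.leaf 0) (.leaf 0))) (.node (.node (.leaf 0) (.leaf 40)) (.node (.leaf 22) (.leaf 0)))) (.node (.node (.node (.leaf 0) (.leaf 0)) (.node (.leaf 0) (.leaf 0))) (.node (.node (.leaf 113) (.leaf 0)) (.leaf 0)))))) (.node (.node (.node (.node (.node (.node (.leaf 5) (.leaf 0)) (.node (.leaf 0) (.leaf 0))) (.node (.node (.leaf 0) (.leaf 85)) (.node (.leaf 0) (.leaf 0)))) (.node (.node (.node (.leaf 0) (.leaf 102)) (.node (.leaf 0) (.leaf 0))) (.node (.node (.leaf 0) (.leaf 0)) (.node (.leaf 112) (.leaf 0))))) (.node (.node (.node (.node (.leaf 0) (.leaf 0)) (.node (.leaf 0) (.leaf 0))) (.node (.node (.leaf 0) (.leaf 0))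 (.node (.leaf 0) (.leaf 28)))) (.node (.node (.node (.leaf 0) (.leaf 0)) (.node (.leaf 0) (.leaf 0))) (.node (.node (.leaf 0) (.leaf 0)) (.leaf 112))))) (.node (.node (.node (.node (.node (.leaf 0) (.leaf 42)) (.node (.leaf 0) (.leaf 106))) (.node (.node (.leaf 95) (.leaf 0)) (.node (.leaf 74) (.leaf 0)))) (.node (.node (.node (.leaf 0) (.leaf 0)) (.node (.leaf 0) (.leaf 0))) (.node (.node (.leaf 0) (.leaf 0)) (.leaf 0)))) (.node (.node (.node (.node (.leaf 0) (.leaf 0)) (.node (.leaf 0) (.leaf 0))) (.node (.node (.leaf 0) (.leaf 0)) (.node (.leaf 0) (.leaf 0)))) (.node (.node (.node (.leaf 0) (.leaf 0)) (.node (.leaf 0) (.leaf 13))) (.node (.node (.leaf 0) (.leaf 0)) (.leaf 0)))))))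

/-- Part of `posT`. -/
def posT_p101110 : Tr := .node (.node (.node (.node (.node (.node (.node (.node (.leaf 0) (.leaf 0)) (.node (.leaf 0) (.leaf 14))) (.node (.node (.leaf 24) (.leaf 0)) (.node (.leaf 45) (.leaf 0)))) (.node (.node (.node (.leaf 0) (.leaf 0)) (.node (.leaf 0) (.leaf 0))) (.node (.node (.leaf 0) (.leaf 0)) (.node (.leaf 0) (.leaf 0))))) (.node (.node (.node (.node (.leaf 0) (.leaf 0)) (.node (.leaf 44) (.leaf 34))) (.node (.node (.leaf 0) (.leaf 0)) (.node (.leaf 2) (.leaf 0)))) (.node (.node (.node (.leaf 0) (.leaf 0)) (.node (.leaf 0) (.leaf 0))) (.node (.node (.leaf 0) (.leaf 0)) (.leaf 0))))) (.node (.node (.node (.node (.node (.leaf 64) (.leaf 0)) (.node (.leaf 0) (.leaf 0))) (.node (.node (.leaf 0) (.leaf 0)) (.node (.leaf 21) (.leaf 70)))) (.node (.node (.node (.leaf 0) (.leaf 0)) (.node (.leaf 0) (.leaf 0))) (.node (.node (.leaf 0) (.leaf 0)) (.leaf 0)))) (.node (.node (.node (.node (.leaf 0) (.leaf 65)) (.node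 (.leaf 0) (.leaf 0))) (.node (.node (.leaf 41) (.leaf 47)) (.node (.leaf 99) (.leaf 0)))) (.node (.node (.node (.leaf 104) (.leaf 0)) (.node (.leaf 0) (.leaf 0))) (.node (.node (.leaf 0) (.leaf 0)) (.leaf 0)))))) (.node (.node (.node (.node (.node (.node (.leaf 0) (.leaf 0)) (.node (.leaf 0) (.leaf 0))) (.node (.node (.leaf 0) (.leaf 0)) (.node (.leaf 0) (.leaf 0)))) (.node (.node (.node (.leaf 0) (.leaf 0)) (.node (.leaf 0) (.leaf 0))) (.node (.node (.leaf 14) (.leaf 0)) (.node (.leaf 0) (.leaf 0))))) (.node (.node (.node (.node (.leaf 122) (.leaf 0)) (.node (.leaf 0) (.leaf 0))) (.node (.node (.leaf 0) (.leaf 0)) (.node (.leaf 101) (.leaf 0)))) (.node (.node (.node (.leaf 0) (.leaf 0)) (.node (.leaf 0) (.leaf 49))) (.node (.node (.leaf 6) (.leaf 0)) (.leaf 0))))) (.node (.node (.node (.node (.node (.leaf 0) (.leaf 0)) (.node (.leaf 0) (.leaf 0))) (.node (.node (.leaf 0) (.leaf 0)) (.node (.leaf 10) (.leaf 0)))) (.node (.node (.node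 (.leaf 0) (.leaf 71)) (.node (.leaf 0) (.leaf 0))) (.node (.node (.leaf 0) (.leaf 0)) (.leaf 0)))) (.node (.node (.node (.node (.leaf 0) (.leaf 0)) (.node (.leaf 0) (.leaf 0))) (.node (.node (.leaf 0) (.leaf 0)) (.node (.leaf 0) (.leaf 0)))) (.node (.node (.node (.leaf 0) (.leaf 0)) (.node (.leaf 56) (.leaf 0))) (.node (.node (.leaf 19) (.leaf 0)) (.leaf 0))))))) (.node (.node (.node (.node (.node (.node (.node (.leaf 90) (.leaf 0)) (.node (.leaf 0) (.leaf 61))) (.node (.node (.leaf 0) (.leaf 0)) (.node (.leaf 0) (.leaf 0)))) (.node (.node (.node (.leaf 47) (.leaf 0)) (.node (.leaf 13) (.leaf 89))) (.node (.node (.leaf 0) (.leaf 0)) (.node (.leaf 0) (.leaf 0))))) (.node (.node (.node (.node (.leaf 0) (.leaf 0)) (.node (.leaf 0) (.leaf 0))) (.node (.node (.leaf 0) (.leaf 0)) (.node (.leaf 0) (.leaf 0)))) (.node (.node (.node (.leaf 0) (.leaf 0)) (.node (.leaf 1) (.leaf 0))) (.node (.node (.leaf 0) (.leaf 0)) (.leaf 107))))) (.node (.node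 (.node (.node (.node (.leaf 5) (.leaf 0)) (.node (.leaf 0) (.leaf 0))) (.node (.node (.leaf 0) (.leaf 0)) (.node (.leaf 0) (.leaf 30)))) (.node (.node (.node (.leaf 0) (.leaf 0)) (.node (.leaf 0) (.leaf 0))) (.node (.node (.leaf 25) (.leaf 112)) (.leaf 0)))) (.node (.node (.node (.node (.leaf 0) (.leaf 0)) (.node (.leaf 0) (.leaf 0))) (.node (.node (.leaf 0) (.leaf 112)) (.node (.leaf 0) (.leaf 0)))) (.node (.node (.node (.leaf 0) (.leaf 0)) (.node (.leaf 0) (.leaf 0))) (.node (.node (.leaf 0) (.leaf 4)) (.leaf 0)))))) (.node (.node (.node (.node (.node (.node (.leaf 0) (.leaf 40)) (.node (.leaf 0) (.leaf 0))) (.node (.node (.leaf 0) (.leaf 0)) (.node (.leaf 113) (.leaf 0)))) (.node (.node (.node (.leaf 0) (.leaf 0)) (.node (.leaf 0) (.leaf 0))) (.node (.node (.leaf 0) (.leaf 0)) (.node (.leaf 0) (.leaf 113))))) (.node (.node (.node (.node (.leaf 0) (.leaf 0)) (.node (.leaf 0) (.leaf 16))) (.node (.node (.leaf 0) (.leaf 0)) (.node (.leaf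 0) (.leaf 0)))) (.node (.node (.node (.leaf 0) (.leaf 0)) (.node (.leaf 0) (.leaf 0))) (.node (.node (.leaf 0) (.leaf 0)) (.leaf 30))))) (.node (.node (.node (.node (.node (.leaf 0) (.leaf 0)) (.node (.leaf 0) (.leaf 0))) (.node (.node (.leaf 0) (.leaf 0)) (.node (.leaf 0) (.leaf 0)))) (.node (.node (.node (.leaf 0) (.leaf 0)) (.node (.leaf 0) (.leaf 0))) (.node (.node (.leaf 37) (.leaf 0)) (.leaf 0)))) (.node (.node (.node (.node (.leaf 0) (.leaf 0)) (.node (.leaf 0) (.leaf 0))) (.node (.node (.leaf 0) (.leaf 0)) (.node (.leaf 0) (.leaf 1)))) (.node (.node (.node (.leaf 0) (.leaf 0)) (.node (.leaf 0) (.leaf 114))) (.node (.node (.leaf 0) (.leaf 0)) (.leaf 0)))))))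

/-- Part of `posT`. -/
def posT_p101111 : Tr := .node (.node (.node (.node (.node (.node (.node (.node (.leaf 0) (.leaf 0)) (.node (.leaf 0) (.leaf 0))) (.node (.node (.leaf 0) (.leaf 87)) (.node (.leaf 0) (.leaf 0)))) (.node (.node (.node (.leaf 0) (.leaf 0)) (.node (.leaf 0) (.leaf 125))) (.node (.node (.leaf 98) (.leaf 3)) (.node (.leaf 0) (.leaf 0))))) (.node (.node (.node (.node (.leaf 0) (.leaf 98)) (.node (.leaf 0) (.leaf 0))) (.node (.node (.leaf 0) (.leaf 0)) (.node (.leaf 0) (.leaf 77)))) (.node (.node (.node (.leaf 0) (.leaf 0)) (.node (.leaf 0) (.leaf 0))) (.node (.node (.leaf 0) (.leaf 0)) (.leaf 0))))) (.node (.node (.node (.node (.node (.leaf 0) (.leaf 0)) (.node (.leaf 0) (.leaf 0))) (.node (.node (.leaf 0) (.leaf 0)) (.node (.leaf 0) (.leaf 0)))) (.node (.node (.node (.leaf 0) (.leaf 0)) (.node (.leaf 0) (.leaf 0))) (.node (.node (.leaf 0) (.leaf 0)) (.leaf 0)))) (.node (.node (.node (.node (.leaf 0) (.leaf 0)) (.node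 (.leaf 0) (.leaf 0))) (.node (.node (.leaf 0) (.leaf 13)) (.node (.leaf 0) (.leaf 125)))) (.node (.node (.node (.leaf 0) (.leaf 0)) (.node (.leaf 0) (.leaf 0))) (.node (.node (.leaf 0) (.leaf 0)) (.leaf 0)))))) (.node (.node (.node (.node (.node (.node (.leaf 67) (.leaf 0)) (.node (.leaf 85) (.leaf 0))) (.node (.node (.leaf 0) (.leaf 48)) (.node (.leaf 0) (.leaf 0)))) (.node (.node (.node (.leaf 0) (.leaf 0)) (.node (.leaf 0) (.leaf 0))) (.node (.node (.leaf 0) (.leaf 0)) (.node (.leaf 0) (.leaf 0))))) (.node (.node (.node (.node (.leaf 0) (.leaf 0)) (.node (.leaf 0) (.leaf 0))) (.node (.node (.leaf 0) (.leaf 25)) (.node (.leaf 0) (.leaf 0)))) (.node (.node (.node (.leaf 0) (.leaf 0)) (.node (.leaf 80) (.leaf 83))) (.node (.node (.leaf 0) (.leaf 0)) (.leaf 0))))) (.node (.node (.node (.node (.node (.leaf 0) (.leaf 99)) (.node (.leaf 0) (.leaf 0))) (.node (.node (.leaf 0) (.leaf 0)) (.node (.leaf 0) (.leaf 0)))) (.node (.node (.node (.leaf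 0) (.leaf 0)) (.node (.leaf 0) (.leaf 0))) (.node (.node (.leaf 0) (.leaf 0)) (.leaf 0)))) (.node (.node (.node (.node (.leaf 0) (.leaf 0)) (.node (.leaf 77) (.leaf 0))) (.node (.node (.leaf 0) (.leaf 14)) (.node (.leaf 0) (.leaf 0)))) (.node (.node (.node (.leaf 0) (.leaf 0)) (.node (.leaf 0) (.leaf 0))) (.node (.node (.leaf 0) (.leaf 0)) (.leaf 0))))))) (.node (.node (.node (.node (.node (.node (.node (.leaf 0) (.leaf 0)) (.node (.leaf 0) (.leaf 0))) (.node (.node (.leaf 0) (.leaf 0)) (.node (.leaf 62) (.leaf 0)))) (.node (.node (.node (.leaf 0) (.leaf 0)) (.node (.leaf 0) (.leaf 0))) (.node (.node (.leaf 0) (.leaf 0)) (.node (.leaf 0) (.leaf 0))))) (.node (.node (.node (.node (.leaf 0) (.leaf 0)) (.node (.leaf 0) (.leaf 0))) (.node (.node (.leaf 110) (.leaf 0)) (.node (.leaf 56) (.leaf 0)))) (.node (.node (.node (.leaf 48) (.leaf 0)) (.node (.leaf 0) (.leaf 0))) (.node (.node (.leaf 0) (.leaf 96)) (.leaf 16))))) (.node (.node (.node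 (.node (.node (.leaf 0) (.leaf 0)) (.node (.leaf 0) (.leaf 18))) (.node (.node (.leaf 0) (.leaf 0)) (.node (.leaf 8) (.leaf 0)))) (.node (.node (.node (.leaf 0) (.leaf 0)) (.node (.leaf 0) (.leaf 0))) (.node (.node (.leaf 0) (.leaf 0)) (.leaf 0)))) (.node (.node (.node (.node (.leaf 0) (.leaf 0)) (.node (.leaf 0) (.leaf 0))) (.node (.node (.leaf 106) (.leaf 0)) (.node (.leaf 0) (.leaf 0)))) (.node (.node (.node (.leaf 0) (.leaf 0)) (.node (.leaf 0) (.leaf 0))) (.node (.node (.leaf 0) (.leaf 0)) (.leaf 0)))))) (.node (.node (.node (.node (.node (.node (.leaf 0) (.leaf 106)) (.node (.leaf 86) (.leaf 0))) (.node (.node (.leaf 0) (.leaf 0)) (.node (.leaf 0) (.leaf 0)))) (.node (.node (.node (.leaf 0) (.leaf 0)) (.node (.leaf 0) (.leaf 0))) (.node (.node (.leaf 8) (.leaf 0)) (.node (.leaf 0) (.leaf 0))))) (.node (.node (.node (.node (.leaf 0) (.leaf 0)) (.node (.leaf 0) (.leaf 0))) (.node (.node (.leaf 0) (.leaf 0)) (.node (.leaf 0) (.leaf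 0)))) (.node (.node (.node (.leaf 0) (.leaf 77)) (.node (.leaf 0) (.leaf 0))) (.node (.node (.leaf 0) (.leaf 0)) (.leaf 0))))) (.node (.node (.node (.node (.node (.leaf 0) (.leaf 0)) (.node (.leaf 0) (.leaf 0))) (.node (.node (.leaf 0) (.leaf 0)) (.node (.leaf 0) (.leaf 0)))) (.node (.node (.node (.leaf 0) (.leaf 1)) (.node (.leaf 57) (.leaf 63))) (.node (.node (.leaf 0) (.leaf 0)) (.leaf 0)))) (.node (.node (.node (.node (.leaf 0) (.leaf 89)) (.node (.leaf 0) (.leaf 24))) (.node (.node (.leaf 0) (.leaf 0)) (.node (.leaf 0) (.leaf 0)))) (.node (.node (.node (.leaf 0) (.leaf 0)) (.node (.leaf 11) (.leaf 0))) (.node (.node (.leaf 0) (.leaf 0)) (.leaf 0)))))))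

/-- Part of `posT`. -/
def posT_p110000 : Tr := .node (.node (.node (.node (.node (.node (.node (.node (.leaf 0) (.leaf 0)) (.node (.leaf 0) (.leaf 0))) (.node (.node (.leaf 0) (.leaf 0)) (.node (.leaf 0) (.leaf 0)))) (.node (.node (.node (.leaf 0) (.leaf 0)) (.node (.leaf 31) (.leaf 0))) (.node (.node (.leaf 0) (.leaf 0)) (.node (.leaf 13) (.leaf 0))))) (.node (.node (.node (.node (.leaf 67) (.leaf 72)) (.node (.leaf 0) (.leaf 0))) (.node (.node (.leaf 0) (.leaf 0)) (.node (.leaf 0) (.leaf 0)))) (.node (.node (.node (.leaf 46) (.leaf 0)) (.node (.leaf 0) (.leaf 77))) (.node (.node (.leaf 77) (.leaf 0)) (.leaf 42))))) (.node (.node (.node (.node (.node (.leaf 0) (.leaf 0)) (.node (.leaf 0) (.leaf 0))) (.node (.node (.leaf 0) (.leaf 22)) (.node (.leaf 116) (.leaf 0)))) (.node (.node (.node (.leaf 0) (.leaf 0)) (.node (.leaf 23) (.leaf 0))) (.node (.node (.leaf 0) (.leaf 34)) (.node (.leaf 0) (.leaf 0))))) (.node (.node (.node (.node (.leaf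 0) (.leaf 0)) (.node (.leaf 0) (.leaf 0))) (.node (.node (.leaf 36) (.leaf 0)) (.node (.leaf 0) (.leaf 0)))) (.node (.node (.node (.leaf 0) (.leaf 0)) (.node (.leaf 0) (.leaf 113))) (.node (.node (.leaf 0) (.leaf 0)) (.leaf 83)))))) (.node (.node (.node (.node (.node (.node (.leaf 0) (.leaf 68)) (.node (.leaf 0) (.leaf 88))) (.node (.node (.leaf 0) (.leaf 95)) (.node (.leaf 0) (.leaf 0)))) (.node (.node (.node (.leaf 0) (.leaf 0)) (.node (.leaf 37) (.leaf 0))) (.node (.node (.leaf 0) (.leaf 0)) (.node (.leaf 28) (.leaf 116))))) (.node (.node (.node (.node (.leaf 0) (.leaf 0)) (.node (.leaf 0) (.leaf 0))) (.node (.node (.leaf 0) (.leaf 110)) (.node (.leaf 0) (.leaf 0)))) (.node (.node (.node (.leaf 0) (.leaf 0)) (.node (.leaf 0) (.leaf 0))) (.node (.node (.leaf 0) (.leaf 0)) (.leaf 93))))) (.node (.node (.node (.node (.node (.leaf 0) (.leaf 0)) (.node (.leaf 94) (.leaf 1))) (.node (.node (.leaf 0) (.leaf 57)) (.node (.leaf 0) (.leaf 65))))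 (.node (.node (.node (.leaf 0) (.leaf 54)) (.node (.leaf 0) (.leaf 103))) (.node (.node (.leaf 0) (.leaf 29)) (.leaf 0)))) (.node (.node (.node (.node (.leaf 0) (.leaf 0)) (.node (.leaf 0) (.leaf 0))) (.node (.node (.leaf 0) (.leaf 0)) (.node (.leaf 0) (.leaf 61)))) (.node (.node (.node (.leaf 0) (.leaf 0)) (.node (.leaf 0) (.leaf 0))) (.node (.node (.leaf 120) (.leaf 0)) (.leaf 0))))))) (.node (.node (.node (.node (.node (.node (.node (.leaf 5) (.leaf 0)) (.node (.leaf 0) (.leaf 0))) (.node (.node (.leaf 44) (.leaf 0)) (.node (.leaf 0) (.leaf 0)))) (.node (.node (.node (.leaf 19) (.leaf 0)) (.node (.leaf 101) (.leaf 0))) (.node (.node (.leaf 0) (.leaf 0)) (.node (.leaf 0) (.leaf 0))))) (.node (.node (.node (.node (.leaf 0) (.leaf 0)) (.node (.leaf 0) (.leaf 0))) (.node (.node (.leaf 0) (.leaf 0)) (.node (.leaf 120) (.leaf 0)))) (.node (.node (.node (.leaf 0) (.leaf 0)) (.node (.leaf 0) (.leaf 0))) (.node (.node (.leaf 0) (.leaf 0)) (.leaf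 0))))) (.node (.node (.node (.node (.node (.leaf 0) (.leaf 96)) (.node (.leaf 0) (.leaf 0))) (.node (.node (.leaf 0) (.leaf 0)) (.node (.leaf 15) (.leaf 0)))) (.node (.node (.node (.leaf 45) (.leaf 0)) (.node (.leaf 0) (.leaf 0))) (.node (.node (.leaf 0) (.leaf 0)) (.leaf 104)))) (.node (.node (.node (.node (.leaf 50) (.leaf 61)) (.node (.leaf 0) (.leaf 0))) (.node (.node (.leaf 87) (.leaf 0)) (.node (.leaf 96) (.leaf 0)))) (.node (.node (.node (.leaf 0) (.leaf 0)) (.node (.leaf 0) (.leaf 0))) (.node (.node (.leaf 69) (.leaf 0)) (.leaf 0)))))) (.node (.node (.node (.node (.node (.node (.leaf 5) (.leaf 0)) (.node (.leaf 0) (.leaf 0))) (.node (.node (.leaf 0) (.leaf 0)) (.node (.leaf 0) (.leaf 14)))) (.node (.node (.node (.leaf 0) (.leaf 0)) (.node (.leaf 53) (.leaf 0))) (.node (.node (.leaf 0) (.leaf 0)) (.node (.leaf 0) (.leaf 0))))) (.node (.node (.node (.node (.leaf 0) (.leaf 41)) (.node (.leaf 0) (.leaf 0))) (.node (.node (.leaf 0)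 (.leaf 0)) (.node (.leaf 0) (.leaf 0)))) (.node (.node (.node (.leaf 0) (.leaf 0)) (.node (.leaf 112) (.leaf 0))) (.node (.node (.leaf 0) (.leaf 0)) (.leaf 0))))) (.node (.node (.node (.node (.node (.leaf 0) (.leaf 18)) (.node (.leaf 0) (.leaf 51))) (.node (.node (.leaf 0) (.leaf 0)) (.node (.leaf 0) (.leaf 0)))) (.node (.node (.node (.leaf 0) (.leaf 0)) (.node (.leaf 0) (.leaf 0))) (.node (.node (.leaf 0) (.leaf 0)) (.leaf 91)))) (.node (.node (.node (.node (.leaf 0) (.leaf 0)) (.node (.leaf 116) (.leaf 0))) (.node (.node (.leaf 0) (.leaf 0)) (.node (.leaf 0) (.leaf 0)))) (.node (.node (.node (.leaf 0) (.leaf 0)) (.node (.leaf 0) (.leaf 0))) (.node (.node (.leaf 0) (.leaf 91)) (.leaf 62)))))))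

/-- Part of `posT`. -/
def posT_p110001 : Tr := .node (.node (.node (.node (.node (.node (.node (.node (.leaf 0) (.leaf 0)) (.node (.leaf 82) (.leaf 0))) (.node (.node (.leaf 0) (.leaf 0)) (.node (.leaf 0) (.leaf 50)))) (.node (.node (.node (.leaf 0) (.leaf 0)) (.node (.leaf 0) (.leaf 0))) (.node (.node (.leaf 0) (.leaf 0)) (.node (.leaf 0) (.leaf 0))))) (.node (.node (.node (.node (.leaf 0) (.leaf 0)) (.node (.leaf 97) (.leaf 0))) (.node (.node (.leaf 0) (.leaf 0)) (.node (.leaf 0) (.leaf 0)))) (.node (.node (.node (.leaf 0) (.leaf 122)) (.node (.leaf 0) (.leaf 0))) (.node (.node (.leaf 0) (.leaf 0)) (.leaf 12))))) (.node (.node (.node (.node (.node (.leaf 0) (.leaf 0)) (.node (.leaf 0) (.leaf 0))) (.node (.node (.leaf 0) (.leaf 0)) (.node (.leaf 0) (.leaf 0)))) (.node (.node (.node (.leaf 13) (.leaf 0)) (.node (.leaf 0) (.leaf 0))) (.node (.node (.leaf 0) (.leaf 125)) (.leaf 0)))) (.node (.node (.node (.node (.leaf 0) (.leaf 99)) (.node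 (.leaf 0) (.leaf 0))) (.node (.node (.leaf 79) (.leaf 81)) (.node (.leaf 0) (.leaf 34)))) (.node (.node (.node (.leaf 65) (.leaf 0)) (.node (.leaf 0) (.leaf 0))) (.node (.node (.leaf 0) (.leaf 0)) (.leaf 0)))))) (.node (.node (.node (.node (.node (.node (.leaf 90) (.leaf 0)) (.node (.leaf 0) (.leaf 0))) (.node (.node (.leaf 0) (.leaf 16)) (.node (.leaf 0) (.leaf 0)))) (.node (.node (.node (.leaf 0) (.leaf 0)) (.node (.leaf 0) (.leaf 0))) (.node (.node (.leaf 0) (.leaf 0)) (.node (.leaf 0) (.leaf 0))))) (.node (.node (.node (.node (.leaf 20) (.leaf 55)) (.node (.leaf 0) (.leaf 12))) (.node (.node (.leaf 55) (.leaf 0)) (.node (.leaf 0) (.leaf 0)))) (.node (.node (.node (.leaf 0) (.leaf 0)) (.node (.leaf 0) (.leaf 0))) (.node (.node (.leaf 0) (.leaf 31)) (.leaf 0))))) (.node (.node (.node (.node (.node (.leaf 0) (.leaf 0)) (.node (.leaf 0) (.leaf 0))) (.node (.node (.leaf 0) (.leaf 0)) (.node (.leaf 0) (.leaf 0)))) (.node (.node (.node (.leaf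 0) (.leaf 0)) (.node (.leaf 0) (.leaf 0))) (.node (.node (.leaf 0) (.leaf 0)) (.leaf 0)))) (.node (.node (.node (.node (.leaf 0) (.leaf 0)) (.node (.leaf 0) (.leaf 0))) (.node (.node (.leaf 82) (.leaf 0)) (.node (.leaf 0) (.leaf 0)))) (.node (.node (.node (.leaf 0) (.leaf 0)) (.node (.leaf 0) (.leaf 0))) (.node (.node (.leaf 47) (.leaf 0)) (.leaf 0))))))) (.node (.node (.node (.node (.node (.node (.node (.leaf 0) (.leaf 0)) (.node (.leaf 0) (.leaf 0))) (.node (.node (.leaf 0) (.leaf 0)) (.node (.leaf 0) (.leaf 0)))) (.node (.node (.node (.leaf 0) (.leaf 0)) (.node (.leaf 0) (.leaf 14))) (.node (.node (.leaf 0) (.leaf 0)) (.node (.leaf 0) (.leaf 0))))) (.node (.node (.node (.node (.leaf 0) (.leaf 0)) (.node (.leaf 121) (.leaf 0))) (.node (.node (.leaf 0) (.leaf 0)) (.node (.leaf 0) (.leaf 0)))) (.node (.node (.node (.leaf 0) (.leaf 0)) (.node (.leaf 0) (.leaf 0))) (.node (.node (.leaf 0) (.leaf 0)) (.leaf 99))))) (.node (.node (.node (.node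 (.node (.leaf 0) (.leaf 0)) (.node (.leaf 0) (.leaf 0))) (.node (.node (.leaf 0) (.leaf 0)) (.node (.leaf 46) (.leaf 0)))) (.node (.node (.node (.leaf 0) (.leaf 0)) (.node (.leaf 0) (.leaf 0))) (.node (.node (.leaf 0) (.leaf 0)) (.leaf 0)))) (.node (.node (.node (.node (.leaf 0) (.leaf 0)) (.node (.leaf 74) (.leaf 0))) (.node (.node (.leaf 0) (.leaf 0)) (.node (.leaf 0) (.leaf 31)))) (.node (.node (.node (.leaf 0) (.leaf 0)) (.node (.leaf 0) (.leaf 0))) (.node (.node (.leaf 0) (.leaf 0)) (.leaf 0)))))) (.node (.node (.node (.node (.node (.node (.leaf 0) (.leaf 0)) (.node (.leaf 0) (.leaf 119))) (.node (.node (.leaf 0) (.leaf 39)) (.node (.leaf 0) (.leaf 95)))) (.node (.node (.node (.leaf 78) (.leaf 0)) (.node (.leaf 86) (.leaf 72))) (.node (.node (.leaf 0) (.leaf 0)) (.node (.leaf 0) (.leaf 0))))) (.node (.node (.node (.node (.leaf 95) (.leaf 0)) (.node (.leaf 103) (.leaf 0))) (.node (.node (.leaf 51) (.leaf 124)) (.node (.leaf 78) (.leaf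 0)))) (.node (.node (.node (.leaf 0) (.leaf 0)) (.node (.leaf 0) (.leaf 0))) (.node (.node (.leaf 0) (.leaf 37)) (.leaf 0))))) (.node (.node (.node (.node (.node (.leaf 67) (.leaf 0)) (.node (.leaf 85) (.leaf 0))) (.node (.node (.leaf 0) (.leaf 0)) (.node (.leaf 0) (.leaf 0)))) (.node (.node (.node (.leaf 0) (.leaf 0)) (.node (.leaf 55) (.leaf 0))) (.node (.node (.leaf 0) (.leaf 0)) (.leaf 0)))) (.node (.node (.node (.node (.leaf 0) (.leaf 52)) (.node (.leaf 0) (.leaf 41))) (.node (.node (.leaf 0) (.leaf 0)) (.node (.leaf 0) (.leaf 0)))) (.node (.node (.node (.leaf 108) (.leaf 0)) (.node (.leaf 0) (.leaf 0))) (.node (.node (.leaf 0) (.leaf 0)) (.leaf 0)))))))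

/-- Part of `posT`. -/
def posT_p110010 : Tr := .node (.node (.node (.node (.node (.node (.node (.node (.leaf 0) (.leaf 0)) (.node (.leaf 0) (.leaf 0))) (.node (.node (.leaf 0) (.leaf 0)) (.node (.leaf 0) (.leaf 0)))) (.node (.node (.node (.leaf 10) (.leaf 0)) (.node (.leaf 0) (.leaf 75))) (.node (.node (.leaf 0) (.leaf 0)) (.node (.leaf 109) (.leaf 0))))) (.node (.node (.node (.node (.leaf 0) (.leaf 109)) (.node (.leaf 0) (.leaf 0))) (.node (.node (.leaf 0) (.leaf 0)) (.node (.leaf 0) (.leaf 0)))) (.node (.node (.node (.leaf 0) (.leaf 0)) (.node (.leaf 0) (.leaf 0))) (.node (.node (.leaf 97) (.leaf 0)) (.leaf 0))))) (.node (.node (.node (.node (.node (.leaf 0) (.leaf 0)) (.node (.leaf 0) (.leaf 0))) (.node (.node (.leaf 0) (.leaf 0)) (.node (.leaf 0) (.leaf 0)))) (.node (.node (.node (.leaf 0) (.leaf 0)) (.node (.leaf 0) (.leaf 0))) (.node (.node (.leaf 0) (.leaf 0)) (.leaf 0)))) (.node (.node (.node (.node (.leaf 0) (.leaf 0)) (.node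 (.leaf 0) (.leaf 4))) (.node (.node (.leaf 0) (.leaf 0)) (.node (.leaf 0) (.leaf 0)))) (.node (.node (.node (.leaf 0) (.leaf 0)) (.node (.leaf 0) (.leaf 0))) (.node (.node (.leaf 0) (.leaf 0)) (.leaf 45)))))) (.node (.node (.node (.node (.node (.node (.leaf 111) (.leaf 0)) (.node (.leaf 0) (.leaf 0))) (.node (.node (.leaf 0) (.leaf 0)) (.node (.leaf 0) (.leaf 124)))) (.node (.node (.node (.leaf 0) (.leaf 0)) (.node (.leaf 21) (.leaf 0))) (.node (.node (.leaf 103) (.leaf 0)) (.node (.leaf 0) (.leaf 0))))) (.node (.node (.node (.node (.leaf 0) (.leaf 68)) (.node (.leaf 0) (.leaf 0))) (.node (.node (.leaf 56) (.leaf 0)) (.node (.leaf 0) (.leaf 0)))) (.node (.node (.node (.leaf 0) (.leaf 0)) (.node (.leaf 0) (.leaf 0))) (.node (.node (.leaf 0) (.leaf 0)) (.leaf 0))))) (.node (.node (.node (.node (.node (.leaf 0) (.leaf 9)) (.node (.leaf 0) (.leaf 0))) (.node (.node (.leaf 0) (.leaf 0)) (.node (.leaf 0) (.leaf 0)))) (.node (.node (.node (.leaf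 121) (.leaf 0)) (.node (.leaf 0) (.leaf 0))) (.node (.node (.leaf 0) (.leaf 115)) (.leaf 0)))) (.node (.node (.node (.node (.leaf 0) (.leaf 0)) (.node (.leaf 119) (.leaf 0))) (.node (.node (.leaf 0) (.leaf 0)) (.node (.leaf 0) (.leaf 0)))) (.node (.node (.node (.leaf 0) (.leaf 44)) (.node (.leaf 0) (.leaf 0))) (.node (.node (.leaf 0) (.leaf 55)) (.leaf 43))))))) (.node (.node (.node (.node (.node (.node (.node (.leaf 0) (.leaf 3)) (.node (.leaf 0) (.leaf 69))) (.node (.node (.leaf 112) (.leaf 0)) (.node (.leaf 0) (.leaf 0)))) (.node (.node (.node (.leaf 0) (.leaf 0)) (.node (.leaf 0) (.leaf 0))) (.node (.node (.leaf 0) (.leaf 0)) (.node (.leaf 0) (.leaf 0))))) (.node (.node (.node (.node (.leaf 111) (.leaf 34)) (.node (.leaf 0) (.leaf 0))) (.node (.node (.leaf 112) (.leaf 39)) (.node (.leaf 0) (.leaf 0)))) (.node (.node (.node (.leaf 59) (.leaf 0)) (.node (.leaf 19) (.leaf 0))) (.node (.node (.leaf 0) (.leaf 0)) (.leaf 0))))) (.node (.node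 (.node (.node (.node (.leaf 0) (.leaf 0)) (.node (.leaf 0) (.leaf 71))) (.node (.node (.leaf 0) (.leaf 0)) (.node (.leaf 0) (.leaf 0)))) (.node (.node (.node (.leaf 0) (.leaf 0)) (.node (.leaf 0) (.leaf 0))) (.node (.node (.leaf 0) (.leaf 0)) (.leaf 0)))) (.node (.node (.node (.node (.leaf 0) (.leaf 0)) (.node (.leaf 0) (.leaf 0))) (.node (.node (.leaf 0) (.leaf 15)) (.node (.leaf 0) (.leaf 0)))) (.node (.node (.node (.leaf 0) (.leaf 0)) (.node (.leaf 0) (.leaf 0))) (.node (.node (.leaf 13) (.leaf 0)) (.leaf 0)))))) (.node (.node (.node (.node (.node (.node (.leaf 67) (.leaf 0)) (.node (.leaf 0) (.leaf 0))) (.node (.node (.leaf 29) (.leaf 49)) (.node (.leaf 0) (.leaf 0)))) (.node (.node (.node (.leaf 0) (.leaf 14)) (.node (.leaf 0) (.leaf 0))) (.node (.node (.leaf 0) (.leaf 4)) (.node (.leaf 0) (.leaf 6))))) (.node (.node (.node (.node (.leaf 0) (.leaf 0)) (.node (.leaf 0) (.leaf 0))) (.node (.node (.leaf 0) (.leaf 0)) (.node (.leaf 0)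 (.leaf 0)))) (.node (.node (.node (.leaf 0) (.leaf 0)) (.node (.leaf 0) (.leaf 0))) (.node (.node (.leaf 0) (.leaf 59)) (.leaf 0))))) (.node (.node (.node (.node (.node (.leaf 0) (.leaf 0)) (.node (.leaf 114) (.leaf 0))) (.node (.node (.leaf 0) (.leaf 0)) (.node (.leaf 0) (.leaf 0)))) (.node (.node (.node (.leaf 0) (.leaf 18)) (.node (.leaf 28) (.leaf 0))) (.node (.node (.leaf 0) (.leaf 0)) (.leaf 0)))) (.node (.node (.node (.node (.leaf 92) (.leaf 74)) (.node (.leaf 0) (.leaf 0))) (.node (.node (.leaf 0) (.leaf 0)) (.node (.leaf 0) (.leaf 0)))) (.node (.node (.node (.leaf 0) (.leaf 0)) (.node (.leaf 0) (.leaf 0))) (.node (.node (.leaf 0) (.leaf 0)) (.leaf 0)))))))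

/-- Part of `posT`. -/
def posT_p110011 : Tr := .node (.node (.node (.node (.node (.node (.node (.node (.leaf 76) (.leaf 0)) (.node (.leaf 0) (.leaf 0))) (.node (.node (.leaf 124) (.leaf 0)) (.node (.leaf 0) (.leaf 0)))) (.node (.node (.node (.leaf 0) (.leaf 0)) (.node (.leaf 34) (.leaf 0))) (.node (.node (.leaf 0) (.leaf 0)) (.node (.leaf 0) (.leaf 43))))) (.node (.node (.node (.node (.leaf 0) (.leaf 0)) (.node (.leaf 0) (.leaf 0))) (.node (.node (.leaf 122) (.leaf 0)) (.node (.leaf 6) (.leaf 0)))) (.node (.node (.node (.leaf 0) (.leaf 0)) (.node (.leaf 22) (.leaf 4))) (.node (.node (.leaf 0) (.leaf 0)) (.leaf 0))))) (.node (.node (.node (.node (.node (.leaf 0) (.leaf 0)) (.node (.leaf 0) (.leaf 88))) (.node (.node (.leaf 50) (.leaf 0)) (.node (.leaf 97) (.leaf 41)))) (.node (.node (.node (.leaf 0) (.leaf 0)) (.node (.leaf 0) (.leaf 102))) (.node (.node (.leaf 0) (.leaf 0)) (.leaf 0)))) (.node (.node (.node (.node (.leaf 0) (.leaf 0))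 (.node (.leaf 0) (.leaf 0))) (.node (.node (.leaf 31) (.leaf 0)) (.node (.leaf 0) (.leaf 0)))) (.node (.node (.node (.leaf 0) (.leaf 0)) (.node (.leaf 0) (.leaf 0))) (.node (.node (.leaf 54) (.leaf 0)) (.leaf 121)))))) (.node (.node (.node (.node (.node (.node (.leaf 0) (.leaf 0)) (.node (.leaf 0) (.leaf 0))) (.node (.node (.leaf 0) (.leaf 0)) (.node (.leaf 0) (.leaf 0)))) (.node (.node (.node (.leaf 0) (.leaf 78)) (.node (.leaf 0) (.leaf 68))) (.node (.node (.leaf 0) (.leaf 0)) (.node (.leaf 0) (.leaf 0))))) (.node (.node (.node (.node (.leaf 0) (.leaf 0)) (.node (.leaf 0) (.leaf 0))) (.node (.node (.leaf 0) (.leaf 0)) (.node (.leaf 0) (.leaf 0)))) (.node (.node (.node (.leaf 0) (.leaf 0)) (.node (.leaf 0) (.leaf 0))) (.node (.node (.leaf 7) (.leaf 6)) (.leaf 0))))) (.node (.node (.node (.node (.node (.leaf 0) (.leaf 0)) (.node (.leaf 102) (.leaf 0))) (.node (.node (.leaf 36) (.leaf 1)) (.node (.leaf 0) (.leaf 0)))) (.node (.node (.node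 (.leaf 47) (.leaf 0)) (.node (.leaf 0) (.leaf 97))) (.node (.node (.leaf 0) (.leaf 0)) (.leaf 0)))) (.node (.node (.node (.node (.leaf 0) (.leaf 0)) (.node (.leaf 0) (.leaf 0))) (.node (.node (.leaf 0) (.leaf 0)) (.node (.leaf 0) (.leaf 0)))) (.node (.node (.node (.leaf 0) (.leaf 0)) (.node (.leaf 0) (.leaf 0))) (.node (.node (.leaf 0) (.leaf 0)) (.leaf 0))))))) (.node (.node (.node (.node (.node (.node (.node (.leaf 0) (.leaf 105)) (.node (.leaf 0) (.leaf 0))) (.node (.node (.leaf 0) (.leaf 0)) (.node (.leaf 0) (.leaf 0)))) (.node (.node (.node (.leaf 0) (.leaf 0)) (.node (.leaf 0) (.leaf 0))) (.node (.node (.leaf 0) (.leaf 47)) (.node (.leaf 0) (.leaf 0))))) (.node (.node (.node (.node (.leaf 119) (.leaf 124)) (.node (.leaf 79) (.leaf 0))) (.node (.node (.leaf 0) (.leaf 0)) (.node (.leaf 0) (.leaf 93)))) (.node (.node (.node (.leaf 0) (.leaf 0)) (.node (.leaf 0) (.leaf 0))) (.node (.node (.leaf 0) (.leaf 0)) (.leaf 0))))) (.node (.node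 (.node (.node (.node (.leaf 0) (.leaf 0)) (.node (.leaf 0) (.leaf 0))) (.node (.node (.leaf 0) (.leaf 33)) (.node (.leaf 0) (.leaf 92)))) (.node (.node (.node (.leaf 26) (.leaf 9)) (.node (.leaf 0) (.leaf 0))) (.node (.node (.leaf 70) (.leaf 68)) (.leaf 41)))) (.node (.node (.node (.node (.leaf 108) (.leaf 0)) (.node (.leaf 0) (.leaf 0))) (.node (.node (.leaf 0) (.leaf 0)) (.node (.leaf 0) (.leaf 0)))) (.node (.node (.node (.leaf 0) (.leaf 0)) (.node (.leaf 10) (.leaf 0))) (.node (.node (.leaf 0) (.leaf 0)) (.leaf 0)))))) (.node (.node (.node (.node (.node (.node (.leaf 111) (.leaf 0)) (.node (.leaf 0) (.leaf 0))) (.node (.node (.leaf 100) (.leaf 0)) (.node (.leaf 0) (.leaf 36)))) (.node (.node (.node (.leaf 98) (.leaf 49)) (.node (.leaf 0) (.leaf 0))) (.node (.node (.leaf 0) (.leaf 50)) (.node (.leaf 40) (.leaf 0))))) (.node (.node (.node (.node (.leaf 0) (.leaf 0)) (.node (.leaf 0) (.leaf 0))) (.node (.node (.leaf 0) (.leaf 0)) (.node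 (.leaf 0) (.leaf 0)))) (.node (.node (.node (.leaf 0) (.leaf 0)) (.node (.leaf 0) (.leaf 0))) (.node (.node (.leaf 0) (.leaf 0)) (.leaf 0))))) (.node (.node (.node (.node (.node (.leaf 0) (.leaf 0)) (.node (.leaf 0) (.leaf 0))) (.node (.node (.leaf 0) (.leaf 36)) (.node (.leaf 95) (.leaf 75)))) (.node (.node (.node (.leaf 0) (.leaf 2)) (.node (.leaf 0) (.leaf 0))) (.node (.node (.leaf 0) (.leaf 53)) (.leaf 0)))) (.node (.node (.node (.node (.leaf 0) (.leaf 0)) (.node (.leaf 17) (.leaf 0))) (.node (.node (.leaf 0) (.leaf 0)) (.node (.leaf 0) (.leaf 0)))) (.node (.node (.node (.leaf 22) (.leaf 0)) (.node (.leaf 0) (.leaf 0))) (.node (.node (.leaf 0) (.leaf 0)) (.leaf 0)))))))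

/-- Part of `posT`. -/
def posT_p110100 : Tr := .node (.node (.node (.node (.node (.node (.node (.node (.leaf 0) (.leaf 0)) (.node (.leaf 0) (.leaf 25))) (.node (.node (.leaf 99) (.leaf 0)) (.node (.leaf 0) (.leaf 0)))) (.node (.node (.node (.leaf 0) (.leaf 36)) (.node (.leaf 0) (.leaf 0))) (.node (.node (.leaf 59) (.leaf 0)) (.node (.leaf 27) (.leaf 0))))) (.node (.node (.node (.node (.leaf 90) (.leaf 27)) (.node (.leaf 0) (.leaf 0))) (.node (.node (.leaf 0) (.leaf 92)) (.node (.leaf 0) (.leaf 0)))) (.node (.node (.node (.leaf 0) (.leaf 0)) (.node (.leaf 62) (.leaf 0))) (.node (.node (.leaf 0) (.leaf 0)) (.leaf 0))))) (.node (.node (.node (.node (.node (.leaf 0) (.leaf 0)) (.node (.leaf 0) (.leaf 86))) (.node (.node (.leaf 0) (.leaf 0)) (.node (.leaf 0) (.leaf 59)))) (.node (.node (.node (.leaf 0) (.leaf 30)) (.node (.leaf 61) (.leaf 0))) (.node (.node (.leaf 0) (.leaf 0)) (.leaf 0)))) (.node (.node (.node (.node (.leaf 0) (.leaf 0))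 (.node (.leaf 8) (.leaf 0))) (.node (.node (.leaf 0) (.leaf 0)) (.node (.leaf 0) (.leaf 0)))) (.node (.node (.node (.leaf 24) (.leaf 0)) (.node (.leaf 18) (.leaf 0))) (.node (.node (.leaf 0) (.leaf 0)) (.leaf 0)))))) (.node (.node (.node (.node (.node (.node (.leaf 0) (.leaf 0)) (.node (.leaf 0) (.leaf 0))) (.node (.node (.leaf 0) (.leaf 0)) (.node (.leaf 103) (.leaf 0)))) (.node (.node (.node (.leaf 0) (.leaf 75)) (.node (.leaf 0) (.leaf 0))) (.node (.node (.leaf 30) (.leaf 0)) (.node (.leaf 0) (.leaf 0))))) (.node (.node (.node (.node (.leaf 0) (.leaf 0)) (.node (.leaf 0) (.leaf 0))) (.node (.node (.leaf 0) (.leaf 0)) (.node (.leaf 0) (.leaf 0)))) (.node (.node (.node (.leaf 8) (.leaf 0)) (.node (.leaf 0) (.leaf 84))) (.node (.node (.leaf 0) (.leaf 0)) (.leaf 114))))) (.node (.node (.node (.node (.node (.leaf 76) (.leaf 0)) (.node (.leaf 0) (.leaf 0))) (.node (.node (.leaf 0) (.leaf 0)) (.node (.leaf 0) (.leaf 0)))) (.node (.node (.node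 (.leaf 0) (.leaf 0)) (.node (.leaf 0) (.leaf 0))) (.node (.node (.leaf 68) (.leaf 0)) (.leaf 0)))) (.node (.node (.node (.node (.leaf 0) (.leaf 0)) (.node (.leaf 0) (.leaf 0))) (.node (.node (.leaf 22) (.leaf 0)) (.node (.leaf 0) (.leaf 0)))) (.node (.node (.node (.leaf 0) (.leaf 0)) (.node (.leaf 0) (.leaf 0))) (.node (.node (.leaf 0) (.leaf 84)) (.leaf 0))))))) (.node (.node (.node (.node (.node (.node (.node (.leaf 0) (.leaf 79)) (.node (.leaf 0) (.leaf 0))) (.node (.node (.leaf 91) (.leaf 0)) (.node (.leaf 0) (.leaf 0)))) (.node (.node (.node (.leaf 0) (.leaf 79)) (.node (.leaf 0) (.leaf 0))) (.node (.node (.leaf 62) (.leaf 0)) (.node (.leaf 0) (.leaf 0))))) (.node (.node (.node (.node (.leaf 0) (.leaf 72)) (.node (.leaf 117) (.leaf 20))) (.node (.node (.leaf 0) (.leaf 0)) (.node (.leaf 0) (.leaf 0)))) (.node (.node (.node (.leaf 12) (.leaf 0)) (.node (.leaf 66) (.leaf 0))) (.node (.node (.leaf 0) (.leaf 0)) (.leaf 0))))) (.node (.node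 (.node (.node (.node (.leaf 111) (.leaf 48)) (.node (.leaf 105) (.leaf 0))) (.node (.node (.leaf 0) (.leaf 0)) (.node (.leaf 0) (.leaf 0)))) (.node (.node (.node (.leaf 0) (.leaf 0)) (.node (.leaf 0) (.leaf 0))) (.node (.node (.leaf 38) (.leaf 61)) (.leaf 0)))) (.node (.node (.node (.node (.leaf 0) (.leaf 0)) (.node (.leaf 0) (.leaf 0))) (.node (.node (.leaf 0) (.leaf 0)) (.node (.leaf 48) (.leaf 0)))) (.node (.node (.node (.leaf 0) (.leaf 0)) (.node (.leaf 0) (.leaf 0))) (.node (.node (.leaf 16) (.leaf 0)) (.leaf 0)))))) (.node (.node (.node (.node (.node (.node (.leaf 0) (.leaf 0)) (.node (.leaf 0) (.leaf 47))) (.node (.node (.leaf 0) (.leaf 110)) (.node (.leaf 0) (.leaf 0)))) (.node (.node (.node (.leaf 0) (.leaf 0)) (.node (.leaf 104) (.leaf 0))) (.node (.node (.leaf 0) (.leaf 0)) (.node (.leaf 71) (.leaf 0))))) (.node (.node (.node (.node (.leaf 0) (.leaf 0)) (.node (.leaf 0) (.leaf 69))) (.node (.node (.leaf 0) (.leaf 95)) (.node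 (.leaf 12) (.leaf 0)))) (.node (.node (.node (.leaf 55) (.leaf 0)) (.node (.leaf 0) (.leaf 0))) (.node (.node (.leaf 0) (.leaf 100)) (.leaf 46))))) (.node (.node (.node (.node (.node (.leaf 90) (.leaf 0)) (.node (.leaf 0) (.leaf 0))) (.node (.node (.leaf 0) (.leaf 0)) (.node (.leaf 0) (.leaf 0)))) (.node (.node (.node (.leaf 25) (.leaf 0)) (.node (.leaf 91) (.leaf 0))) (.node (.node (.leaf 19) (.leaf 0)) (.leaf 0)))) (.node (.node (.node (.node (.leaf 0) (.leaf 0)) (.node (.leaf 0) (.leaf 0))) (.node (.node (.leaf 0) (.leaf 0)) (.node (.leaf 0) (.leaf 0)))) (.node (.node (.node (.leaf 0) (.leaf 0)) (.node (.leaf 0) (.leaf 0))) (.node (.node (.leaf 0) (.leaf 0)) (.leaf 0)))))))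

/-- Part of `posT`. -/
def posT_p110101 : Tr := .node (.node (.node (.node (.node (.node (.node (.node (.leaf 0) (.leaf 0)) (.node (.leaf 0) (.leaf 0))) (.node (.node (.leaf 0) (.leaf 0)) (.node (.leaf 0) (.leaf 0)))) (.node (.node (.node (.leaf 0) (.leaf 106)) (.node (.leaf 0) (.leaf 0))) (.node (.node (.leaf 0) (.leaf 0)) (.node (.leaf 0) (.leaf 0))))) (.node (.node (.node (.node (.leaf 90) (.leaf 0)) (.node (.leaf 0) (.leaf 46))) (.node (.node (.leaf 0) (.leaf 0)) (.node (.leaf 0) (.leaf 0)))) (.node (.node (.node (.leaf 0) (.leaf 0)) (.node (.leaf 0) (.leaf 0))) (.node (.node (.leaf 84) (.leaf 0)) (.leaf 63))))) (.node (.node (.node (.node (.node (.leaf 0) (.leaf 0)) (.node (.leaf 98) (.leaf 0))) (.node (.node (.leaf 0) (.leaf 92)) (.node (.leaf 37) (.leaf 0)))) (.node (.node (.node (.leaf 93) (.leaf 0)) (.node (.leaf 0) (.leaf 26))) (.node (.node (.leaf 0) (.leaf 0)) (.leaf 0)))) (.node (.node (.node (.node (.leaf 0) (.leaf 0))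 (.node (.leaf 0) (.leaf 0))) (.node (.node (.leaf 0) (.leaf 0)) (.node (.leaf 58) (.leaf 0)))) (.node (.node (.node (.leaf 0) (.leaf 0)) (.node (.leaf 0) (.leaf 0))) (.node (.node (.leaf 0) (.leaf 20)) (.leaf 31)))))) (.node (.node (.node (.node (.node (.node (.leaf 0) (.leaf 0)) (.node (.leaf 0) (.leaf 0))) (.node (.node (.leaf 0) (.leaf 0)) (.node (.leaf 0) (.leaf 0)))) (.node (.node (.node (.leaf 0) (.leaf 0)) (.node (.leaf 0) (.leaf 0))) (.node (.node (.leaf 89) (.leaf 108)) (.node (.leaf 0) (.leaf 0))))) (.node (.node (.node (.node (.leaf 0) (.leaf 0)) (.node (.leaf 0) (.leaf 0))) (.node (.node (.leaf 0) (.leaf 0)) (.node (.leaf 0) (.leaf 0)))) (.node (.node (.node (.leaf 0) (.leaf 0)) (.node (.leaf 51) (.leaf 0))) (.node (.node (.leaf 0) (.leaf 0)) (.leaf 75))))) (.node (.node (.node (.node (.node (.leaf 64) (.leaf 0)) (.node (.leaf 0) (.leaf 0))) (.node (.node (.leaf 0) (.leaf 0)) (.node (.leaf 0) (.leaf 106)))) (.node (.node (.node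 (.leaf 0) (.leaf 74)) (.node (.leaf 0) (.leaf 0))) (.node (.node (.leaf 60) (.leaf 21)) (.leaf 0)))) (.node (.node (.node (.node (.leaf 60) (.leaf 0)) (.node (.leaf 6) (.leaf 0))) (.node (.node (.leaf 124) (.leaf 0)) (.node (.leaf 0) (.leaf 0)))) (.node (.node (.node (.leaf 0) (.leaf 29)) (.node (.leaf 0) (.leaf 0))) (.node (.node (.leaf 0) (.leaf 0)) (.leaf 0))))))) (.node (.node (.node (.node (.node (.node (.node (.leaf 0) (.leaf 0)) (.node (.leaf 0) (.leaf 0))) (.node (.node (.leaf 107) (.leaf 0)) (.node (.leaf 0) (.leaf 0)))) (.node (.node (.node (.leaf 0) (.leaf 0)) (.node (.leaf 89) (.leaf 118))) (.node (.node (.leaf 0) (.leaf 0)) (.node (.leaf 0) (.leaf 0))))) (.node (.node (.node (.node (.leaf 0) (.leaf 53)) (.node (.leaf 17) (.leaf 0))) (.node (.node (.leaf 0) (.leaf 0)) (.node (.leaf 0) (.leaf 0)))) (.node (.node (.node (.leaf 0) (.leaf 79)) (.node (.leaf 0) (.leaf 0))) (.node (.node (.leaf 0) (.leaf 119)) (.leaf 65))))) (.node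 (.node (.node (.node (.node (.leaf 0) (.leaf 74)) (.node (.leaf 27) (.leaf 0))) (.node (.node (.leaf 0) (.leaf 0)) (.node (.leaf 0) (.leaf 0)))) (.node (.node (.node (.leaf 0) (.leaf 38)) (.node (.leaf 0) (.leaf 0))) (.node (.node (.leaf 0) (.leaf 0)) (.leaf 0)))) (.node (.node (.node (.node (.leaf 0) (.leaf 42)) (.node (.leaf 0) (.leaf 0))) (.node (.node (.leaf 0) (.leaf 0)) (.node (.leaf 0) (.leaf 0)))) (.node (.node (.node (.leaf 0) (.leaf 82)) (.node (.leaf 27) (.leaf 0))) (.node (.node (.leaf 0) (.leaf 0)) (.leaf 0)))))) (.node (.node (.node (.node (.node (.node (.leaf 0) (.leaf 0)) (.node (.leaf 40) (.leaf 7))) (.node (.node (.leaf 0) (.leaf 0)) (.node (.leaf 0) (.leaf 0)))) (.node (.node (.node (.leaf 0) (.leaf 0)) (.node (.leaf 0) (.leaf 0))) (.node (.node (.leaf 0) (.leaf 0)) (.node (.leaf 0) (.leaf 0))))) (.node (.node (.node (.node (.leaf 0) (.leaf 0)) (.node (.leaf 0) (.leaf 0))) (.node (.node (.leaf 0) (.leaf 35)) (.node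 (.leaf 0) (.leaf 91)))) (.node (.node (.node (.leaf 0) (.leaf 66)) (.node (.leaf 0) (.leaf 0))) (.node (.node (.leaf 0) (.leaf 0)) (.leaf 0))))) (.node (.node (.node (.node (.node (.leaf 0) (.leaf 26)) (.node (.leaf 83) (.leaf 0))) (.node (.node (.leaf 74) (.leaf 0)) (.node (.leaf 0) (.leaf 0)))) (.node (.node (.node (.leaf 0) (.leaf 94)) (.node (.leaf 0) (.leaf 70))) (.node (.node (.leaf 72) (.leaf 0)) (.leaf 0)))) (.node (.node (.node (.node (.leaf 0) (.leaf 0)) (.node (.leaf 59) (.leaf 0))) (.node (.node (.leaf 0) (.leaf 0)) (.node (.leaf 0) (.leaf 0)))) (.node (.node (.node (.leaf 0) (.leaf 0)) (.node (.leaf 0) (.leaf 0))) (.node (.node (.leaf 4) (.leaf 0)) (.leaf 0)))))))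

/-- Part of `posT`. -/
def posT_p110110 : Tr := .node (.node (.node (.node (.node (.node (.node (.node (.leaf 67) (.leaf 0)) (.node (.leaf 0) (.leaf 0))) (.node (.node (.leaf 0) (.leaf 0)) (.node (.leaf 0) (.leaf 0)))) (.node (.node (.node (.leaf 0) (.leaf 0)) (.node (.leaf 0) (.leaf 0))) (.node (.node (.leaf 0) (.leaf 44)) (.node (.leaf 0) (.leaf 0))))) (.node (.node (.node (.node (.leaf 0) (.leaf 0)) (.node (.leaf 0) (.leaf 0))) (.node (.node (.leaf 0) (.leaf 0)) (.node (.leaf 81) (.leaf 3)))) (.node (.node (.node (.leaf 0) (.leaf 0)) (.node (.leaf 0) (.leaf 0))) (.node (.node (.leaf 0) (.leaf 0)) (.leaf 52))))) (.node (.node (.node (.node (.node (.leaf 76) (.leaf 0)) (.node (.leaf 0) (.leaf 0))) (.node (.node (.leaf 0) (.leaf 0)) (.node (.leaf 0) (.leaf 0)))) (.node (.node (.node (.leaf 114) (.leaf 0)) (.node (.leaf 0) (.leaf 0))) (.node (.node (.leaf 82) (.leaf 0)) (.leaf 0)))) (.node (.node (.node (.node (.leaf 0) (.leaf 0)) (.node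 (.leaf 0) (.leaf 0))) (.node (.node (.leaf 0) (.leaf 0)) (.node (.leaf 18) (.leaf 0)))) (.node (.node (.node (.leaf 0) (.leaf 0)) (.node (.leaf 0) (.leaf 0))) (.node (.node (.leaf 0) (.leaf 0)) (.leaf 0)))))) (.node (.node (.node (.node (.node (.node (.leaf 0) (.leaf 118)) (.node (.leaf 0) (.leaf 0))) (.node (.node (.leaf 0) (.leaf 0)) (.node (.leaf 0) (.leaf 0)))) (.node (.node (.node (.leaf 0) (.leaf 0)) (.node (.leaf 20) (.leaf 0))) (.node (.node (.leaf 0) (.leaf 0)) (.node (.leaf 0) (.leaf 0))))) (.node (.node (.node (.node (.leaf 0) (.leaf 0)) (.node (.leaf 123) (.leaf 0))) (.node (.node (.leaf 107) (.leaf 0)) (.node (.leaf 0) (.leaf 0)))) (.node (.node (.node (.leaf 0) (.leaf 0)) (.node (.leaf 0) (.leaf 0))) (.node (.node (.leaf 120) (.leaf 0)) (.leaf 0))))) (.node (.node (.node (.node (.node (.leaf 0) (.leaf 0)) (.node (.leaf 0) (.leaf 0))) (.node (.node (.leaf 31) (.leaf 0)) (.node (.leaf 0) (.leaf 0)))) (.node (.node (.node (.leaf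 0) (.leaf 0)) (.node (.leaf 32) (.leaf 0))) (.node (.node (.leaf 0) (.leaf 0)) (.leaf 0)))) (.node (.node (.node (.node (.leaf 0) (.leaf 0)) (.node (.leaf 78) (.leaf 0))) (.node (.node (.leaf 0) (.leaf 0)) (.node (.leaf 0) (.leaf 53)))) (.node (.node (.node (.leaf 125) (.leaf 0)) (.node (.leaf 0) (.leaf 0))) (.node (.node (.leaf 0) (.leaf 105)) (.leaf 0))))))) (.node (.node (.node (.node (.node (.node (.node (.leaf 0) (.leaf 0)) (.node (.leaf 0) (.leaf 0))) (.node (.node (.leaf 0) (.leaf 0)) (.node (.leaf 9) (.leaf 109)))) (.node (.node (.node (.leaf 0) (.leaf 0)) (.node (.leaf 0) (.leaf 0))) (.node (.node (.leaf 49) (.leaf 25)) (.node (.leaf 0) (.leaf 0))))) (.node (.node (.node (.node (.leaf 0) (.leaf 0)) (.node (.leaf 0) (.leaf 0))) (.node (.node (.leaf 0) (.leaf 0)) (.node (.leaf 0) (.leaf 0)))) (.node (.node (.node (.leaf 40) (.leaf 0)) (.node (.leaf 36) (.leaf 0))) (.node (.node (.leaf 3) (.leaf 0)) (.leaf 0))))) (.node (.node (.node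 (.node (.node (.leaf 0) (.leaf 0)) (.node (.leaf 0) (.leaf 0))) (.node (.node (.leaf 102) (.leaf 0)) (.node (.leaf 0) (.leaf 33)))) (.node (.node (.node (.leaf 0) (.leaf 85)) (.node (.leaf 0) (.leaf 0))) (.node (.node (.leaf 0) (.leaf 0)) (.leaf 0)))) (.node (.node (.node (.node (.leaf 0) (.leaf 32)) (.node (.leaf 0) (.leaf 0))) (.node (.node (.leaf 0) (.leaf 0)) (.node (.leaf 23) (.leaf 0)))) (.node (.node (.node (.leaf 0) (.leaf 0)) (.node (.leaf 0) (.leaf 0))) (.node (.node (.leaf 88) (.leaf 0)) (.leaf 0)))))) (.node (.node (.node (.node (.node (.node (.leaf 76) (.leaf 0)) (.node (.leaf 0) (.leaf 57))) (.node (.node (.leaf 0) (.leaf 0)) (.node (.leaf 0) (.leaf 0)))) (.node (.node (.node (.leaf 0) (.leaf 0)) (.node (.leaf 0) (.leaf 0))) (.node (.node (.leaf 10) (.leaf 0)) (.node (.leaf 0) (.leaf 0))))) (.node (.node (.node (.node (.leaf 0) (.leaf 0)) (.node (.leaf 0) (.leaf 0))) (.node (.node (.leaf 2) (.leaf 0)) (.node (.leaf 0) (.leaf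 0)))) (.node (.node (.node (.leaf 118) (.leaf 0)) (.node (.leaf 0) (.leaf 0))) (.node (.node (.leaf 0) (.leaf 0)) (.leaf 0))))) (.node (.node (.node (.node (.node (.leaf 0) (.leaf 0)) (.node (.leaf 0) (.leaf 0))) (.node (.node (.leaf 0) (.leaf 0)) (.node (.leaf 0) (.leaf 0)))) (.node (.node (.node (.leaf 0) (.leaf 0)) (.node (.leaf 0) (.leaf 0))) (.node (.node (.leaf 0) (.leaf 0)) (.leaf 24)))) (.node (.node (.node (.node (.leaf 120) (.leaf 59)) (.node (.leaf 0) (.leaf 0))) (.node (.node (.leaf 0) (.leaf 0)) (.node (.leaf 0) (.leaf 0)))) (.node (.node (.node (.leaf 87) (.leaf 0)) (.node (.leaf 0) (.leaf 108))) (.node (.node (.leaf 0) (.leaf 0)) (.leaf 19)))))))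

/-- Part of `posT`. -/
def posT_p110111 : Tr := .node (.node (.node (.node (.node (.node (.node (.node (.leaf 0) (.leaf 10)) (.node (.leaf 49) (.leaf 0))) (.node (.node (.leaf 106) (.leaf 73)) (.node (.leaf 124) (.leaf 62)))) (.node (.node (.node (.leaf 0) (.leaf 0)) (.node (.leaf 123) (.leaf 0))) (.node (.node (.leaf 0) (.leaf 0)) (.node (.leaf 9) (.leaf 89))))) (.node (.node (.node (.node (.leaf 0) (.leaf 0)) (.node (.leaf 0) (.leaf 66))) (.node (.node (.leaf 16) (.leaf 0)) (.node (.leaf 92) (.leaf 0)))) (.node (.node (.node (.leaf 0) (.leaf 0)) (.node (.leaf 0) (.leaf 0))) (.node (.node (.leaf 0) (.leaf 32)) (.leaf 0))))) (.node (.node (.node (.node (.node (.leaf 0) (.leaf 11)) (.node (.leaf 0) (.leaf 0))) (.node (.node (.leaf 0) (.leaf 0)) (.node (.leaf 0) (.leaf 0)))) (.node (.node (.node (.leaf 0) (.leaf 100)) (.node (.leaf 115) (.leaf 0))) (.node (.node (.leaf 0) (.leaf 0)) (.leaf 0)))) (.node (.node (.node (.node (.leaf 0) (.leaf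 0)) (.node (.leaf 0) (.leaf 0))) (.node (.node (.leaf 0) (.leaf 0)) (.node (.leaf 0) (.leaf 0)))) (.node (.node (.node (.leaf 0) (.leaf 54)) (.node (.leaf 0) (.leaf 0))) (.node (.node (.leaf 0) (.leaf 0)) (.leaf 0)))))) (.node (.node (.node (.node (.node (.node (.leaf 0) (.leaf 0)) (.node (.leaf 60) (.leaf 0))) (.node (.node (.leaf 0) (.leaf 0)) (.node (.leaf 89) (.leaf 0)))) (.node (.node (.node (.leaf 0) (.leaf 0)) (.node (.leaf 35) (.leaf 0))) (.node (.node (.leaf 16) (.leaf 0)) (.node (.leaf 0) (.leaf 37))))) (.node (.node (.node (.node (.leaf 0) (.leaf 0)) (.node (.leaf 0) (.leaf 0))) (.node (.node (.leaf 0) (.leaf 101)) (.node (.leaf 60) (.leaf 0)))) (.node (.node (.node (.leaf 0) (.leaf 0)) (.node (.leaf 0) (.leaf 0))) (.node (.node (.leaf 0) (.leaf 0)) (.leaf 117))))) (.node (.node (.node (.node (.node (.leaf 0) (.leaf 0)) (.node (.leaf 0) (.leaf 0))) (.node (.node (.leaf 0) (.leaf 0)) (.node (.leaf 0) (.leaf 0)))) (.node (.node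 (.node (.leaf 0) (.leaf 0)) (.node (.leaf 71) (.leaf 7))) (.node (.node (.leaf 0) (.leaf 0)) (.leaf 106)))) (.node (.node (.node (.node (.leaf 44) (.leaf 0)) (.node (.leaf 0) (.leaf 0))) (.node (.node (.leaf 0) (.leaf 0)) (.node (.leaf 0) (.leaf 63)))) (.node (.node (.node (.leaf 0) (.leaf 0)) (.node (.leaf 3) (.leaf 0))) (.node (.node (.leaf 0) (.leaf 0)) (.leaf 0))))))) (.node (.node (.node (.node (.node (.node (.node (.leaf 0) (.leaf 56)) (.node (.leaf 0) (.leaf 113))) (.node (.node (.leaf 0) (.leaf 0)) (.node (.leaf 0) (.leaf 55)))) (.node (.node (.node (.leaf 0) (.leaf 0)) (.node (.leaf 0) (.leaf 0))) (.node (.node (.leaf 113) (.leaf 80)) (.node (.leaf 0) (.leaf 0))))) (.node (.node (.node (.node (.leaf 0) (.leaf 0)) (.node (.leaf 0) (.leaf 0))) (.node (.node (.leaf 11) (.leaf 0)) (.node (.leaf 0) (.leaf 0)))) (.node (.node (.node (.leaf 0) (.leaf 0)) (.node (.leaf 100) (.leaf 0))) (.node (.node (.leaf 0) (.leaf 0)) (.leaf 0)))))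 (.node (.node (.node (.node (.node (.leaf 0) (.leaf 0)) (.node (.leaf 0) (.leaf 0))) (.node (.node (.leaf 80) (.leaf 112)) (.node (.leaf 0) (.leaf 99)))) (.node (.node (.node (.leaf 0) (.leaf 0)) (.node (.leaf 0) (.leaf 0))) (.node (.node (.leaf 54) (.leaf 0)) (.leaf 0)))) (.node (.node (.node (.node (.leaf 0) (.leaf 0)) (.node (.leaf 0) (.leaf 0))) (.node (.node (.leaf 91) (.leaf 0)) (.node (.leaf 0) (.leaf 0)))) (.node (.node (.node (.leaf 0) (.leaf 0)) (.node (.leaf 0) (.leaf 0))) (.node (.node (.leaf 0) (.leaf 0)) (.leaf 0)))))) (.node (.node (.node (.node (.node (.node (.leaf 0) (.leaf 0)) (.node (.leaf 0) (.leaf 0))) (.node (.node (.leaf 0) (.leaf 0)) (.node (.leaf 0) (.leaf 73)))) (.node (.node (.node (.leaf 0) (.leaf 0)) (.node (.leaf 0) (.leaf 0))) (.node (.node (.leaf 0) (.leaf 72)) (.node (.leaf 86) (.leaf 0))))) (.node (.node (.node (.node (.leaf 29) (.leaf 0)) (.node (.leaf 0) (.leaf 0))) (.node (.node (.leaf 66) (.leaf 0))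 (.node (.leaf 0) (.leaf 0)))) (.node (.node (.node (.leaf 0) (.leaf 0)) (.node (.leaf 0) (.leaf 0))) (.node (.node (.leaf 25) (.leaf 0)) (.leaf 0))))) (.node (.node (.node (.node (.node (.leaf 64) (.leaf 0)) (.node (.leaf 48) (.leaf 0))) (.node (.node (.leaf 0) (.leaf 0)) (.node (.leaf 0) (.leaf 0)))) (.node (.node (.node (.leaf 0) (.leaf 51)) (.node (.leaf 0) (.leaf 0))) (.node (.node (.leaf 116) (.leaf 0)) (.leaf 0)))) (.node (.node (.node (.node (.leaf 0) (.leaf 0)) (.node (.leaf 58) (.leaf 0))) (.node (.node (.leaf 0) (.leaf 7)) (.node (.leaf 0) (.leaf 32)))) (.node (.node (.node (.leaf 0) (.leaf 0)) (.node (.leaf 48) (.leaf 0))) (.node (.node (.leaf 0) (.leaf 0)) (.leaf 0)))))))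

/-- Part of `posT`. -/
def posT_p111000 : Tr := .node (.node (.node (.node (.node (.node (.node (.node (.leaf 0) (.leaf 0)) (.node (.leaf 0) (.leaf 0))) (.node (.node (.leaf 0) (.leaf 0)) (.node (.leaf 0) (.leaf 101)))) (.node (.node (.node (.leaf 0) (.leaf 0)) (.node (.leaf 0) (.leaf 0))) (.node (.node (.leaf 0) (.leaf 57)) (.node (.leaf 0) (.leaf 0))))) (.node (.node (.node (.node (.leaf 0) (.leaf 0)) (.node (.leaf 0) (.leaf 0))) (.node (.node (.leaf 0) (.leaf 0)) (.node (.leaf 0) (.leaf 0)))) (.node (.node (.node (.leaf 0) (.leaf 0)) (.node (.leaf 0) (.leaf 11))) (.node (.node (.leaf 0) (.leaf 0)) (.leaf 0))))) (.node (.node (.node (.node (.node (.leaf 0) (.leaf 114)) (.node (.leaf 0) (.leaf 0))) (.node (.node (.leaf 0) (.leaf 101)) (.node (.leaf 0) (.leaf 0)))) (.node (.node (.node (.leaf 0) (.leaf 0)) (.node (.leaf 0) (.leaf 8))) (.node (.node (.leaf 0) (.leaf 0)) (.node (.leaf 0) (.leaf 69))))) (.node (.node (.node (.node (.leaf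 4) (.leaf 0)) (.node (.leaf 0) (.leaf 0))) (.node (.node (.leaf 0) (.leaf 100)) (.node (.leaf 0) (.leaf 0)))) (.node (.node (.node (.leaf 0) (.leaf 0)) (.node (.leaf 0) (.leaf 0))) (.node (.node (.leaf 123) (.leaf 104)) (.leaf 0)))))) (.node (.node (.node (.node (.node (.node (.leaf 67) (.leaf 0)) (.node (.leaf 0) (.leaf 0))) (.node (.node (.leaf 0) (.leaf 3)) (.node (.leaf 0) (.leaf 56)))) (.node (.node (.node (.leaf 0) (.leaf 0)) (.node (.leaf 0) (.leaf 0))) (.node (.node (.leaf 0) (.leaf 0)) (.node (.leaf 0) (.leaf 11))))) (.node (.node (.node (.node (.leaf 0) (.leaf 2)) (.node (.leaf 0) (.leaf 0))) (.node (.node (.leaf 0) (.leaf 0)) (.node (.leaf 0) (.leaf 0)))) (.node (.node (.node (.leaf 0) (.leaf 0)) (.node (.leaf 0) (.leaf 0))) (.node (.node (.leaf 0) (.leaf 0)) (.leaf 0))))) (.node (.node (.node (.node (.node (.leaf 90) (.leaf 0)) (.node (.leaf 0) (.leaf 0))) (.node (.node (.leaf 0) (.leaf 98)) (.node (.leaf 0) (.leaf 0)))) (.node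 (.node (.node (.leaf 73) (.leaf 0)) (.node (.leaf 0) (.leaf 94))) (.node (.node (.leaf 105) (.leaf 0)) (.leaf 0)))) (.node (.node (.node (.node (.leaf 0) (.leaf 0)) (.node (.leaf 14) (.leaf 0))) (.node (.node (.leaf 0) (.leaf 31)) (.node (.leaf 0) (.leaf 0)))) (.node (.node (.node (.leaf 0) (.leaf 0)) (.node (.leaf 0) (.leaf 124))) (.node (.node (.leaf 0) (.leaf 0)) (.leaf 0))))))) (.node (.node (.node (.node (.node (.node (.node (.leaf 0) (.leaf 121)) (.node (.leaf 0) (.leaf 13))) (.node (.node (.leaf 0) (.leaf 0)) (.node (.leaf 0) (.leaf 80)))) (.node (.node (.node (.leaf 73) (.leaf 0)) (.node (.leaf 0) (.leaf 0))) (.node (.node (.leaf 0) (.leaf 0)) (.node (.leaf 0) (.leaf 0))))) (.node (.node (.node (.node (.leaf 0) (.leaf 0)) (.node (.leaf 0) (.leaf 36))) (.node (.node (.leaf 0) (.leaf 72)) (.node (.leaf 0) (.leaf 0)))) (.node (.node (.node (.leaf 0) (.leaf 0)) (.node (.leaf 0) (.leaf 0))) (.node (.node (.leaf 2) (.leaf 42)) (.leaf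 0))))) (.node (.node (.node (.node (.node (.leaf 90) (.leaf 0)) (.node (.leaf 24) (.leaf 0))) (.node (.node (.leaf 0) (.leaf 0)) (.node (.leaf 0) (.leaf 0)))) (.node (.node (.node (.leaf 0) (.leaf 0)) (.node (.leaf 113) (.leaf 59))) (.node (.node (.leaf 0) (.leaf 83)) (.leaf 124)))) (.node (.node (.node (.node (.leaf 0) (.leaf 22)) (.node (.leaf 0) (.leaf 0))) (.node (.node (.leaf 0) (.leaf 0)) (.node (.leaf 0) (.leaf 0)))) (.node (.node (.node (.leaf 0) (.leaf 81)) (.node (.leaf 0) (.leaf 0))) (.node (.node (.leaf 0) (.leaf 0)) (.leaf 0)))))) (.node (.node (.node (.node (.node (.node (.leaf 0) (.leaf 0)) (.node (.leaf 0) (.leaf 0))) (.node (.node (.leaf 0) (.leaf 0)) (.node (.leaf 0) (.leaf 0)))) (.node (.node (.node (.leaf 96) (.leaf 88)) (.node (.leaf 0) (.leaf 0))) (.node (.node (.leaf 122) (.leaf 0)) (.node (.leaf 0) (.leaf 120))))) (.node (.node (.node (.node (.leaf 0) (.leaf 0)) (.node (.leaf 65) (.leaf 123))) (.node (.node (.leaf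 0) (.leaf 0)) (.node (.leaf 0) (.leaf 0)))) (.node (.node (.node (.leaf 0) (.leaf 0)) (.node (.leaf 103) (.leaf 0))) (.node (.node (.leaf 0) (.leaf 0)) (.leaf 0))))) (.node (.node (.node (.node (.node (.leaf 0) (.leaf 0)) (.node (.leaf 16) (.leaf 0))) (.node (.node (.leaf 119) (.leaf 0)) (.node (.leaf 0) (.leaf 0)))) (.node (.node (.node (.leaf 0) (.leaf 0)) (.node (.leaf 0) (.leaf 0))) (.node (.node (.leaf 21) (.leaf 93)) (.leaf 0)))) (.node (.node (.node (.node (.leaf 0) (.leaf 95)) (.node (.leaf 0) (.leaf 96))) (.node (.node (.leaf 0) (.leaf 68)) (.node (.leaf 88) (.leaf 0)))) (.node (.node (.node (.leaf 0) (.leaf 0)) (.node (.leaf 0) (.leaf 0))) (.node (.node (.leaf 116) (.leaf 28)) (.leaf 0)))))))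

/-- Part of `posT`. -/
def posT_p111001 : Tr := .node (.node (.node (.node (.node (.node (.node (.node (.leaf 0) (.leaf 0)) (.node (.leaf 0) (.leaf 0))) (.node (.node (.leaf 0) (.leaf 0)) (.node (.leaf 0) (.leaf 0)))) (.node (.node (.node (.leaf 0) (.leaf 0)) (.node (.leaf 50) (.leaf 0))) (.node (.node (.leaf 0) (.leaf 0)) (.node (.leaf 0) (.leaf 2))))) (.node (.node (.node (.node (.leaf 0) (.leaf 0)) (.node (.leaf 0) (.leaf 0))) (.node (.node (.leaf 0) (.leaf 0)) (.node (.leaf 0) (.leaf 0)))) (.node (.node (.node (.leaf 3) (.leaf 16)) (.node (.leaf 0) (.leaf 0))) (.node (.node (.leaf 0) (.leaf 59)) (.leaf 0))))) (.node (.node (.node (.node (.node (.leaf 0) (.leaf 81)) (.node (.leaf 78) (.leaf 0))) (.node (.node (.leaf 0) (.leaf 0)) (.node (.leaf 0) (.leaf 0)))) (.node (.node (.node (.leaf 0) (.leaf 0)) (.node (.leaf 0) (.leaf 0))) (.node (.node (.leaf 0) (.leaf 0)) (.leaf 0)))) (.node (.node (.node (.node (.leaf 100) (.leaf 0)) (.node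 (.leaf 12) (.leaf 0))) (.node (.node (.leaf 0) (.leaf 0)) (.node (.leaf 0) (.leaf 0)))) (.node (.node (.node (.leaf 6) (.leaf 78)) (.node (.leaf 0) (.leaf 0))) (.node (.node (.leaf 0) (.leaf 0)) (.leaf 0)))))) (.node (.node (.node (.node (.node (.node (.leaf 64) (.leaf 0)) (.node (.leaf 0) (.leaf 0))) (.node (.node (.leaf 0) (.leaf 0)) (.node (.leaf 0) (.leaf 0)))) (.node (.node (.node (.leaf 0) (.leaf 0)) (.node (.leaf 0) (.leaf 0))) (.node (.node (.leaf 0) (.leaf 0)) (.node (.leaf 0) (.leaf 0))))) (.node (.node (.node (.node (.leaf 0) (.leaf 0)) (.node (.leaf 0) (.leaf 59))) (.node (.node (.leaf 0) (.leaf 0)) (.node (.leaf 0) (.leaf 0)))) (.node (.node (.node (.leaf 0) (.leaf 0)) (.node (.leaf 0) (.leaf 0))) (.node (.node (.leaf 62) (.leaf 0)) (.leaf 0))))) (.node (.node (.node (.node (.node (.leaf 76) (.leaf 0)) (.node (.leaf 0) (.leaf 0))) (.node (.node (.leaf 17) (.leaf 0)) (.node (.leaf 0) (.leaf 0)))) (.node (.node (.node (.leaf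 0) (.leaf 0)) (.node (.leaf 0) (.leaf 91))) (.node (.node (.leaf 0) (.leaf 0)) (.leaf 0)))) (.node (.node (.node (.node (.leaf 0) (.leaf 0)) (.node (.leaf 0) (.leaf 85))) (.node (.node (.leaf 0) (.leaf 0)) (.node (.leaf 0) (.leaf 124)))) (.node (.node (.node (.leaf 0) (.leaf 0)) (.node (.leaf 0) (.leaf 0))) (.node (.node (.leaf 0) (.leaf 0)) (.leaf 0))))))) (.node (.node (.node (.node (.node (.node (.node (.leaf 67) (.leaf 0)) (.node (.leaf 0) (.leaf 0))) (.node (.node (.leaf 0) (.leaf 52)) (.node (.leaf 41) (.leaf 0)))) (.node (.node (.node (.leaf 0) (.leaf 0)) (.node (.leaf 0) (.leaf 0))) (.node (.node (.leaf 0) (.leaf 0)) (.node (.leaf 0) (.leaf 0))))) (.node (.node (.node (.node (.leaf 0) (.leaf 0)) (.node (.leaf 0) (.leaf 83))) (.node (.node (.leaf 0) (.leaf 0)) (.node (.leaf 0) (.leaf 122)))) (.node (.node (.node (.leaf 0) (.leaf 0)) (.node (.leaf 0) (.leaf 0))) (.node (.node (.leaf 0) (.leaf 0)) (.leaf 0))))) (.node (.node (.node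 (.node (.node (.leaf 0) (.leaf 0)) (.node (.leaf 0) (.leaf 0))) (.node (.node (.leaf 9) (.leaf 0)) (.node (.leaf 0) (.leaf 0)))) (.node (.node (.node (.leaf 0) (.leaf 0)) (.node (.leaf 0) (.leaf 0))) (.node (.node (.leaf 0) (.leaf 0)) (.leaf 0)))) (.node (.node (.node (.node (.leaf 0) (.leaf 39)) (.node (.leaf 95) (.leaf 0))) (.node (.node (.leaf 0) (.leaf 0)) (.node (.leaf 0) (.leaf 0)))) (.node (.node (.node (.leaf 0) (.leaf 0)) (.node (.leaf 72) (.leaf 86))) (.node (.node (.leaf 0) (.leaf 0)) (.leaf 0)))))) (.node (.node (.node (.node (.node (.node (.leaf 0) (.leaf 0)) (.node (.leaf 103) (.leaf 0))) (.node (.node (.leaf 0) (.leaf 0)) (.node (.leaf 0) (.leaf 74)))) (.node (.node (.node (.leaf 0) (.leaf 0)) (.node (.leaf 0) (.leaf 0))) (.node (.node (.leaf 0) (.leaf 0)) (.node (.leaf 36) (.leaf 0))))) (.node (.node (.node (.node (.leaf 0) (.leaf 0)) (.node (.leaf 0) (.leaf 0))) (.node (.node (.leaf 0) (.leaf 0)) (.node (.leaf 0) (.leaf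 0)))) (.node (.node (.node (.leaf 0) (.leaf 0)) (.node (.leaf 0) (.leaf 0))) (.node (.node (.leaf 28) (.leaf 0)) (.leaf 0))))) (.node (.node (.node (.node (.node (.leaf 0) (.leaf 0)) (.node (.leaf 0) (.leaf 0))) (.node (.node (.leaf 0) (.leaf 0)) (.node (.leaf 0) (.leaf 121)))) (.node (.node (.node (.leaf 0) (.leaf 0)) (.node (.leaf 0) (.leaf 0))) (.node (.node (.leaf 0) (.leaf 104)) (.leaf 0)))) (.node (.node (.node (.node (.leaf 0) (.leaf 0)) (.node (.leaf 0) (.leaf 0))) (.node (.node (.leaf 0) (.leaf 0)) (.node (.leaf 0) (.leaf 0)))) (.node (.node (.node (.leaf 0) (.leaf 0)) (.node (.leaf 14) (.leaf 0))) (.node (.node (.leaf 0) (.leaf 0)) (.leaf 0)))))))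

/-- Part of `posT`. -/
def posT_p111010 : Tr := .node (.node (.node (.node (.node (.node (.node (.node (.leaf 0) (.leaf 0)) (.node (.leaf 43) (.leaf 0))) (.node (.node (.leaf 18) (.leaf 0)) (.node (.leaf 0) (.leaf 34)))) (.node (.node (.node (.leaf 0) (.leaf 0)) (.node (.leaf 0) (.leaf 0))) (.node (.node (.leaf 0) (.leaf 0)) (.node (.leaf 0) (.leaf 0))))) (.node (.node (.node (.node (.leaf 0) (.leaf 0)) (.node (.leaf 0) (.leaf 0))) (.node (.node (.leaf 0) (.leaf 8)) (.node (.leaf 0) (.leaf 0)))) (.node (.node (.node (.leaf 0) (.leaf 69)) (.node (.leaf 0) (.leaf 0))) (.node (.node (.leaf 0) (.leaf 0)) (.leaf 0))))) (.node (.node (.node (.node (.node (.leaf 0) (.leaf 0)) (.node (.leaf 0) (.leaf 0))) (.node (.node (.leaf 0) (.leaf 0)) (.node (.leaf 0) (.leaf 0)))) (.node (.node (.node (.leaf 0) (.leaf 0)) (.node (.leaf 0) (.leaf 0))) (.node (.node (.leaf 0) (.leaf 121)) (.leaf 0)))) (.node (.node (.node (.node (.leaf 0) (.leaf 0)) (.node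 (.leaf 0) (.leaf 0))) (.node (.node (.leaf 123) (.leaf 0)) (.node (.leaf 0) (.leaf 0)))) (.node (.node (.node (.leaf 0) (.leaf 119)) (.node (.leaf 102) (.leaf 0))) (.node (.node (.leaf 0) (.leaf 0)) (.leaf 0)))))) (.node (.node (.node (.node (.node (.node (.leaf 111) (.leaf 0)) (.node (.leaf 0) (.leaf 0))) (.node (.node (.leaf 0) (.leaf 0)) (.node (.leaf 0) (.leaf 0)))) (.node (.node (.node (.leaf 0) (.leaf 0)) (.node (.leaf 0) (.leaf 0))) (.node (.node (.leaf 0) (.leaf 0)) (.node (.leaf 0) (.leaf 55))))) (.node (.node (.node (.node (.leaf 0) (.leaf 0)) (.node (.leaf 0) (.leaf 63))) (.node (.node (.leaf 0) (.leaf 0)) (.node (.leaf 0) (.leaf 102)))) (.node (.node (.node (.leaf 0) (.leaf 0)) (.node (.leaf 97) (.leaf 0))) (.node (.node (.leaf 0) (.leaf 0)) (.leaf 0))))) (.node (.node (.node (.node (.node (.leaf 67) (.leaf 0)) (.node (.leaf 0) (.leaf 0))) (.node (.node (.leaf 0) (.leaf 0)) (.node (.leaf 0) (.leaf 0)))) (.node (.node (.node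 (.leaf 10) (.leaf 0)) (.node (.leaf 39) (.leaf 0))) (.node (.node (.leaf 0) (.leaf 0)) (.leaf 8)))) (.node (.node (.node (.node (.leaf 0) (.leaf 0)) (.node (.leaf 0) (.leaf 61))) (.node (.node (.leaf 0) (.leaf 0)) (.node (.leaf 0) (.leaf 0)))) (.node (.node (.node (.leaf 0) (.leaf 0)) (.node (.leaf 68) (.leaf 0))) (.node (.node (.leaf 0) (.leaf 0)) (.leaf 0))))))) (.node (.node (.node (.node (.node (.node (.node (.leaf 64) (.leaf 0)) (.node (.leaf 0) (.leaf 0))) (.node (.node (.leaf 0) (.leaf 0)) (.node (.leaf 0) (.leaf 2)))) (.node (.node (.node (.leaf 0) (.leaf 0)) (.node (.leaf 0) (.leaf 31))) (.node (.node (.leaf 0) (.leaf 0)) (.node (.leaf 0) (.leaf 0))))) (.node (.node (.node (.node (.leaf 0) (.leaf 0)) (.node (.leaf 0) (.leaf 0))) (.node (.node (.leaf 0) (.leaf 0)) (.node (.leaf 0) (.leaf 0)))) (.node (.node (.node (.leaf 0) (.leaf 82)) (.node (.leaf 0) (.leaf 0))) (.node (.node (.leaf 0) (.leaf 0)) (.leaf 0))))) (.node (.node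 (.node (.node (.node (.leaf 0) (.leaf 0)) (.node (.leaf 0) (.leaf 95))) (.node (.node (.leaf 42) (.leaf 0)) (.node (.leaf 0) (.leaf 0)))) (.node (.node (.node (.leaf 0) (.leaf 0)) (.node (.leaf 0) (.leaf 0))) (.node (.node (.leaf 0) (.leaf 0)) (.leaf 0)))) (.node (.node (.node (.node (.leaf 0) (.leaf 0)) (.node (.leaf 45) (.leaf 98))) (.node (.node (.leaf 0) (.leaf 91)) (.node (.leaf 0) (.leaf 0)))) (.node (.node (.node (.leaf 78) (.leaf 0)) (.node (.leaf 0) (.leaf 0))) (.node (.node (.leaf 29) (.leaf 40)) (.leaf 0)))))) (.node (.node (.node (.node (.node (.node (.leaf 0) (.leaf 0)) (.node (.leaf 0) (.leaf 0))) (.node (.node (.leaf 0) (.leaf 0)) (.node (.leaf 0) (.leaf 125)))) (.node (.node (.node (.leaf 0) (.leaf 43)) (.node (.leaf 33) (.leaf 0))) (.node (.node (.leaf 0) (.leaf 0)) (.node (.leaf 0) (.leaf 0))))) (.node (.node (.node (.node (.leaf 0) (.leaf 33)) (.node (.leaf 92) (.leaf 0))) (.node (.node (.leaf 0) (.leaf 0)) (.node (.leaf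 59) (.leaf 0)))) (.node (.node (.node (.leaf 0) (.leaf 91)) (.node (.leaf 0) (.leaf 0))) (.node (.node (.leaf 0) (.leaf 0)) (.leaf 0))))) (.node (.node (.node (.node (.node (.leaf 64) (.leaf 0)) (.node (.leaf 93) (.leaf 0))) (.node (.node (.leaf 0) (.leaf 0)) (.node (.leaf 0) (.leaf 79)))) (.node (.node (.node (.leaf 0) (.leaf 0)) (.node (.leaf 0) (.leaf 79))) (.node (.node (.leaf 0) (.leaf 0)) (.leaf 0)))) (.node (.node (.node (.node (.leaf 0) (.leaf 0)) (.node (.leaf 0) (.leaf 0))) (.node (.node (.leaf 0) (.leaf 105)) (.node (.leaf 0) (.leaf 0)))) (.node (.node (.node (.leaf 0) (.leaf 0)) (.node (.leaf 0) (.leaf 0))) (.node (.node (.leaf 0) (.leaf 0)) (.leaf 0)))))))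

/-- Part of `posT`. -/
def posT_p111011 : Tr := .node (.node (.node (.node (.node (.node (.node (.node (.leaf 0) (.leaf 0)) (.node (.leaf 0) (.leaf 109))) (.node (.node (.leaf 0) (.leaf 0)) (.node (.leaf 75) (.leaf 119)))) (.node (.node (.node (.leaf 0) (.leaf 91)) (.node (.leaf 0) (.leaf 0))) (.node (.node (.leaf 0) (.leaf 0)) (.node (.leaf 0) (.leaf 0))))) (.node (.node (.node (.node (.leaf 0) (.leaf 0)) (.node (.leaf 0) (.leaf 0))) (.node (.node (.leaf 0) (.leaf 109)) (.node (.leaf 0) (.leaf 11)))) (.node (.node (.node (.leaf 0) (.leaf 0)) (.node (.leaf 0) (.leaf 0))) (.node (.node (.leaf 0) (.leaf 0)) (.leaf 0))))) (.node (.node (.node (.node (.node (.leaf 0) (.leaf 0)) (.node (.leaf 82) (.leaf 0))) (.node (.node (.leaf 0) (.leaf 0)) (.node (.leaf 0) (.leaf 0)))) (.node (.node (.node (.leaf 84) (.leaf 63)) (.node (.leaf 0) (.leaf 0))) (.node (.node (.leaf 0) (.leaf 0)) (.leaf 0)))) (.node (.node (.node (.node (.leaf 70) (.leaf 0))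 (.node (.leaf 0) (.leaf 31))) (.node (.node (.leaf 0) (.leaf 0)) (.node (.leaf 0) (.leaf 0)))) (.node (.node (.node (.leaf 0) (.leaf 0)) (.node (.leaf 0) (.leaf 0))) (.node (.node (.leaf 68) (.leaf 0)) (.leaf 0)))))) (.node (.node (.node (.node (.node (.node (.leaf 0) (.leaf 0)) (.node (.leaf 0) (.leaf 0))) (.node (.node (.leaf 0) (.leaf 0)) (.node (.leaf 118) (.leaf 0)))) (.node (.node (.node (.leaf 77) (.leaf 0)) (.node (.leaf 0) (.leaf 55))) (.node (.node (.leaf 0) (.leaf 43)) (.node (.leaf 0) (.leaf 0))))) (.node (.node (.node (.node (.leaf 0) (.leaf 0)) (.node (.leaf 0) (.leaf 0))) (.node (.node (.leaf 0) (.leaf 0)) (.node (.leaf 0) (.leaf 0)))) (.node (.node (.node (.leaf 0) (.leaf 0)) (.node (.leaf 0) (.leaf 0))) (.node (.node (.leaf 57) (.leaf 0)) (.leaf 115))))) (.node (.node (.node (.node (.node (.leaf 0) (.leaf 0)) (.node (.leaf 0) (.leaf 0))) (.node (.node (.leaf 0) (.leaf 0)) (.node (.leaf 104) (.leaf 20)))) (.node (.node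 (.node (.leaf 0) (.leaf 0)) (.node (.leaf 0) (.leaf 0))) (.node (.node (.leaf 0) (.leaf 0)) (.leaf 0)))) (.node (.node (.node (.node (.leaf 0) (.leaf 0)) (.node (.leaf 92) (.leaf 0))) (.node (.node (.leaf 0) (.leaf 0)) (.node (.leaf 0) (.leaf 0)))) (.node (.node (.node (.leaf 0) (.leaf 0)) (.node (.leaf 0) (.leaf 0))) (.node (.node (.leaf 0) (.leaf 0)) (.leaf 0))))))) (.node (.node (.node (.node (.node (.node (.node (.leaf 0) (.leaf 0)) (.node (.leaf 0) (.leaf 0))) (.node (.node (.leaf 0) (.leaf 74)) (.node (.leaf 0) (.leaf 0)))) (.node (.node (.node (.leaf 33) (.leaf 0)) (.node (.leaf 0) (.leaf 0))) (.node (.node (.leaf 115) (.leaf 0)) (.node (.leaf 0) (.leaf 0))))) (.node (.node (.node (.node (.leaf 7) (.leaf 0)) (.node (.leaf 0) (.leaf 0))) (.node (.node (.leaf 0) (.leaf 0)) (.node (.leaf 0) (.leaf 114)))) (.node (.node (.node (.leaf 110) (.leaf 31)) (.node (.leaf 0) (.leaf 28))) (.node (.node (.leaf 0) (.leaf 0)) (.leaf 0))))) (.node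 (.node (.node (.node (.node (.leaf 0) (.leaf 0)) (.node (.leaf 46) (.leaf 0))) (.node (.node (.leaf 123) (.leaf 0)) (.node (.leaf 0) (.leaf 0)))) (.node (.node (.node (.leaf 0) (.leaf 0)) (.node (.leaf 0) (.leaf 0))) (.node (.node (.leaf 0) (.leaf 0)) (.leaf 0)))) (.node (.node (.node (.node (.leaf 0) (.leaf 11)) (.node (.leaf 0) (.leaf 0))) (.node (.node (.leaf 0) (.leaf 0)) (.node (.leaf 0) (.leaf 0)))) (.node (.node (.node (.leaf 0) (.leaf 0)) (.node (.leaf 0) (.leaf 0))) (.node (.node (.leaf 6) (.leaf 0)) (.leaf 0)))))) (.node (.node (.node (.node (.node (.node (.leaf 0) (.leaf 15)) (.node (.leaf 0) (.leaf 0))) (.node (.node (.leaf 52) (.leaf 0)) (.node (.leaf 0) (.leaf 0)))) (.node (.node (.node (.leaf 0) (.leaf 0)) (.node (.leaf 0) (.leaf 0))) (.node (.node (.leaf 0) (.leaf 0)) (.node (.leaf 0) (.leaf 13))))) (.node (.node (.node (.node (.leaf 0) (.leaf 0)) (.node (.leaf 0) (.leaf 0))) (.node (.node (.leaf 0) (.leaf 0)) (.node (.leaf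 0) (.leaf 0)))) (.node (.node (.node (.leaf 15) (.leaf 0)) (.node (.leaf 0) (.leaf 0))) (.node (.node (.leaf 0) (.leaf 0)) (.leaf 0))))) (.node (.node (.node (.node (.node (.leaf 0) (.leaf 0)) (.node (.leaf 0) (.leaf 0))) (.node (.node (.leaf 0) (.leaf 0)) (.node (.leaf 0) (.leaf 0)))) (.node (.node (.node (.leaf 0) (.leaf 0)) (.node (.leaf 0) (.leaf 0))) (.node (.node (.leaf 0) (.leaf 124)) (.leaf 0)))) (.node (.node (.node (.node (.leaf 102) (.leaf 0)) (.node (.leaf 0) (.leaf 53))) (.node (.node (.leaf 0) (.leaf 0)) (.node (.leaf 69) (.leaf 0)))) (.node (.node (.node (.leaf 0) (.leaf 0)) (.node (.leaf 0) (.leaf 0))) (.node (.node (.leaf 0) (.leaf 0)) (.leaf 0)))))))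

/-- Part of `posT`. -/
def posT_p111100 : Tr := .node (.node (.node (.node (.node (.node (.node (.node (.leaf 0) (.leaf 0)) (.node (.leaf 89) (.leaf 0))) (.node (.node (.leaf 0) (.leaf 0)) (.node (.leaf 0) (.leaf 0)))) (.node (.node (.node (.leaf 0) (.leaf 73)) (.node (.leaf 0) (.leaf 115))) (.node (.node (.leaf 0) (.leaf 0)) (.node (.leaf 0) (.leaf 0))))) (.node (.node (.node (.node (.leaf 0) (.leaf 0)) (.node (.leaf 0) (.leaf 0))) (.node (.node (.leaf 20) (.leaf 65)) (.node (.leaf 0) (.leaf 0)))) (.node (.node (.node (.leaf 0) (.leaf 0)) (.node (.leaf 0) (.leaf 0))) (.node (.node (.leaf 0) (.leaf 0)) (.leaf 0))))) (.node (.node (.node (.node (.node (.leaf 0) (.leaf 0)) (.node (.leaf 0) (.leaf 0))) (.node (.node (.leaf 0) (.leaf 0)) (.node (.leaf 0) (.leaf 0)))) (.node (.node (.node (.leaf 0) (.leaf 0)) (.node (.leaf 0) (.leaf 0))) (.node (.node (.leaf 0) (.leaf 0)) (.leaf 0)))) (.node (.node (.node (.node (.leaf 0) (.leaf 0)) (.node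 (.leaf 0) (.leaf 0))) (.node (.node (.leaf 0) (.leaf 59)) (.node (.leaf 0) (.leaf 0)))) (.node (.node (.node (.leaf 0) (.leaf 96)) (.node (.leaf 0) (.leaf 0))) (.node (.node (.leaf 0) (.leaf 0)) (.leaf 0)))))) (.node (.node (.node (.node (.node (.node (.leaf 0) (.leaf 43)) (.node (.leaf 63) (.leaf 0))) (.node (.node (.leaf 0) (.leaf 0)) (.node (.leaf 0) (.leaf 0)))) (.node (.node (.node (.leaf 0) (.leaf 0)) (.node (.leaf 73) (.leaf 0))) (.node (.node (.leaf 0) (.leaf 0)) (.node (.leaf 0) (.leaf 0))))) (.node (.node (.node (.node (.leaf 69) (.leaf 0)) (.node (.leaf 101) (.leaf 55))) (.node (.node (.leaf 0) (.leaf 0)) (.node (.leaf 55) (.leaf 0)))) (.node (.node (.node (.leaf 0) (.leaf 0)) (.node (.leaf 0) (.leaf 71))) (.node (.node (.leaf 0) (.leaf 0)) (.leaf 0))))) (.node (.node (.node (.node (.node (.leaf 0) (.leaf 101)) (.node (.leaf 0) (.leaf 0))) (.node (.node (.leaf 0) (.leaf 0)) (.node (.leaf 0) (.leaf 0)))) (.node (.node (.node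 (.leaf 37) (.leaf 0)) (.node (.leaf 0) (.leaf 0))) (.node (.node (.leaf 0) (.leaf 117)) (.leaf 0)))) (.node (.node (.node (.node (.leaf 0) (.leaf 122)) (.node (.leaf 0) (.leaf 0))) (.node (.node (.leaf 0) (.leaf 0)) (.node (.leaf 0) (.leaf 60)))) (.node (.node (.node (.leaf 71) (.leaf 15)) (.node (.leaf 0) (.leaf 35))) (.node (.node (.leaf 37) (.leaf 0)) (.leaf 0))))))) (.node (.node (.node (.node (.node (.node (.node (.leaf 76) (.leaf 0)) (.node (.leaf 1) (.leaf 0))) (.node (.node (.leaf 86) (.leaf 0)) (.node (.leaf 0) (.leaf 81)))) (.node (.node (.node (.leaf 0) (.leaf 31)) (.node (.leaf 0) (.leaf 0))) (.node (.node (.leaf 102) (.leaf 0)) (.node (.leaf 0) (.leaf 0))))) (.node (.node (.node (.node (.leaf 67) (.leaf 0)) (.node (.leaf 0) (.leaf 0))) (.node (.node (.leaf 0) (.leaf 0)) (.node (.leaf 0) (.leaf 0)))) (.node (.node (.node (.leaf 0) (.leaf 53)) (.node (.leaf 0) (.leaf 56))) (.node (.node (.leaf 0) (.leaf 0)) (.leaf 0))))) (.node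 (.node (.node (.node (.node (.leaf 0) (.leaf 0)) (.node (.leaf 54) (.leaf 0))) (.node (.node (.leaf 0) (.leaf 0)) (.node (.leaf 0) (.leaf 0)))) (.node (.node (.node (.leaf 0) (.leaf 83)) (.node (.leaf 0) (.leaf 0))) (.node (.node (.leaf 0) (.leaf 0)) (.leaf 98)))) (.node (.node (.node (.node (.leaf 72) (.leaf 0)) (.node (.leaf 73) (.leaf 0))) (.node (.node (.leaf 0) (.leaf 0)) (.node (.leaf 0) (.leaf 0)))) (.node (.node (.node (.leaf 0) (.leaf 0)) (.node (.leaf 0) (.leaf 0))) (.node (.node (.leaf 0) (.leaf 86)) (.leaf 0)))))) (.node (.node (.node (.node (.node (.node (.leaf 0) (.leaf 0)) (.node (.leaf 17) (.leaf 94))) (.node (.node (.leaf 0) (.leaf 0)) (.node (.leaf 0) (.leaf 0)))) (.node (.node (.node (.leaf 0) (.leaf 115)) (.node (.leaf 0) (.leaf 0))) (.node (.node (.leaf 0) (.leaf 0)) (.node (.leaf 0) (.leaf 0))))) (.node (.node (.node (.node (.leaf 0) (.leaf 112)) (.node (.leaf 18) (.leaf 0))) (.node (.node (.leaf 0) (.leaf 0)) (.node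 (.leaf 0) (.leaf 0)))) (.node (.node (.node (.leaf 0) (.leaf 0)) (.node (.leaf 0) (.leaf 0))) (.node (.node (.leaf 0) (.leaf 0)) (.leaf 0))))) (.node (.node (.node (.node (.node (.leaf 0) (.leaf 0)) (.node (.leaf 0) (.leaf 0))) (.node (.node (.leaf 0) (.leaf 0)) (.node (.leaf 0) (.leaf 0)))) (.node (.node (.node (.leaf 0) (.leaf 0)) (.node (.leaf 0) (.leaf 0))) (.node (.node (.leaf 0) (.leaf 0)) (.leaf 0)))) (.node (.node (.node (.node (.leaf 0) (.leaf 0)) (.node (.leaf 110) (.leaf 0))) (.node (.node (.leaf 0) (.leaf 55)) (.node (.leaf 113) (.leaf 0)))) (.node (.node (.node (.leaf 0) (.leaf 0)) (.node (.leaf 0) (.leaf 0))) (.node (.node (.leaf 0) (.leaf 0)) (.leaf 0)))))))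

/-- Part of `posT`. -/
def posT_p111101 : Tr := .node (.node (.node (.node (.node (.node (.node (.node (.leaf 0) (.leaf 85)) (.node (.leaf 0) (.leaf 0))) (.node (.node (.leaf 0) (.leaf 0)) (.node (.leaf 0) (.leaf 0)))) (.node (.node (.node (.leaf 0) (.leaf 0)) (.node (.leaf 0) (.leaf 0))) (.node (.node (.leaf 0) (.leaf 0)) (.node (.leaf 0) (.leaf 0))))) (.node (.node (.node (.node (.leaf 0) (.leaf 0)) (.node (.leaf 0) (.leaf 0))) (.node (.node (.leaf 0) (.leaf 0)) (.node (.leaf 0) (.leaf 0)))) (.node (.node (.node (.leaf 0) (.leaf 4)) (.node (.leaf 0) (.leaf 0))) (.node (.node (.leaf 74) (.leaf 52)) (.leaf 0))))) (.node (.node (.node (.node (.node (.leaf 5) (.leaf 0)) (.node (.leaf 0) (.leaf 117))) (.node (.node (.leaf 0) (.leaf 0)) (.node (.leaf 0) (.leaf 0)))) (.node (.node (.node (.leaf 0) (.leaf 0)) (.node (.leaf 0) (.leaf 0))) (.node (.node (.leaf 20) (.leaf 0)) (.leaf 0)))) (.node (.node (.node (.node (.leaf 52) (.leaf 0)) (.node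 (.leaf 0) (.leaf 0))) (.node (.node (.leaf 17) (.leaf 93)) (.node (.leaf 0) (.leaf 0)))) (.node (.node (.node (.leaf 0) (.leaf 0)) (.node (.leaf 0) (.leaf 0))) (.node (.node (.leaf 0) (.leaf 0)) (.leaf 0)))))) (.node (.node (.node (.node (.node (.node (.leaf 0) (.leaf 0)) (.node (.leaf 0) (.leaf 0))) (.node (.node (.leaf 0) (.leaf 0)) (.node (.leaf 0) (.leaf 0)))) (.node (.node (.node (.leaf 0) (.leaf 7)) (.node (.leaf 0) (.leaf 0))) (.node (.node (.leaf 0) (.leaf 0)) (.node (.leaf 105) (.leaf 36))))) (.node (.node (.node (.node (.leaf 0) (.leaf 0)) (.node (.leaf 0) (.leaf 0))) (.node (.node (.leaf 0) (.leaf 0)) (.node (.leaf 0) (.leaf 0)))) (.node (.node (.node (.leaf 0) (.leaf 34)) (.node (.leaf 0) (.leaf 32))) (.node (.node (.leaf 0) (.leaf 0)) (.leaf 0))))) (.node (.node (.node (.node (.node (.leaf 5) (.leaf 0)) (.node (.leaf 49) (.leaf 0))) (.node (.node (.leaf 0) (.leaf 0)) (.node (.leaf 0) (.leaf 91)))) (.node (.node (.node (.leaf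 0) (.leaf 0)) (.node (.leaf 95) (.leaf 0))) (.node (.node (.leaf 0) (.leaf 36)) (.leaf 0)))) (.node (.node (.node (.node (.leaf 0) (.leaf 0)) (.node (.leaf 0) (.leaf 0))) (.node (.node (.leaf 0) (.leaf 118)) (.node (.leaf 0) (.leaf 0)))) (.node (.node (.node (.leaf 0) (.leaf 0)) (.node (.leaf 0) (.leaf 0))) (.node (.node (.leaf 0) (.leaf 0)) (.leaf 0))))))) (.node (.node (.node (.node (.node (.node (.node (.leaf 0) (.leaf 0)) (.node (.leaf 0) (.leaf 85))) (.node (.node (.leaf 0) (.leaf 0)) (.node (.leaf 78) (.leaf 0)))) (.node (.node (.node (.leaf 0) (.leaf 0)) (.node (.leaf 108) (.leaf 0))) (.node (.node (.leaf 0) (.leaf 0)) (.node (.leaf 0) (.leaf 0))))) (.node (.node (.node (.node (.leaf 0) (.leaf 0)) (.node (.leaf 0) (.leaf 0))) (.node (.node (.leaf 0) (.leaf 0)) (.node (.leaf 0) (.leaf 0)))) (.node (.node (.node (.leaf 0) (.leaf 0)) (.node (.leaf 0) (.leaf 0))) (.node (.node (.leaf 0) (.leaf 0)) (.leaf 0))))) (.node (.node (.node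 (.node (.node (.leaf 0) (.leaf 0)) (.node (.leaf 0) (.leaf 92))) (.node (.node (.leaf 41) (.leaf 0)) (.node (.leaf 0) (.leaf 0)))) (.node (.node (.node (.leaf 39) (.leaf 0)) (.node (.leaf 0) (.leaf 0))) (.node (.node (.leaf 0) (.leaf 0)) (.leaf 0)))) (.node (.node (.node (.node (.leaf 0) (.leaf 0)) (.node (.leaf 0) (.leaf 0))) (.node (.node (.leaf 0) (.leaf 0)) (.node (.leaf 0) (.leaf 0)))) (.node (.node (.node (.leaf 0) (.leaf 35)) (.node (.leaf 0) (.leaf 0))) (.node (.node (.leaf 0) (.leaf 0)) (.leaf 0)))))) (.node (.node (.node (.node (.node (.node (.leaf 0) (.leaf 0)) (.node (.leaf 0) (.leaf 0))) (.node (.node (.leaf 0) (.leaf 0)) (.node (.leaf 0) (.leaf 0)))) (.node (.node (.node (.leaf 62) (.leaf 0)) (.node (.leaf 0) (.leaf 0))) (.node (.node (.leaf 0) (.leaf 0)) (.node (.leaf 0) (.leaf 88))))) (.node (.node (.node (.node (.leaf 88) (.leaf 0)) (.node (.leaf 33) (.leaf 124))) (.node (.node (.leaf 0) (.leaf 0)) (.node (.leaf 0) (.leaf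 0)))) (.node (.node (.node (.leaf 0) (.leaf 36)) (.node (.leaf 0) (.leaf 0))) (.node (.node (.leaf 97) (.leaf 0)) (.leaf 0))))) (.node (.node (.node (.node (.node (.leaf 0) (.leaf 0)) (.node (.leaf 0) (.leaf 0))) (.node (.node (.leaf 0) (.leaf 0)) (.node (.leaf 0) (.leaf 0)))) (.node (.node (.node (.leaf 0) (.leaf 0)) (.node (.leaf 0) (.leaf 0))) (.node (.node (.leaf 109) (.leaf 0)) (.leaf 0)))) (.node (.node (.node (.node (.leaf 42) (.leaf 0)) (.node (.leaf 0) (.leaf 0))) (.node (.node (.leaf 0) (.leaf 0)) (.node (.leaf 0) (.leaf 0)))) (.node (.node (.node (.leaf 0) (.leaf 0)) (.node (.leaf 0) (.leaf 0))) (.node (.node (.leaf 0) (.leaf 0)) (.leaf 4)))))))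

/-- Part of `posT`. -/
def posT_p111110 : Tr := .node (.node (.node (.node (.node (.node (.node (.node (.leaf 90) (.leaf 0)) (.node (.leaf 104) (.leaf 0))) (.node (.node (.leaf 0) (.leaf 0)) (.node (.leaf 0) (.leaf 0)))) (.node (.node (.node (.leaf 41) (.leaf 0)) (.node (.leaf 0) (.leaf 0))) (.node (.node (.leaf 0) (.leaf 28)) (.node (.leaf 0) (.leaf 0))))) (.node (.node (.node (.node (.leaf 5) (.leaf 0)) (.node (.leaf 0) (.leaf 0))) (.node (.node (.leaf 0) (.leaf 0)) (.node (.leaf 0) (.leaf 0)))) (.node (.node (.node (.leaf 0) (.leaf 0)) (.node (.leaf 0) (.leaf 0))) (.node (.node (.leaf 0) (.leaf 63)) (.leaf 0))))) (.node (.node (.node (.node (.node (.leaf 0) (.leaf 94)) (.node (.leaf 0) (.leaf 0))) (.node (.node (.leaf 0) (.leaf 0)) (.node (.leaf 0) (.leaf 0)))) (.node (.node (.node (.leaf 0) (.leaf 0)) (.node (.leaf 0) (.leaf 0))) (.node (.node (.leaf 0) (.leaf 0)) (.leaf 0)))) (.node (.node (.node (.node (.leaf 0) (.leaf 92)) (.node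 (.leaf 0) (.leaf 0))) (.node (.node (.leaf 0) (.leaf 0)) (.node (.leaf 0) (.leaf 0)))) (.node (.node (.node (.leaf 0) (.leaf 62)) (.node (.leaf 26) (.leaf 0))) (.node (.node (.leaf 0) (.leaf 0)) (.leaf 0)))))) (.node (.node (.node (.node (.node (.node (.leaf 0) (.leaf 0)) (.node (.leaf 72) (.leaf 0))) (.node (.node (.leaf 0) (.leaf 0)) (.node (.leaf 26) (.leaf 0)))) (.node (.node (.node (.leaf 68) (.leaf 0)) (.node (.leaf 0) (.leaf 0))) (.node (.node (.leaf 0) (.leaf 0)) (.node (.leaf 0) (.leaf 56))))) (.node (.node (.node (.node (.leaf 0) (.leaf 56)) (.node (.leaf 9) (.leaf 0))) (.node (.node (.leaf 0) (.leaf 0)) (.node (.leaf 0) (.leaf 0)))) (.node (.node (.node (.leaf 0) (.leaf 0)) (.node (.leaf 0) (.leaf 0))) (.node (.node (.leaf 0) (.leaf 0)) (.leaf 21))))) (.node (.node (.node (.node (.node (.leaf 111) (.leaf 0)) (.node (.leaf 0) (.leaf 0))) (.node (.node (.leaf 0) (.leaf 60)) (.node (.leaf 0) (.leaf 15)))) (.node (.node (.node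 (.leaf 0) (.leaf 0)) (.node (.leaf 0) (.leaf 0))) (.node (.node (.leaf 0) (.leaf 0)) (.leaf 0)))) (.node (.node (.node (.node (.leaf 0) (.leaf 0)) (.node (.leaf 0) (.leaf 60))) (.node (.node (.leaf 0) (.leaf 0)) (.node (.leaf 0) (.leaf 0)))) (.node (.node (.node (.leaf 0) (.leaf 0)) (.node (.leaf 0) (.leaf 0))) (.node (.node (.leaf 0) (.leaf 0)) (.leaf 0))))))) (.node (.node (.node (.node (.node (.node (.node (.leaf 0) (.leaf 0)) (.node (.leaf 0) (.leaf 0))) (.node (.node (.leaf 0) (.leaf 0)) (.node (.leaf 0) (.leaf 50)))) (.node (.node (.node (.leaf 0) (.leaf 0)) (.node (.leaf 0) (.leaf 0))) (.node (.node (.leaf 32) (.leaf 0)) (.node (.leaf 0) (.leaf 0))))) (.node (.node (.node (.node (.leaf 0) (.leaf 0)) (.node (.leaf 0) (.leaf 0))) (.node (.node (.leaf 0) (.leaf 26)) (.node (.leaf 0) (.leaf 83)))) (.node (.node (.node (.leaf 33) (.leaf 124)) (.node (.leaf 0) (.leaf 0))) (.node (.node (.leaf 0) (.leaf 0)) (.leaf 0))))) (.node (.node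 (.node (.node (.node (.leaf 0) (.leaf 35)) (.node (.leaf 0) (.leaf 0))) (.node (.node (.leaf 0) (.leaf 0)) (.node (.leaf 0) (.leaf 0)))) (.node (.node (.node (.leaf 0) (.leaf 61)) (.node (.leaf 0) (.leaf 0))) (.node (.node (.leaf 0) (.leaf 0)) (.leaf 0)))) (.node (.node (.node (.node (.leaf 0) (.leaf 0)) (.node (.leaf 0) (.leaf 0))) (.node (.node (.leaf 0) (.leaf 0)) (.node (.leaf 0) (.leaf 40)))) (.node (.node (.node (.leaf 57) (.leaf 0)) (.node (.leaf 0) (.leaf 0))) (.node (.node (.leaf 0) (.leaf 0)) (.leaf 0)))))) (.node (.node (.node (.node (.node (.node (.leaf 0) (.leaf 0)) (.node (.leaf 0) (.leaf 0))) (.node (.node (.leaf 75) (.leaf 42)) (.node (.leaf 0) (.leaf 0)))) (.node (.node (.node (.leaf 0) (.leaf 0)) (.node (.leaf 0) (.leaf 0))) (.node (.node (.leaf 79) (.leaf 0)) (.node (.leaf 0) (.leaf 0))))) (.node (.node (.node (.node (.leaf 0) (.leaf 0)) (.node (.leaf 0) (.leaf 0))) (.node (.node (.leaf 0) (.leaf 0)) (.node (.leaf 0)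 (.leaf 0)))) (.node (.node (.node (.leaf 0) (.leaf 21)) (.node (.leaf 0) (.leaf 0))) (.node (.node (.leaf 44) (.leaf 0)) (.leaf 0))))) (.node (.node (.node (.node (.node (.leaf 0) (.leaf 0)) (.node (.leaf 0) (.leaf 0))) (.node (.node (.leaf 0) (.leaf 0)) (.node (.leaf 0) (.leaf 31)))) (.node (.node (.node (.leaf 113) (.leaf 0)) (.node (.leaf 0) (.leaf 0))) (.node (.node (.leaf 34) (.leaf 65)) (.leaf 0)))) (.node (.node (.node (.node (.leaf 0) (.leaf 0)) (.node (.leaf 0) (.leaf 0))) (.node (.node (.leaf 0) (.leaf 0)) (.node (.leaf 0) (.leaf 0)))) (.node (.node (.node (.leaf 0) (.leaf 0)) (.node (.leaf 118) (.leaf 0))) (.node (.node (.leaf 0) (.leaf 0)) (.leaf 0)))))))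

/-- Part of `posT`. -/
def posT_p111111 : Tr := .node (.node (.node (.node (.node (.node (.node (.node (.leaf 111) (.leaf 0)) (.node (.leaf 0) (.leaf 0))) (.node (.node (.leaf 0) (.leaf 0)) (.node (.leaf 0) (.leaf 0)))) (.node (.node (.node (.leaf 0) (.leaf 0)) (.node (.leaf 0) (.leaf 0))) (.node (.node (.leaf 119) (.leaf 0)) (.node (.leaf 25) (.leaf 0))))) (.node (.node (.node (.node (.leaf 0) (.leaf 0)) (.node (.leaf 0) (.leaf 0))) (.node (.node (.leaf 0) (.leaf 46)) (.node (.leaf 0) (.leaf 0)))) (.node (.node (.node (.leaf 0) (.leaf 0)) (.node (.leaf 0) (.leaf 0))) (.node (.node (.leaf 0) (.leaf 0)) (.leaf 0))))) (.node (.node (.node (.node (.node (.leaf 0) (.leaf 0)) (.node (.leaf 35) (.leaf 0))) (.node (.node (.leaf 0) (.leaf 0)) (.node (.leaf 28) (.leaf 0)))) (.node (.node (.node (.leaf 0) (.leaf 0)) (.node (.leaf 0) (.leaf 0))) (.node (.node (.leaf 0) (.leaf 0)) (.leaf 0)))) (.node (.node (.node (.node (.leaf 0) (.leaf 0)) (.node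 (.leaf 0) (.leaf 17))) (.node (.node (.leaf 0) (.leaf 0)) (.node (.leaf 0) (.leaf 0)))) (.node (.node (.node (.leaf 0) (.leaf 0)) (.node (.leaf 0) (.leaf 36))) (.node (.node (.leaf 0) (.leaf 0)) (.leaf 0)))))) (.node (.node (.node (.node (.node (.node (.leaf 76) (.leaf 63)) (.node (.leaf 0) (.leaf 0))) (.node (.node (.leaf 96) (.leaf 0)) (.node (.leaf 0) (.leaf 108)))) (.node (.node (.node (.leaf 110) (.leaf 117)) (.node (.leaf 0) (.leaf 120))) (.node (.node (.leaf 0) (.leaf 0)) (.node (.leaf 84) (.leaf 0))))) (.node (.node (.node (.node (.leaf 0) (.leaf 0)) (.node (.leaf 0) (.leaf 0))) (.node (.node (.leaf 0) (.leaf 0)) (.node (.leaf 0) (.leaf 0)))) (.node (.node (.node (.leaf 0) (.leaf 0)) (.node (.leaf 0) (.leaf 0))) (.node (.node (.leaf 3) (.leaf 0)) (.leaf 0))))) (.node (.node (.node (.node (.node (.leaf 0) (.leaf 0)) (.node (.leaf 0) (.leaf 0))) (.node (.node (.leaf 0) (.leaf 0)) (.node (.leaf 0) (.leaf 0)))) (.node (.node (.node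 (.leaf 81) (.leaf 0)) (.node (.leaf 84) (.leaf 0))) (.node (.node (.leaf 0) (.leaf 114)) (.leaf 0)))) (.node (.node (.node (.node (.leaf 0) (.leaf 0)) (.node (.leaf 0) (.leaf 0))) (.node (.node (.leaf 0) (.leaf 0)) (.node (.leaf 0) (.leaf 59)))) (.node (.node (.node (.leaf 0) (.leaf 20)) (.node (.leaf 0) (.leaf 0))) (.node (.node (.leaf 0) (.leaf 0)) (.leaf 7))))))) (.node (.node (.node (.node (.node (.node (.node (.leaf 0) (.leaf 0)) (.node (.leaf 0) (.leaf 0))) (.node (.node (.leaf 1) (.leaf 0)) (.node (.leaf 0) (.leaf 0)))) (.node (.node (.node (.leaf 0) (.leaf 0)) (.node (.leaf 0) (.leaf 0))) (.node (.node (.leaf 0) (.leaf 0)) (.node (.leaf 0) (.leaf 0))))) (.node (.node (.node (.node (.leaf 0) (.leaf 0)) (.node (.leaf 0) (.leaf 0))) (.node (.node (.leaf 0) (.leaf 0)) (.node (.leaf 0) (.leaf 0)))) (.node (.node (.node (.leaf 0) (.leaf 0)) (.node (.leaf 0) (.leaf 74))) (.node (.node (.leaf 0) (.leaf 0)) (.leaf 0))))) (.node (.node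 (.node (.node (.node (.leaf 0) (.leaf 0)) (.node (.leaf 0) (.leaf 0))) (.node (.node (.leaf 94) (.leaf 0)) (.node (.leaf 0) (.leaf 0)))) (.node (.node (.node (.leaf 19) (.leaf 0)) (.node (.leaf 0) (.leaf 0))) (.node (.node (.leaf 0) (.leaf 55)) (.leaf 0)))) (.node (.node (.node (.node (.leaf 0) (.leaf 110)) (.node (.leaf 0) (.leaf 21))) (.node (.node (.leaf 0) (.leaf 0)) (.node (.leaf 47) (.leaf 0)))) (.node (.node (.node (.leaf 0) (.leaf 0)) (.node (.leaf 0) (.leaf 104))) (.node (.node (.leaf 0) (.leaf 71)) (.leaf 0)))))) (.node (.node (.node (.node (.node (.node (.leaf 76) (.leaf 0)) (.node (.leaf 0) (.leaf 43))) (.node (.node (.leaf 0) (.leaf 0)) (.node (.leaf 0) (.leaf 0)))) (.node (.node (.node (.leaf 0) (.leaf 32)) (.node (.leaf 0) (.leaf 0))) (.node (.node (.leaf 0) (.leaf 0)) (.node (.leaf 0) (.leaf 122))))) (.node (.node (.node (.node (.leaf 75) (.leaf 0)) (.node (.leaf 0) (.leaf 0))) (.node (.node (.leaf 0) (.leaf 12)) (.node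 (.leaf 0) (.leaf 0)))) (.node (.node (.node (.leaf 0) (.leaf 0)) (.node (.leaf 0) (.leaf 0))) (.node (.node (.leaf 0) (.leaf 0)) (.leaf 0))))) (.node (.node (.node (.node (.node (.leaf 0) (.leaf 0)) (.node (.leaf 0) (.leaf 91))) (.node (.node (.leaf 0) (.leaf 120)) (.node (.leaf 0) (.leaf 117)))) (.node (.node (.node (.leaf 0) (.leaf 0)) (.node (.leaf 0) (.leaf 0))) (.node (.node (.leaf 0) (.leaf 1)) (.leaf 0)))) (.node (.node (.node (.node (.leaf 39) (.leaf 0)) (.node (.leaf 0) (.leaf 0))) (.node (.node (.leaf 0) (.leaf 0)) (.node (.leaf 0) (.leaf 0)))) (.node (.node (.node (.leaf 85) (.leaf 79)) (.node (.leaf 0) (.leaf 0))) (.node (.node (.leaf 0) (.leaf 0)) (.leaf 0)))))))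

/-- The point of each isotropic code. -/
def posT : Tr := .node (.node (.node (.node (.node (.node (posT_p000000) (posT_p000001)) (.node (posT_p000010) (posT_p000011))) (.node (.node (posT_p000100) (posT_p000101)) (.node (posT_p000110) (posT_p000111)))) (.node (.node (.node (posT_p001000) (posT_p001001)) (.node (posT_p001010) (posT_p001011))) (.node (.node (posT_p001100) (posT_p001101)) (.node (posT_p001110) (posT_p001111))))) (.node (.node (.node (.node (posT_p010000) (posT_p010001)) (.node (posT_p010010) (posT_p010011))) (.node (.node (posT_p010100) (posT_p010101)) (.node (posT_p010110) (posT_p010111)))) (.node (.node (.node (posT_p011000) (posT_p011001)) (.node (posT_p011010) (posT_p011011))) (.node (.node (posT_p011100) (posT_p011101)) (.node (posT_p011110) (posT_p011111)))))) (.node (.node (.node (.node (.node (posT_p100000) (posT_p100001)) (.node (posT_p100010) (posT_p100011))) (.node (.node (posT_p100100) (posT_p100101)) (.node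 (posT_p100110) (posT_p100111)))) (.node (.node (.node (posT_p101000) (posT_p101001)) (.node (posT_p101010) (posT_p101011))) (.node (.node (posT_p101100) (posT_p101101)) (.node (posT_p101110) (posT_p101111))))) (.node (.node (.node (.node (posT_p110000) (posT_p110001)) (.node (posT_p110010) (posT_p110011))) (.node (.node (posT_p110100) (posT_p110101)) (.node (posT_p110110) (posT_p110111)))) (.node (.node (.node (posT_p111000) (posT_p111001)) (.node (posT_p111010) (posT_p111011))) (.node (.node (posT_p111100) (posT_p111101)) (.node (posT_p111110) (posT_p111111))))))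

end CfsgLib.Sporadic.ConwayPsu35
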